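import Cfsg.Agent.Lib.Lie.PMin.Two
import Cfsg.Agent.Lib.Lie.Over.SmallCases

/-!
`A₆` in characteristic two: the overgroups of a Sylow subgroup lie in one of two copies of `S₄`.
-/

set_option autoImplicit false
set_option maxRecDepth 8000
set_option quotPrecheck false
set_option synthInstance.maxSize 8000
set_option synthInstance.maxHeartbeats 200000

namespace Cfsg.Agent.Lie.PMin

open Cfsg Cfsg.Agent.Lie.Over

local notation "A6" => ↥(alternatingGroup (Fin 6))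

/-- A central involution of the Sylow subgroup. -/
def z6 : A6 := ⟨Equiv.swap 0 2 * Equiv.swap 1 3, Equiv.Perm.mem_alternatingGroup.2 (by decide)⟩

/-- An odd permutation centralised by one `S₄`. -/
def τ6 : Equiv.Perm (Fin 6) := Equiv.swap 0 2 * Equiv.swap 1 3 * Equiv.swap 4 5

/-- An odd permutation centralised by the other. -/
def σ6 : Equiv.Perm (Fin 6) := Equiv.swap 4 5

theorem checks_six :
    (∀ a : A6, a * z6 = z6 * a → a ≠ 1 → a = z6 ∨ ∃ u : A6, u * z6 = z6 * u ∧ u * a * u⁻¹ * a⁻¹ = z6) ∧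
    (∀ g : A6, g * z6 = z6 * g → (g : Equiv.Perm (Fin 6)) * τ6 = τ6 * g ∧
      (g : Equiv.Perm (Fin 6)) * σ6 = σ6 * g) ∧
    (∀ g : A6, (g : Equiv.Perm (Fin 6)) * τ6 = τ6 * g → (g : Equiv.Perm (Fin 6)) * σ6 = σ6 * g →
      g * z6 = z6 * g) := by
  decide +kernel

theorem checks_six_fusion : ∀ g a : A6, a * z6 = z6 * a → a ≠ 1 → a ≠ z6 →
    g * z6 * g⁻¹ * z6 = z6 * (g * z6 * g⁻¹) → g * a * g⁻¹ * z6 = z6 * (g * a * g⁻¹) →
    (g : Equiv.Perm (Fin 6)) * τ6 = τ6 * g ∨ (g : Equiv.Perm (Fin 6)) * σ6 = σ6 * g := by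
  decide +kernel

theorem checks_six_proper : (∃ g : A6, ¬ (g : Equiv.Perm (Fin 6)) * τ6 = τ6 * g ∧
      (g : Equiv.Perm (Fin 6)) * σ6 = σ6 * g) ∧
    (∃ g : A6, ¬ (g : Equiv.Perm (Fin 6)) * σ6 = σ6 * g ∧
      (g : Equiv.Perm (Fin 6)) * τ6 = τ6 * g) ∧
    Fintype.card {g : A6 // g * z6 = z6 * g} = 8 := by
  decide +kernel

theorem exists_ne_one_of_ne_bot {G : Type*} [Group G] {R : Subgroup G} (h : R ≠ ⊥) :
    ∃ a : R, a ≠ 1 :=
  haveI := R.nontrivial_iff_ne_bot.2 h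
  exists_ne 1

theorem verdict_alt_six : Verdict 2 A6 := by
  haveI : Fact (Nat.Prime 2) := ⟨Nat.prime_two⟩
  haveI : IsSimpleGroup A6 := alternatingGroup.isSimpleGroup (by simp)
  have hcard : Nat.card A6 = 360 := by rw [nat_card_alternatingGroup, Nat.card_fin]; rfl
  obtain ⟨h1, h2, h3⟩ := checks_six
  obtain ⟨⟨g₁, hg₁, hg₁'⟩, ⟨g₂, hg₂, hg₂'⟩, h8⟩ := checks_six_proper
  set Z : Subgroup A6 := Subgroup.centralizer {z6} with hZ
  have hZm : ∀ g : A6, g ∈ Z ↔ g * z6 = z6 * g := fun g => by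
    rw [hZ, Subgroup.mem_centralizer_singleton_iff]
  let P : Subgroup A6 := (Subgroup.centralizer {τ6}).subgroupOf (alternatingGroup (Fin 6))
  let Q : Subgroup A6 := (Subgroup.centralizer {σ6}).subgroupOf (alternatingGroup (Fin 6))
  have hPm : ∀ g : A6, g ∈ P ↔ (g : Equiv.Perm (Fin 6)) * τ6 = τ6 * g := fun g => by
    rw [Subgroup.mem_subgroupOf, Subgroup.mem_centralizer_singleton_iff]
  have hQm : ∀ g : A6, g ∈ Q ↔ (g : Equiv.Perm (Fin 6)) * σ6 = σ6 * g := fun g => by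
    rw [Subgroup.mem_subgroupOf, Subgroup.mem_centralizer_singleton_iff]
  have hZcard : Nat.card Z = 8 := by
    rw [Nat.card_congr (Equiv.subtypeEquivRight (p := fun g => g ∈ Z) hZm), Nat.card_eq_fintype_card]
    exact h8
  have hZp : IsPGroup 2 Z := IsPGroup.of_card (n := 3) (by rw [hZcard]; rfl)
  let U : Sylow 2 A6 := hZp.toSylow (by
    have := Z.card_mul_index
    rw [hZcard, hcard] at this
    omega)
  have hU : (U : Subgroup A6) = Z := rfl
  have hUP : Z ≤ P := fun g hg => (hPm g).2 (h2 g ((hZm g).1 hg)).1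
  have hUQ : Z ≤ Q := fun g hg => (hQm g).2 (h2 g ((hZm g).1 hg)).2
  have hPQ : ¬ P ≤ Q := fun h => hg₂ ((hQm _).1 (h ((hPm _).2 hg₂')))
  have hQP : ¬ Q ≤ P := fun h => hg₁ ((hPm _).1 (h ((hQm _).2 hg₁')))
  have hPt : P ≠ ⊤ := fun h => hQP (h ▸ le_top)
  have hQt : Q ≠ ⊤ := fun h => hPQ (h ▸ le_top)
  refine verdict_two U hUP hUQ hPt hQt hPQ hQP (fun H hUH hH => ?_) ?_ ?_
    fun _ => Or.inr (Or.inr ⟨MulEquiv.refl _⟩)
  · obtain ⟨R, hRp, hR0, hRH, hRn⟩ := exists_core (coreFreeTop_order360 hcard) U hUH hH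
    have hRU : R ≤ Z :=
      le_of_normalized U.not_dvd_index hRp fun g hg r hr => hRn g (hUH hg) r hr
    have hzR : z6 ∈ R := by
      obtain ⟨⟨a, ha⟩, ha1⟩ := exists_ne_one_of_ne_bot hR0
      have ha1' : a ≠ 1 := fun e => ha1 (Subtype.ext e)
      rcases h1 a ((hZm a).1 (hRU ha)) ha1' with rfl | ⟨u, hu, e⟩
      · exact ha
      · rw [← e]
        exact mul_mem (hRn u (hUH (show u ∈ Z from (hZm u).2 hu)) a ha) (inv_mem ha)
    have hcase : ∀ g ∈ H, g ∈ P ∨ g ∈ Q := by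
      intro g hg
      by_cases hsmall : ∀ a ∈ R, a = 1 ∨ a = z6
      · refine Or.inl (hUP ((hZm g).2 ?_))
        rcases hsmall _ (hRn g hg _ hzR) with e | e
        · exact absurd (conj_eq_one_iff.1 e) (by decide +kernel)
        · exact mul_inv_eq_iff_eq_mul.1 e
      · push Not at hsmall
        obtain ⟨a, ha, ha1, haz⟩ := hsmall
        exact (checks_six_fusion g a ((hZm a).1 (hRU ha)) ha1 haz ((hZm _).1 (hRU (hRn g hg _ hzR)))
          ((hZm _).1 (hRU (hRn g hg _ ha)))).imp (hPm g).2 (hQm g).2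
    by_contra hcon
    push Not at hcon
    obtain ⟨a, haH, haP⟩ := SetLike.not_le_iff_exists.1 hcon.1
    obtain ⟨b, hbH, hbQ⟩ := SetLike.not_le_iff_exists.1 hcon.2
    have haQ := (hcase a haH).resolve_left haP
    have hbP := (hcase b hbH).resolve_right hbQ
    rcases hcase _ (mul_mem haH hbH) with h | h
    · exact haP ((Subgroup.mul_mem_cancel_right P hbP).1 h)
    · exact hbQ ((Subgroup.mul_mem_cancel_left Q haQ).1 h)
  · refine le_trans (fun g hg => (hZm g).2 (h3 g ((hPm g).1 hg.1) ((hQm g).1 hg.2))) ?_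
    exact Subgroup.le_normalizer
  · intro htop
    haveI : (U : Subgroup A6).Normal := Subgroup.normalizer_eq_top_iff.1 htop
    rcases Subgroup.Normal.eq_bot_or_eq_top (H := (U : Subgroup A6)) inferInstance with h | h
    · rw [hU] at h
      rw [h, Subgroup.card_bot] at hZcard
      exact absurd hZcard (by norm_num)
    · exact hPt (top_le_iff.1 (h ▸ hUP))

end Cfsg.Agent.Lie.PMin
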