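import Cfsg.Agent.Lib.Lie.PMin.Base
import Cfsg.Agent.Lib.Lie.Over.BN
import Cfsg.Agent.Lib.Lie.BNHom
import Cfsg.Agent.Lib.Lie.BNTits

/-!
Split (B,N)-pairs: automorphisms fixing `U` permute the minimal parabolic subgroups; a group of them with
few invariant parabolics is transitive.
-/

set_option autoImplicit false
set_option linter.unusedSectionVars false

namespace Cfsg.Agent.Lie.PMin

open Cfsg Cfsg.Agent.Lie Cfsg.Agent.Lie.Over
open scoped Pointwise

/-- An element of odd prime power order cannot interchange two subgroups. -/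
theorem eq_two_of_swap {K : Type*} [Group K] {p : ℕ} [hp : Fact p.Prime] {A : Subgroup (MulAut K)}
    (hA : IsPGroup p A) {a : MulAut K} (ha : a ∈ A) {P Q : Subgroup K}
    (h1 : P.map a.toMonoidHom = Q) (h2 : Q.map a.toMonoidHom = P) (hne : P ≠ Q) : p = 2 := by
  by_contra h2p
  obtain ⟨k, hk⟩ := hA ⟨a, ha⟩
  have hodd : Odd (p ^ k) := (hp.out.odd_of_ne_two h2p).pow
  obtain ⟨m, hm⟩ := hodd
  have hrep : ∀ j : ℕ, P.map (a ^ (2 * j)).toMonoidHom = P := by
    intro j
    induction j with
    | zero =>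
      conv_rhs => rw [← Subgroup.map_id P]
      congr 1
    | succ j ih =>
      have e : (a ^ (2 * (j + 1))).toMonoidHom = (a.toMonoidHom.comp a.toMonoidHom).comp (a ^ (2 * j)).toMonoidHom := by
        ext x
        simp [pow_succ', mul_add, MulAut.mul_apply, mul_one]
      rw [e, ← Subgroup.map_map, ih, ← Subgroup.map_map, h1, h2]
  have h3 : a ^ (2 * m + 1) = 1 := hm ▸ congrArg Subtype.val hk
  refine hne ?_
  have h4 := hrep m
  rw [← h1]
  calc P = P.map (a ^ (2 * m + 1)).toMonoidHom := by
        rw [h3]; exact (Subgroup.map_id P).symm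
    _ = (P.map (a ^ (2 * m)).toMonoidHom).map a.toMonoidHom := by
        rw [Subgroup.map_map]; congr 1
        ext x
        simp [pow_succ', MulAut.mul_apply]
    _ = P.map a.toMonoidHom := by rw [h4]

section BN

variable {G : Type*} [Group G] [Finite G] {P : Cfsg.BNPair G} {p : ℕ} [Fact p.Prime] {U : Subgroup G}

/-- The minimal parabolic subgroup of a node. -/
def par (P : Cfsg.BNPair G) (s : P.S) : Subgroup G := P.parabolic {(s : G)}

theorem sub_S (s : P.S) : ({(s : G)} : Set G) ⊆ P.S := Set.singleton_subset_iff.2 s.2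

theorem mem_par (s : P.S) : (s : G) ∈ par P s :=
  Subgroup.mem_sup_right (Subgroup.subset_closure rfl)

theorem B_le_par (s : P.S) : P.B ≤ par P s := le_sup_left

theorem par_le_iff {s : P.S} {M : Subgroup G} (hM : P.B ≤ M) : par P s ≤ M ↔ (s : G) ∈ M := by
  refine ⟨fun h => h (mem_par s), fun h => sup_le hM ((Subgroup.closure_le _).2 ?_)⟩
  simpa using h

theorem par_injective {s t : P.S} (h : par P s = par P t) : s = t :=
  Subtype.ext (Set.singleton_eq_singleton_iff.1 (parabolic_injective P (sub_S s) (sub_S t) h))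

theorem exists_mem_S {M : Subgroup G} (hM : P.B ≤ M) (hne : M ≠ P.B) : ∃ s : P.S, (s : G) ∈ M := by
  by_contra hcon
  push Not at hcon
  refine hne ?_
  rw [eq_parabolic P M hM]
  have : {s | s ∈ P.S ∧ s ∈ M} = (∅ : Set G) :=
    Set.eq_empty_iff_forall_notMem.2 fun x hx => hcon ⟨x, hx.1⟩ hx.2
  rw [this, Cfsg.BNPair.parabolic, Subgroup.closure_empty, sup_bot_eq]

theorem eq_top_of_all {M : Subgroup G} (hM : P.B ≤ M) (h : ∀ s : P.S, (s : G) ∈ M) : M = ⊤ := by
  rw [eq_top_iff, ← parabolic_S P]
  exact sup_le hM ((Subgroup.closure_le _).2 fun x hx => h ⟨x, hx⟩)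

theorem par_ne_B (s : P.S) : par P s ≠ P.B := fun h => s_notMem_B P s (h ▸ mem_par s)

variable (h : Split P p U)
include h

/-- `U` as a Sylow subgroup. -/
noncomputable def sylow : Sylow p G := h.pgroup.toSylow h.index

theorem normalizer_eq : Subgroup.normalizer (U : Set G) = P.B := by
  have hB : P.B ≤ Subgroup.normalizer (U : Set G) := fun b hb => Subgroup.mem_normalizer_iff.2 fun u =>
    ⟨h.conj b hb u, fun hu => by simpa [mul_assoc] using h.conj b⁻¹ (inv_mem hb) _ hu⟩
  by_contra hne
  obtain ⟨s, hs⟩ := exists_mem_S hB hne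
  have key : ∀ b ∈ P.B, (s : G) * b * (s : G)⁻¹ ∈ P.B := by
    intro b hb
    obtain ⟨u, hu, ht⟩ := h.split b hb
    have h1 := P.conj_mem _ (P.subset s.2) (u⁻¹ * b) ⟨P.B.mul_mem (P.B.inv_mem (h.le hu)) hb, ht⟩
    have h2 := P.B.mul_mem (h.le ((Subgroup.mem_normalizer_iff.1 hs u).1 hu)) h1
    simpa [mul_assoc] using h2
  refine P.conj_ne s s.2 (Set.ext fun x => ⟨?_, fun hx => ?_⟩)
  · rintro ⟨b, hb, rfl⟩
    have := mul_mem (key b hb) (P.sq_mem s s.2)
    simpa [mul_assoc] using this
  · have h1 := key _ (mul_mem hx (inv_mem (P.sq_mem s s.2)))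
    refine ⟨(s : G)⁻¹ * x * (s : G)⁻¹, ?_, by group⟩
    have h2 := mul_mem (mul_mem (inv_mem (P.sq_mem s s.2)) h1) (P.sq_mem s s.2)
    simpa [mul_assoc] using h2

theorem map_B {a : MulAut G} (ha : U.map a.toMonoidHom = U) : P.B.map a.toMonoidHom = P.B := by
  rw [← normalizer_eq h, map_normalizer_equiv a U, ha]

theorem exists_image {a : MulAut G} (ha : U.map a.toMonoidHom = U) (s : P.S) :
    ∃ t : P.S, (par P s).map a.toMonoidHom = par P t := by
  have step : ∀ (b : MulAut G), U.map b.toMonoidHom = U → ∀ r : P.S,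
      ∃ t : P.S, par P t ≤ (par P r).map b.toMonoidHom := by
    intro b hb r
    have hB : P.B ≤ (par P r).map b.toMonoidHom := (map_B h hb).ge.trans (Subgroup.map_mono (B_le_par r))
    obtain ⟨t, ht⟩ := exists_mem_S hB fun e => par_ne_B r
      (Subgroup.map_injective (f := b.toMonoidHom) b.injective (e.trans (map_B h hb).symm))
    exact ⟨t, (par_le_iff hB).2 ht⟩
  have ha' : U.map (a⁻¹ : MulAut G).toMonoidHom = U := by
    conv_lhs => rw [← ha]
    rw [Subgroup.map_map]
    convert Subgroup.map_id U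
    ext x; simp
  obtain ⟨t, ht⟩ := step a ha s
  obtain ⟨r, hr⟩ := step a⁻¹ ha' t
  have hback : ((par P s).map a.toMonoidHom).map (a⁻¹ : MulAut G).toMonoidHom = par P s := by
    rw [Subgroup.map_map]
    convert Subgroup.map_id _
    ext x; simp
  have hrs : par P r ≤ par P s := hr.trans ((Subgroup.map_mono ht).trans hback.le)
  obtain rfl : r = s := Subtype.ext
    (Set.singleton_subset_singleton.1 ((parabolic_le_iff P (sub_S r) (sub_S s)).1 hrs))
  refine ⟨t, le_antisymm ?_ ht⟩
  have h2 := Subgroup.map_mono (f := a.toMonoidHom) hr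
  refine h2.trans (le_of_eq ?_)
  rw [Subgroup.map_map]
  convert Subgroup.map_id _
  ext x; simp

variable {A : Subgroup (MulAut G)} (hst : Stable A U) (hsm : Small U A)
include hst hsm

theorem transitive (s t : P.S) : ∃ a ∈ A, (par P s).map a.toMonoidHom = par P t := by
  set O : P.S → Set G := fun s => Subtype.val '' {t : P.S | ∃ a ∈ A, (par P s).map a.toMonoidHom = par P t}
    with hO
  have hcomp : ∀ {a b : MulAut G} {r t u : P.S}, (par P r).map a.toMonoidHom = par P t →
      (par P t).map b.toMonoidHom = par P u → (par P r).map (b * a).toMonoidHom = par P u := by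
    intro a b r t u h1 h2
    rw [← h2, ← h1, Subgroup.map_map]
    rfl
  have hinv : ∀ {a : MulAut G} {r t : P.S}, (par P r).map a.toMonoidHom = par P t →
      (par P t).map (a⁻¹).toMonoidHom = par P r := by
    intro a r t h1
    rw [← h1, Subgroup.map_map]
    convert Subgroup.map_id _
    ext x; simp
  -- a full orbit gives transitivity
  by_contra hcon
  have hne : ∀ r, P.parabolic (O r) ≠ ⊤ := by
    intro r htop
    have hOS : O r = P.S := parabolic_injective P (by rintro _ ⟨t, -, rfl⟩; exact t.2) subset_rfl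
      (htop.trans (parabolic_S P).symm)
    have hall : ∀ t : P.S, ∃ a ∈ A, (par P r).map a.toMonoidHom = par P t := fun t => by
      obtain ⟨t', ht', e⟩ := hOS.ge t.2
      obtain rfl : t' = t := Subtype.ext e
      exact ht'
    obtain ⟨a, ha, hs⟩ := hall s
    obtain ⟨b, hb, ht⟩ := hall t
    exact hcon ⟨b * a⁻¹, mul_mem hb (inv_mem ha), hcomp (hinv hs) ht⟩
  have hmem : ∀ r, P.parabolic (O r) ∈ {H : Subgroup G | U ≤ H ∧ H ≠ ⊤ ∧ Stable A H} := by
    refine fun r => ⟨h.le.trans le_sup_left, hne r, stable_of_mem fun a ha => ?_⟩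
    refine fun x hx => ?_
    refine (?_ : (P.parabolic (O r)).map a.toMonoidHom ≤ P.parabolic (O r)) ⟨x, hx, rfl⟩
    rw [Cfsg.BNPair.parabolic, Subgroup.map_sup, map_B h (hst a ha), MonoidHom.map_closure]
    refine sup_le le_sup_left ((Subgroup.closure_le _).2 ?_)
    rintro _ ⟨_, ⟨u, ⟨b, hb, hu⟩, rfl⟩, rfl⟩
    obtain ⟨v, hv⟩ := exists_image h (hst a ha) u
    have h1 : a (u : G) ∈ par P v := hv ▸ ⟨u, mem_par u, rfl⟩
    exact (par_le_iff (P := P) (M := P.parabolic (O r)) le_sup_left).2
      (Subgroup.mem_sup_right (Subgroup.subset_closure ⟨v, ⟨a * b, mul_mem ha hb, hcomp hu hv⟩, rfl⟩)) h1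
  refine hsm (eq_top_of_all (P := P) ((le_sup_left : P.B ≤ P.parabolic (O s)).trans (le_sSup (hmem s)))
    fun r => le_sSup (hmem r) (Subgroup.mem_sup_right (Subgroup.subset_closure
      ⟨r, ⟨1, one_mem A, Subgroup.map_id _⟩, rfl⟩)))

theorem overgroup (H : Subgroup G) (hH : Subgroup.normalizer (U : Set G) ≤ H) (hA : Stable A H)
    (hne : H ≠ ⊤) : H = Subgroup.normalizer (U : Set G) := by
  rw [normalizer_eq h] at hH ⊢
  by_contra hB
  obtain ⟨s, hs⟩ := exists_mem_S hH hB
  refine hne (eq_top_of_all hH fun t => ?_)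
  obtain ⟨a, ha, e⟩ := transitive h hst hsm s t
  refine (par_le_iff hH).1 ?_
  rw [← e, ← hA a ha]
  exact Subgroup.map_mono ((par_le_iff hH).2 hs)

omit hst hsm in
theorem normalizer_ne_top (hS : P.S.Nonempty) : Subgroup.normalizer (U : Set G) ≠ ⊤ := by
  obtain ⟨s, hs⟩ := hS
  rw [normalizer_eq h]
  exact fun e => s_notMem_B P ⟨s, hs⟩ (e ▸ Subgroup.mem_top s)

omit hst hsm in
/-- Rank one. -/
theorem verdict_rankOne (hS : P.S.Nonempty) (hr : IsLieRankOneChar p G) : Verdict p G :=
  verdict_of_one (sylow h) (normalizer_ne_top h hS) fun _ _ hst hsm =>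
    ⟨overgroup h hst hsm, Or.inl hr⟩

omit hst hsm in
/-- Two nodes not exchanged by an automorphism fixing `U`: no such group is p-minimal. -/
theorem verdict_distinct {s t : P.S} (hd : ∀ a : MulAut G, U.map a.toMonoidHom = U →
    (par P s).map a.toMonoidHom ≠ par P t) : Verdict p G :=
  verdict_of_one (sylow h) (normalizer_ne_top h ⟨s, s.2⟩) fun _ _ hst hsm => by
    obtain ⟨a, ha, e⟩ := transitive h hst hsm s t
    exact absurd e (hd a (hst a ha))

/-- The minimal parabolic subgroups of two nodes permute. -/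
def Perm2 (P : Cfsg.BNPair G) (s t : P.S) : Prop :=
  (par P s : Set G) * (par P t : Set G) = (par P t : Set G) * (par P s : Set G)

omit h hst hsm in
theorem cell_subset_par (s : P.S) {x : G} (hx : x ∈ cell P (refl P s)) : x ∈ par P s := by
  obtain ⟨b, hb, c, hc, rfl⟩ := (mem_cell_proj P (n := sN P s)).1 hx
  exact mul_mem (mul_mem (B_le_par s hb) (mem_par s)) (B_le_par s hc)

omit h hst hsm in
theorem mem_par_cases {s : P.S} {x : G} (hx : x ∈ par P s) :
    x ∈ cell P 1 ∨ x ∈ cell P (refl P s) := by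
  obtain ⟨w, hw, hc⟩ := (mem_parabolic_iff P (sub_S s)).1 hx
  have key : ∀ v ∈ weylPara P ({(s : G)} : Set G), v = 1 ∨ v = refl P s := by
    intro v hv
    induction hv using Subgroup.closure_induction with
    | mem v hv =>
      obtain ⟨r, hr, rfl⟩ := hv
      exact Or.inr (by rw [show r = s from Subtype.ext hr])
    | one => exact Or.inl rfl
    | mul a b _ _ ha hb =>
      rcases ha with rfl | rfl <;> rcases hb with rfl | rfl <;> simp [refl_mul_self]
    | inv a _ ha => rcases ha with rfl | rfl <;> simp [refl_inv]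
  rcases key w hw with rfl | rfl
  exacts [Or.inl hc, Or.inr hc]

omit h hst hsm in
theorem mul_subset_of_commute {s t : P.S} (hc : refl P s * refl P t = refl P t * refl P s) :
    (par P s : Set G) * (par P t : Set G) ⊆ (par P t : Set G) * (par P s : Set G) := by
  rintro _ ⟨x, hx, y, hy, rfl⟩
  simp only [SetLike.mem_coe] at hx hy
  rcases mem_par_cases hx with hx' | hx'
  · rw [cell_one] at hx'
    exact ⟨x * y, mul_mem (B_le_par t hx') hy, 1, one_mem _, mul_one _⟩
  rcases mem_par_cases hy with hy' | hy'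
  · rw [cell_one] at hy'
    exact ⟨1, one_mem _, x * y, mul_mem hx (B_le_par s hy'), one_mul _⟩
  rcases cell_refl_mul P hx' hy' with hz | hz
  · rw [hc, show refl P t * refl P s = proj P (sN P t * sN P s) from (map_mul _ _ _).symm] at hz
    obtain ⟨b, hb, c, hc', e⟩ := (mem_cell_proj P).1 hz
    refine ⟨b * (t : G), mul_mem (B_le_par t hb) (mem_par t), (s : G) * c,
      mul_mem (mem_par s) (B_le_par s hc'), ?_⟩
    show b * (t : G) * ((s : G) * c) = x * y
    rw [e, Subgroup.coe_mul]
    simp [sN, mul_assoc]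
  · exact ⟨x * y, cell_subset_par t hz, 1, one_mem _, mul_one _⟩

omit h hst hsm in
theorem perm2_iff {s t : P.S} : Perm2 P s t ↔ refl P s * refl P t = refl P t * refl P s := by
  refine ⟨fun hp => ?_, fun hc => Set.Subset.antisymm (mul_subset_of_commute hc)
    (mul_subset_of_commute hc.symm)⟩
  have hmem : (s : G) * t ∈ (par P t : Set G) * (par P s : Set G) :=
    hp ▸ Set.mul_mem_mul (mem_par s) (mem_par t)
  obtain ⟨x, hx, y, hy, e⟩ := hmem
  have hst : (s : G) * t ∈ cell P (refl P s * refl P t) := by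
    rw [refl, refl, ← map_mul]; exact mem_cell_self P (sN P s * sN P t)
  simp only [SetLike.mem_coe] at hx hy
  have e' : x * y = (s : G) * t := e
  rw [← e'] at hst
  have h1 : refl P s * refl P t = 1 → refl P s * refl P t = refl P t * refl P s := fun h1 => by
    rw [h1, ← mul_inv_eq_one.1 (by rwa [refl_inv] : refl P s * (refl P t)⁻¹ = 1), refl_mul_self]
  rcases mem_par_cases hx with hx' | hx'
  · rw [cell_one] at hx'
    rcases mem_par_cases hy with hy' | hy'
    · rw [cell_one] at hy'
      exact h1 (cell_unique P hst (by rw [cell_one]; exact mul_mem hx' hy'))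
    · exact absurd (mul_eq_left.1 (cell_unique P hst (cell_B_mul P hx' hy'))) (refl_ne_one P t)
  · rcases mem_par_cases hy with hy' | hy'
    · rw [cell_one] at hy'
      exact absurd (mul_eq_right.1 (cell_unique P hst (cell_mul_B P hy' hx'))) (refl_ne_one P s)
    · rcases cell_refl_mul P hx' hy' with hz | hz
      · exact cell_unique P hst hz
      · exact absurd (mul_eq_left.1 (cell_unique P hst hz)) (refl_ne_one P t)

omit hst hsm in
/-- Two nodes with different numbers of commuting nodes. -/
theorem verdict_degree (s t : P.S)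
    (hd : Nat.card {r : P.S // refl P s * refl P r = refl P r * refl P s} ≠
      Nat.card {r : P.S // refl P t * refl P r = refl P r * refl P t}) : Verdict p G := by
  refine verdict_distinct h (s := s) (t := t) fun a ha e => hd ?_
  choose σ hσ using fun r => exists_image h ha r
  have hinj : Function.Injective σ := fun r r' er => par_injective
    (Subgroup.map_injective (f := a.toMonoidHom) a.injective (by rw [hσ, hσ, er]))
  have hst' : σ s = t := par_injective ((hσ s).symm.trans e)
  refine Nat.card_congr ((Equiv.ofBijective σ hinj.bijective_of_finite).subtypeEquiv fun r => ?_)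
  show _ ↔ refl P t * refl P (σ r) = refl P (σ r) * refl P t
  rw [← perm2_iff, ← perm2_iff, ← hst', Perm2, Perm2, ← hσ, ← hσ, Subgroup.coe_map, Subgroup.coe_map,
    ← Set.image_mul, ← Set.image_mul,
    Set.image_eq_image (f := ⇑a.toMonoidHom) a.injective]

end BN

end Cfsg.Agent.Lie.PMin
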