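import Mathlib
import Cfsg.Prelude.Def_LocalEven
import Cfsg.Prelude.Def_AlmostLie

/-!
p-minimal groups with a simple normal subgroup: the reduction to a property of the normal subgroup
and of a p-group of its automorphisms fixing a Sylow p-subgroup.
-/

set_option autoImplicit false

namespace Cfsg.Agent.Lie.PMin

open Cfsg

/-- Every member of `A` maps `H` to itself. -/
def Stable {K : Type*} [Group K] (A : Subgroup (MulAut K)) (H : Subgroup K) : Prop :=
  ∀ a ∈ A, H.map a.toMonoidHom = H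

/-- The invariant proper overgroups of `U` do not generate. -/
def Small {K : Type*} [Group K] (U : Subgroup K) (A : Subgroup (MulAut K)) : Prop :=
  sSup {H : Subgroup K | U ≤ H ∧ H ≠ ⊤ ∧ Stable A H} ≠ ⊤

/-- The groups in the list for the prime two. -/
def Listed (K : Type*) [Group K] : Prop :=
  (∃ (F : Type) (_ : Field F) (_ : Fintype F) (_ : CharP F 2),
      Nonempty (K ≃* Matrix.ProjectiveSpecialLinearGroup (Fin 3) F)) ∨
    (∃ (F : Type) (_ : Field F) (_ : Fintype F) (_ : CharP F 2),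
      4 ≤ Fintype.card F ∧ Nonempty (K ≃* Cfsg.PSp 2 F)) ∨
    Nonempty (K ≃* ↥(alternatingGroup (Fin 6)))

/-- What has to be shown of one Sylow subgroup and one group of automorphisms. -/
def Out (p : ℕ) (K : Type*) [Group K] (U : Subgroup K) (A : Subgroup (MulAut K)) : Prop :=
  (∀ H : Subgroup K, Subgroup.normalizer (U : Set K) ≤ H → Stable A H → H ≠ ⊤ →
      H = Subgroup.normalizer (U : Set K)) ∧
    (IsLieRankOneChar p K ∨ (p = 2 ∧ Listed K ∧ ∃ a ∈ A, ∀ u ∈ U, a ≠ MulAut.conj u))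

/-- The property of `K`. -/
def Verdict (p : ℕ) (K : Type*) [Group K] : Prop :=
  ∀ U : Sylow p K, Subgroup.normalizer ((U : Subgroup K) : Set K) ≠ ⊤ ∧
    ∀ A : Subgroup (MulAut K), IsPGroup p A → Stable A (U : Subgroup K) →
      Small (U : Subgroup K) A → Out p K U A

variable {K L : Type*} [Group K] [Group L] {p : ℕ}

theorem Stable.mem {A : Subgroup (MulAut K)} {H : Subgroup K} (h : Stable A H) {a : MulAut K}
    (ha : a ∈ A) {x : K} : a x ∈ H ↔ x ∈ H := by
  conv_lhs => rw [← h a ha]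
  exact Subgroup.mem_map_iff_mem a.injective

theorem stable_of_mem {A : Subgroup (MulAut K)} {H : Subgroup K}
    (h : ∀ a ∈ A, ∀ x ∈ H, a x ∈ H) : Stable A H := by
  intro a ha
  refine le_antisymm (Subgroup.map_le_iff_le_comap.2 fun x hx => h a ha x hx) fun x hx => ?_
  exact ⟨a⁻¹ x, h a⁻¹ (inv_mem ha) x hx, a.apply_symm_apply x⟩

/-- Two invariant proper overgroups that generate are impossible. -/
theorem Small.not_two {U : Subgroup K} {A : Subgroup (MulAut K)} (hs : Small U A)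
    {P Q : Subgroup K} (hP : U ≤ P) (hQ : U ≤ Q) (hPA : Stable A P) (hQA : Stable A Q)
    (hPt : P ≠ ⊤) (hQt : Q ≠ ⊤) : P ⊔ Q ≠ ⊤ := fun h =>
  hs (top_le_iff.1 (h.ge.trans (sup_le (le_sSup (show P ∈ {H : Subgroup K | _} from ⟨hP, hPt, hPA⟩))
    (le_sSup (show Q ∈ {H : Subgroup K | _} from ⟨hQ, hQt, hQA⟩)))))

theorem isLieRankOneChar_of_equiv (e : K ≃* L) (h : IsLieRankOneChar p L) :
    IsLieRankOneChar p K := by
  rcases h with ⟨F, i1, i2, i3, h4, ⟨f⟩⟩ | ⟨F, i1, i2, i3, q, hF, hq, ⟨f⟩⟩ |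
    ⟨hp, F, i1, i2, m, hm, hF, ⟨f⟩⟩ | ⟨hp, ⟨F, i1, i2, m, hm, hF, ⟨f⟩⟩ | ⟨F, i1, i2, h8, ⟨f⟩⟩⟩
  · exact Or.inl ⟨F, i1, i2, i3, h4, ⟨e.trans f⟩⟩
  · exact Or.inr (Or.inl ⟨F, i1, i2, i3, q, hF, hq, ⟨e.trans f⟩⟩)
  · exact Or.inr (Or.inr (Or.inl ⟨hp, F, i1, i2, m, hm, hF, ⟨e.trans f⟩⟩))
  · exact Or.inr (Or.inr (Or.inr ⟨hp, Or.inl ⟨F, i1, i2, m, hm, hF, ⟨e.trans f⟩⟩⟩))
  · exact Or.inr (Or.inr (Or.inr ⟨hp, Or.inr ⟨F, i1, i2, h8, ⟨e.trans f⟩⟩⟩))

theorem Listed.of_equiv (e : K ≃* L) (h : Listed L) : Listed K := by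
  rcases h with ⟨F, i1, i2, i3, ⟨f⟩⟩ | ⟨F, i1, i2, i3, h4, ⟨f⟩⟩ | hf
  · exact Or.inl ⟨F, i1, i2, i3, ⟨e.trans f⟩⟩
  · exact Or.inr (Or.inl ⟨F, i1, i2, i3, h4, ⟨e.trans f⟩⟩)
  · exact hf.elim fun f => Or.inr (Or.inr ⟨e.trans f⟩)

/-- The automorphism group carried along an isomorphism. -/
def autMap (e : K ≃* L) : MulAut K →* MulAut L where
  toFun a := (e.symm.trans a).trans e
  map_one' := MulEquiv.ext fun x => e.apply_symm_apply x
  map_mul' a b := MulEquiv.ext fun x => by simp [MulAut.mul_apply]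

theorem autMap_apply (e : K ≃* L) (a : MulAut K) (x : K) : autMap e a (e x) = e (a x) := by
  simp [autMap]

theorem autMap_conj (e : K ≃* L) (u : K) : autMap e (MulAut.conj u) = MulAut.conj (e u) :=
  MulEquiv.ext fun x => by simp [autMap]

theorem map_normalizer_equiv (e : K ≃* L) (U : Subgroup K) :
    (Subgroup.normalizer (U : Set K)).map e.toMonoidHom =
      Subgroup.normalizer ((U.map e.toMonoidHom : Subgroup L) : Set L) :=
  Subgroup.map_equiv_normalizer_eq U e

theorem stable_map (e : K ≃* L) {A : Subgroup (MulAut K)} {H : Subgroup K} :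
    Stable (A.map (autMap e)) (H.map e.toMonoidHom) ↔ Stable A H := by
  constructor
  · intro h
    refine stable_of_mem fun a ha x hx => ?_
    have h1 := (Stable.mem h (Subgroup.mem_map_of_mem (autMap e) ha) (x := e x)).2 ⟨x, hx, rfl⟩
    rw [autMap_apply] at h1
    exact (Subgroup.mem_map_iff_mem e.injective).1 h1
  · intro h
    refine stable_of_mem ?_
    rintro _ ⟨a, ha, rfl⟩ _ ⟨x, hx, rfl⟩
    exact ⟨a x, (h.mem ha).2 hx, (autMap_apply e a x).symm⟩

theorem map_ne_top_iff (e : K ≃* L) {H : Subgroup K} : H.map e.toMonoidHom ≠ ⊤ ↔ H ≠ ⊤ := by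
  have htop : (⊤ : Subgroup K).map e.toMonoidHom = ⊤ :=
    Subgroup.map_top_of_surjective _ e.surjective
  conv_lhs => rw [← htop]
  exact not_congr (Subgroup.map_injective (f := e.toMonoidHom) e.injective).eq_iff

theorem Verdict.of_equiv [Finite K] [Fact p.Prime] (e : K ≃* L) (h : Verdict p L) : Verdict p K := by
  intro U
  have he : Function.Surjective e.toMonoidHom := e.surjective
  set U' : Sylow p L := U.mapSurjective he
  have hU : (U' : Subgroup L) = (U : Subgroup K).map e.toMonoidHom := Sylow.coe_mapSurjective _ _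
  obtain ⟨hne, hA⟩ := h U'
  rw [hU, ← map_normalizer_equiv, map_ne_top_iff] at hne
  refine ⟨hne, fun A hA' hst hsm => ?_⟩
  obtain ⟨hov, hc⟩ := hA (A.map (autMap e)) (hA'.map _) (by rw [hU]; exact (stable_map e).2 hst)
    (by
      intro htop
      refine hsm ((Subgroup.map_injective (f := e.toMonoidHom) e.injective) ?_)
      rw [Subgroup.map_top_of_surjective _ he, eq_top_iff, ← htop]
      refine sSup_le fun H' hH' => ?_
      obtain ⟨h1, h2, h3⟩ := hH'
      obtain ⟨H, rfl⟩ : ∃ H, H' = H.map e.toMonoidHom :=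
        ⟨H'.comap e.toMonoidHom, (Subgroup.map_comap_eq_self_of_surjective he H').symm⟩
      rw [hU, Subgroup.map_le_map_iff_of_injective (f := e.toMonoidHom) e.injective] at h1
      exact Subgroup.map_mono (le_sSup ⟨h1, (map_ne_top_iff e).1 h2, (stable_map e).1 h3⟩))
  refine ⟨fun H h1 h2 h3 => ?_, hc.imp (isLieRankOneChar_of_equiv e) ?_⟩
  · refine Subgroup.map_injective (f := e.toMonoidHom) e.injective ?_
    rw [map_normalizer_equiv, ← hU]
    refine hov _ ?_ ((stable_map e).2 h2) ((map_ne_top_iff e).2 h3)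
    rw [hU, ← map_normalizer_equiv]
    exact Subgroup.map_mono h1
  · rintro ⟨hp, hl, b, hb, hbc⟩
    obtain ⟨a, ha, rfl⟩ := hb
    refine ⟨hp, hl.of_equiv e, a, ha, fun u hu heq => hbc (e u) ?_ ?_⟩
    · rw [hU]; exact ⟨u, hu, rfl⟩
    · rw [heq, autMap_conj]

/-- It is enough to look at one Sylow subgroup. -/
theorem verdict_of_one [Finite K] [Fact p.Prime] (U₀ : Sylow p K)
    (hne : Subgroup.normalizer ((U₀ : Subgroup K) : Set K) ≠ ⊤)
    (h : ∀ A : Subgroup (MulAut K), IsPGroup p A → Stable A (U₀ : Subgroup K) →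
      Small (U₀ : Subgroup K) A → Out p K U₀ A) : Verdict p K := by
  intro U
  obtain ⟨g, hg⟩ := MulAction.exists_smul_eq K U U₀
  set e : K ≃* K := MulAut.conj g with he
  have hU : (U₀ : Subgroup K) = (U : Subgroup K).map e.toMonoidHom := by
    rw [← hg, Sylow.coe_subgroup_smul]; rfl
  rw [hU, ← map_normalizer_equiv, map_ne_top_iff] at hne
  refine ⟨hne, fun A hA hst hsm => ?_⟩
  obtain ⟨hov, hc⟩ := h (A.map (autMap e)) (hA.map _) (by rw [hU]; exact (stable_map e).2 hst)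
    (by
      intro htop
      refine hsm ((Subgroup.map_injective (f := e.toMonoidHom) e.injective) ?_)
      rw [Subgroup.map_top_of_surjective _ e.surjective, eq_top_iff]
      refine htop.ge.trans ?_
      refine sSup_le fun H' hH' => ?_
      obtain ⟨h1, h2, h3⟩ := hH'
      obtain ⟨H, rfl⟩ : ∃ H, H' = H.map e.toMonoidHom :=
        ⟨H'.comap e.toMonoidHom, (Subgroup.map_comap_eq_self_of_surjective e.surjective H').symm⟩
      rw [hU, Subgroup.map_le_map_iff_of_injective (f := e.toMonoidHom) e.injective] at h1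
      exact Subgroup.map_mono (le_sSup ⟨h1, (map_ne_top_iff e).1 h2, (stable_map e).1 h3⟩))
  refine ⟨fun H h1 h2 h3 => ?_, hc.imp id ?_⟩
  · refine Subgroup.map_injective (f := e.toMonoidHom) e.injective ?_
    rw [map_normalizer_equiv, ← hU]
    refine hov _ ?_ ((stable_map e).2 h2) ((map_ne_top_iff e).2 h3)
    rw [hU, ← map_normalizer_equiv]
    exact Subgroup.map_mono h1
  · rintro ⟨hp, hl, b, hb, hbc⟩
    obtain ⟨a, ha, rfl⟩ := hb
    refine ⟨hp, hl, a, ha, fun u hu heq => hbc (e u) ?_ ?_⟩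
    · rw [hU]; exact ⟨u, hu, rfl⟩
    · rw [heq, autMap_conj]

/-- The reduction. -/
theorem main {X : Type*} [Group X] [Finite X] [Fact p.Prime] (hX : Cfsg.IsPMinimal p X)
    (K : Subgroup X) [K.Normal] (hV : Verdict p ↥K) (U : Sylow p ↥K) :
    IsCoatom (Subgroup.normalizer (((U : Subgroup ↥K).map K.subtype : Subgroup X) : Set X)) ∧
      (IsLieRankOneChar p ↥K ∨ (p = 2 ∧ K ≠ ⊤ ∧ Listed ↥K)) := by
  set W : Subgroup X := (U : Subgroup ↥K).map K.subtype with hW
  set N := Subgroup.normalizer (W : Set X) with hN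
  have hNK : K ⊔ N = ⊤ := by rw [sup_comm]; exact Sylow.normalizer_sup_eq_top U
  have hNint : N.subgroupOf K = Subgroup.normalizer ((U : Subgroup ↥K) : Set ↥K) := by
    ext g
    rw [Subgroup.mem_subgroupOf, Subgroup.mem_normalizer_iff, Subgroup.mem_normalizer_iff]
    constructor
    · intro h x
      have := h (x : X)
      rw [show (g : X) * x * (g : X)⁻¹ = ((g * x * g⁻¹ : ↥K) : X) from rfl] at this
      rw [hW, ← K.coe_subtype, Subgroup.mem_map_iff_mem K.subtype_injective,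
        Subgroup.mem_map_iff_mem K.subtype_injective] at this
      exact this
    · intro h x
      constructor
      · rintro ⟨y, hy, rfl⟩
        exact ⟨g * y * g⁻¹, (h y).1 hy, rfl⟩
      · rintro ⟨y, hy, e⟩
        refine ⟨g⁻¹ * y * g, (h _).2 (by
          rw [show g * (g⁻¹ * y * g) * g⁻¹ = y by group]; exact hy), ?_⟩
        simp only [map_mul, map_inv, Subgroup.coe_subtype] at e ⊢
        rw [e]; group
  -- a Sylow subgroup normalising `W`
  obtain ⟨S₁⟩ : Nonempty (Sylow p X) := inferInstance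
  obtain ⟨S, hWS⟩ := (U.isPGroup'.map K.subtype : IsPGroup p W).exists_le_sylow
  have hSK : ∀ x ∈ (S : Subgroup X), ∀ hx : x ∈ K, (⟨x, hx⟩ : ↥K) ∈ (U : Subgroup ↥K) := by
    have hle : (U : Subgroup ↥K) ≤ (S : Subgroup X).subgroupOf K := fun y hy => hWS ⟨y, hy, rfl⟩
    have := U.is_maximal' (S.isPGroup'.comap_subtype (H := (S : Subgroup X)) (K := K)) hle
    intro x hx hxK
    rw [← this]
    exact hx
  have hSN : (S : Subgroup X) ≤ N := by
    intro s hs
    have h1 : ∀ t ∈ (S : Subgroup X), ∀ w ∈ W, t * w * t⁻¹ ∈ W := fun t ht w hw => by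
      have hwK : w ∈ K := Subgroup.map_subtype_le _ hw
      refine ⟨⟨t * w * t⁻¹, Subgroup.Normal.conj_mem inferInstance w hwK t⟩, ?_, rfl⟩
      exact hSK _ (mul_mem (mul_mem ht (hWS hw)) (inv_mem ht)) _
    refine Subgroup.mem_normalizer_iff.2 fun w => ⟨h1 s hs w, fun hw => ?_⟩
    simpa [mul_assoc] using h1 s⁻¹ (inv_mem hs) _ hw
  obtain ⟨-, M, ⟨hMc, hSM⟩, huniq⟩ := hX S
  have hbig : ∀ H : Subgroup X, (S : Subgroup X) ≤ H → H ≠ ⊤ → H ≤ M := by
    intro H hS hH
    obtain ⟨M', hM', hle⟩ := (eq_top_or_exists_le_coatom H).resolve_left hH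
    exact (huniq M' ⟨hM', hS.trans hle⟩) ▸ hle
  obtain ⟨hUne, hout⟩ := hV U
  have hNne : N ≠ ⊤ := fun h => hUne (by rw [← hNint, h, Subgroup.top_subgroupOf])
  have hNM : N ≤ M := hbig N hSN hNne
  have hKM : ¬ K ≤ M := fun h => hMc.1 (top_le_iff.1 (hNK ▸ sup_le h hNM))
  -- the automorphisms
  let c : X →* MulAut ↥K := MulAut.conjNormal
  set A : Subgroup (MulAut ↥K) := (S : Subgroup X).map c
  have hst : ∀ H : Subgroup ↥K, Stable A H ↔
      ∀ s ∈ (S : Subgroup X), ∀ x ∈ H, c s x ∈ H := fun H =>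
    ⟨fun h s hs x hx => (h.mem (Subgroup.mem_map_of_mem c hs)).2 hx,
      fun h => stable_of_mem (by rintro _ ⟨s, hs, rfl⟩ x hx; exact h s hs x hx)⟩
  have hcap : ∀ H : Subgroup ↥K, (U : Subgroup ↥K) ≤ H → Stable A H → H ≠ ⊤ →
      H ≤ M.subgroupOf K := by
    intro H hUH hH hne y hy
    set T : Subgroup X := H.map K.subtype with hT
    have hnorm : (S : Subgroup X) ≤ Subgroup.normalizer (T : Set X) := by
      have h1 : ∀ t ∈ (S : Subgroup X), ∀ w ∈ T, t * w * t⁻¹ ∈ T := by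
        rintro t ht _ ⟨z, hz, rfl⟩
        exact ⟨c t z, (hst H).1 hH t ht z hz, MulAut.conjNormal_apply t z⟩
      refine fun s hs => Subgroup.mem_normalizer_iff.2 fun w => ⟨h1 s hs w, fun hw => ?_⟩
      simpa [mul_assoc] using h1 s⁻¹ (inv_mem hs) _ hw
    have hne' : T ⊔ (S : Subgroup X) ≠ ⊤ := by
      intro htop
      refine hne (eq_top_iff.2 fun z _ => ?_)
      have hmem : (z : X) ∈ T ⊔ (S : Subgroup X) := htop ▸ Subgroup.mem_top _
      rw [← SetLike.mem_coe, Subgroup.coe_mul_of_right_le_normalizer_left T (S : Subgroup X) hnorm] at hmem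
      obtain ⟨_, ⟨w, hw, rfl⟩, s, hs, e⟩ := hmem
      simp only [Subgroup.coe_subtype] at e
      have hsK : s ∈ K := by
        rw [show s = (w : X)⁻¹ * z by rw [← e]; group]
        exact mul_mem (inv_mem w.2) z.2
      rw [show z = w * ⟨s, hsK⟩ from Subtype.ext e.symm]
      exact mul_mem hw (hUH (hSK s hs hsK))
    exact hbig _ le_sup_right hne' (Subgroup.mem_sup_left ⟨y, hy, rfl⟩)
  have hsm : Small (U : Subgroup ↥K) A := fun h => hKM fun x hx => by
    have : (⟨x, hx⟩ : ↥K) ∈ M.subgroupOf K := by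
      refine (sSup_le fun H hH => hcap H hH.1 hH.2.2 hH.2.1) (h ▸ Subgroup.mem_top _)
    exact this
  obtain ⟨hov, hc⟩ := hout A (S.isPGroup'.map c)
    ((hst _).2 fun s hs x hx => by
      have h := Subgroup.mem_normalizer_iff.1 (hSN hs) (x : X) |>.1 ⟨x, hx, rfl⟩
      obtain ⟨y, hy, e⟩ := h
      rwa [show c s x = y from Subtype.ext ((MulAut.conjNormal_apply s x).trans e.symm)])
    hsm
  refine ⟨⟨hNne, fun H hH => ?_⟩, hc.imp id ?_⟩
  · by_contra hne
    have hHK : Stable A (H.subgroupOf K) := (hst _).2 fun s hs x hx => by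
      show ((c s x : ↥K) : X) ∈ H
      rw [MulAut.conjNormal_apply]
      exact mul_mem (mul_mem (hH.le (hSN hs)) hx) (inv_mem (hH.le (hSN hs)))
    have hle : Subgroup.normalizer ((U : Subgroup ↥K) : Set ↥K) ≤ H.subgroupOf K := by
      rw [← hNint]; exact fun x hx => hH.le hx
    by_cases htop : H.subgroupOf K = ⊤
    · refine hne (top_le_iff.1 (hNK ▸ sup_le ?_ hH.le))
      exact Subgroup.subgroupOf_eq_top.1 htop
    have heq := hov _ hle hHK htop
    refine hH.not_ge fun x hx => ?_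
    have hmem : x ∈ K ⊔ N := hNK ▸ Subgroup.mem_top _
    obtain ⟨k, hk, n, hn, rfl⟩ := Subgroup.mem_sup_of_normal_left.1 hmem
    have hkH : (⟨k, hk⟩ : ↥K) ∈ H.subgroupOf K :=
      (H.mul_mem_cancel_right (hH.le hn)).1 hx
    rw [heq, ← hNint] at hkH
    exact mul_mem hkH hn
  · rintro ⟨hp, hl, a, ha, hne⟩
    refine ⟨hp, fun htop => ?_, hl⟩
    obtain ⟨s, hs, rfl⟩ := ha
    have hsK : s ∈ K := htop ▸ Subgroup.mem_top s
    refine hne ⟨s, hsK⟩ (hSK s hs hsK) (MulEquiv.ext fun x => Subtype.ext ?_)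
    rw [MulAut.conjNormal_apply, MulAut.conj_apply]
    rfl

end Cfsg.Agent.Lie.PMin
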