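import Cfsg.Agent.Lib.Lie.PMin.BN
import Cfsg.Agent.Lib.Lie.Over.Chev
import Cfsg.Agent.Lib.Lie.Chev.AutOutTypes
import Cfsg.Agent.Lib.Lie.Chev.SimpleCerts

/-!
Chevalley groups: no p-minimal group has one of rank two or more of type D₄, E, F₄ or G₂ as socle.
-/

set_option autoImplicit false
set_option linter.unusedSectionVars false
set_option maxRecDepth 8000

namespace Cfsg.Agent.Lie.PMin

open Cfsg Cfsg.Lie Cfsg.Agent.Lie Cfsg.Agent.Lie.Chev Cfsg.Agent.Lie.Over

variable {D : ChevalleyDatum} (c : CertFull D) (F : Type*) [Field F] [Fintype F] {p : ℕ}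
  [Fact p.Prime] [CharP F p]

/-- The representative of a node. -/
def node (i : Fin D.rank) : (c.bnPair F).S :=
  ⟨⟨c.np F i, c.np_mem_group i.2⟩, i, i.2, c.ng_val _ _⟩

theorem node_bijective : Function.Bijective (node c F) := by
  refine ⟨fun i j e => Fin.ext (c.np_inj i.2 j.2 (F := F) ?_), fun s => ?_⟩
  · rw [show c.np F i = c.np F j from congrArg (fun s : (c.bnPair F).S =>
      ((s : ↥(D.group F)) : GL D.Idx F)) e, inv_mul_cancel]
    exact one_mem _
  · obtain ⟨i, hi, h⟩ := s.2
    exact ⟨⟨i, hi⟩, Subtype.ext (Subtype.ext (Units.ext ((c.ng_val _ _).trans h.symm)))⟩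

theorem node_commute_iff (i j : Fin D.rank) :
    refl (c.bnPair F) (node c F j) * refl (c.bnPair F) (node c F i) =
        refl (c.bnPair F) (node c F i) * refl (c.bnPair F) (node c F j) ↔
      i = j ∨ D.cartan j (D.simple i) = 0 := by
  rcases eq_or_ne i j with rfl | hne
  · exact ⟨fun _ => Or.inl rfl, fun _ => rfl⟩
  rw [or_iff_right hne, c.cartan_zero_iff (F := F) i.2 j.2 (fun e => hne (Fin.ext e)),
    ← refl_commute_iff]
  exact Iff.rfl

theorem node_card (j : Fin D.rank) :
    Nat.card {r : (c.bnPair F).S // refl (c.bnPair F) (node c F j) * refl (c.bnPair F) r =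
      refl (c.bnPair F) r * refl (c.bnPair F) (node c F j)} =
    (Finset.univ.filter fun i : Fin D.rank => i = j ∨ D.cartan j (D.simple i) = 0).card := by
  rw [← Fintype.card_subtype, ← Nat.card_eq_fintype_card]
  exact (Nat.card_congr ((Equiv.ofBijective _ (node_bijective c F)).subtypeEquiv
    fun i => (node_commute_iff c F i j).symm)).symm

include c in
/-- Nodes of different valency. -/
theorem verdict_chev_degree (i j : Fin D.rank)
    (h : (Finset.univ.filter fun k : Fin D.rank => k = i ∨ D.cartan i (D.simple k) = 0).card ≠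
      (Finset.univ.filter fun k : Fin D.rank => k = j ∨ D.cartan j (D.simple k) = 0).card) :
    Verdict p ↥(D.group F) :=
  verdict_degree (chev_split c) (node c F i) (node c F j) (by rw [node_card, node_card]; exact h)

variable {F}

theorem inPar_of_mem_par {i : Fin D.rank} {g : ↥(D.group F)} (hg : g ∈ par (c.bnPair F) (node c F i)) :
    c.InPar i (g : GL D.Idx F) := by
  rcases mem_par_cases hg with h | h
  · rw [cell_one] at h
    exact Or.inl h
  · obtain ⟨x, hx, y, hy, e⟩ := (mem_cell_proj _ (n := sN _ (node c F i))).1 h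
    exact Or.inr ⟨x, hx, y, hy, congrArg (fun z : ↥(D.group F) => (z : GL D.Idx F)) e⟩

theorem mem_par_of_inPar {i : Fin D.rank} {g : ↥(D.group F)} (hg : c.InPar i (g : GL D.Idx F)) :
    g ∈ par (c.bnPair F) (node c F i) := by
  rcases hg with h | ⟨x, hx, y, hy, e⟩
  · exact B_le_par (P := c.bnPair F) (node c F i) h
  · rw [show g = ⟨x, c.B_le_group hx⟩ * ((node c F i : (c.bnPair F).S) : ↥(D.group F)) *
      ⟨y, c.B_le_group hy⟩ from Subtype.ext e]
    exact mul_mem (mul_mem (B_le_par (P := c.bnPair F) _ hx) (mem_par _)) (B_le_par (P := c.bnPair F) _ hy)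

/-- An automorphism fixing `U` and carrying one node to another gives field automorphisms with the
relation of a graph symmetry. -/
theorem exists_relation (p : ℕ) [Fact p.Prime] [CharP F p] {θ : MulAut ↥(D.group F)}
    (hθ : ((D.posUnipotent F).subgroupOf (D.group F)).map θ.toMonoidHom =
      (D.posUnipotent F).subgroupOf (D.group F))
    {i₀ j₀ : Fin D.rank}
    (hij : (par (c.bnPair F) (node c F i₀)).map θ.toMonoidHom = par (c.bnPair F) (node c F j₀)) :
    ∃ (π : Equiv.Perm (Fin D.rank)) (σ : Fin D.rank → F ≃+* F), π i₀ = j₀ ∧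
      ∀ (i j : Fin D.rank) (t : F), t ≠ 0 →
        σ j t ^ D.cartan i (D.simple j) = σ i t ^ D.cartan (π i) (D.simple (π j)) := by
  obtain ⟨x, hU, hV⟩ := c.exists_fix_UV θ
  set θ₁ := θ.trans (MulAut.conj x) with hθ₁
  have hfix : Chev.Fix θ (D.posUnipotent F) := fun g => by
    have := Subgroup.mem_map_iff_mem (K := (D.posUnipotent F).subgroupOf (D.group F))
      (f := θ.toMonoidHom) θ.injective (x := g)
    rw [hθ] at this
    exact this
  have hxB : x ∈ (c.bnPair F).B := by
    rw [← normalizer_eq (chev_split (p := p) c)]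
    refine Subgroup.mem_normalizer_iff.2 fun u => ?_
    obtain ⟨v, rfl⟩ := θ.surjective u
    rw [Subgroup.mem_subgroupOf, Subgroup.mem_subgroupOf, hfix v, ← hU v]
    rfl
  have hij₁ : ∀ g, g ∈ par (c.bnPair F) (node c F i₀) → θ₁ g ∈ par (c.bnPair F) (node c F j₀) := by
    intro g hg
    have h1 : θ g ∈ par (c.bnPair F) (node c F j₀) := hij ▸ ⟨g, hg, rfl⟩
    show x * θ g * x⁻¹ ∈ _
    exact mul_mem (mul_mem (B_le_par _ hxB) h1) (inv_mem (B_le_par _ hxB))
  obtain ⟨π, f, g, hfg⟩ := c.exists_root_maps hU hV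
  have hπ : π i₀ = j₀ := by
    by_contra hne
    refine c.not_commute_opp_self (F := F) i₀.2 fun a v => ?_
    have h1 := hij₁ _ (mem_par_of_inPar c (g := c.xG (D.neg (D.simple i₀)) v)
      (by rw [CertFull.xG_coe]; exact c.xg_neg_inPar i₀.2 v))
    have h2 := inPar_of_mem_par c h1
    rw [(hfg i₀ v).2] at h2
    obtain ⟨t, ht⟩ := (c.inPar_V_iff j₀.2).1 ⟨h2, c.xg_mem_V (c.neg_lt (c.simple_lt (π i₀).2))
      (c.not_pos_neg_simple (π i₀).2) _⟩
    have h3 := c.commute_opp (π i₀).2 j₀.2 (fun e => hne (Fin.ext e)) (f i₀ a) t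
    rw [← ht, ← (hfg i₀ a).1, ← (hfg i₀ v).2] at h3
    exact congrArg Subtype.val (θ₁.injective (by rw [map_mul, map_mul]; exact Subtype.ext h3.eq) :
      c.xG (D.simple i₀) a * c.xG (D.neg (D.simple i₀)) v =
        c.xG (D.neg (D.simple i₀)) v * c.xG (D.simple i₀) a)
  have hf : ∀ (i : Fin D.rank) t, θ₁ (c.xG (D.simple i) t) = c.xG (D.simple (π i)) (f i t) := fun i t =>
    Subtype.ext (hfg i t).1
  have hg : ∀ (i : Fin D.rank) t,
      θ₁ (c.xG (D.neg (D.simple i)) t) = c.xG (D.neg (D.simple (π i))) (g i t) :=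
    fun i t => Subtype.ext (hfg i t).2
  have hne : ∀ i : Fin D.rank, f i 1 ≠ 0 := by
    intro i e
    have h2 := hf i 1
    rw [e] at h2
    have h3 : c.xG (D.simple (π i)) (0 : F) = θ₁ 1 := by
      rw [map_one]; exact Subtype.ext (c.xg_zero _)
    exact one_ne_zero ((c.xg_eq_one_iff (c.simple_lt i.2) 1).1
      (congrArg Subtype.val (θ₁.injective (h2.trans h3))))
  set z : Fin D.rank → Fˣ := fun j => Units.mk0 (f (π.symm j) 1) (hne _) with hz
  have hχ := c.nodeChar_isRootCharacter z
  set θ₂ := θ₁.trans (c.diagAuto hχ).symm with hθ₂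
  have hf2 : ∀ (i : Fin D.rank) t,
      θ₂ (c.xG (D.simple i) t) = c.xG (D.simple (π i)) ((f i 1)⁻¹ * f i t) := by
    intro i t
    rw [hθ₂, MulEquiv.trans_apply, hf, c.diagAuto_symm_xG hχ (c.simple_lt (π i).2),
      c.nodeChar_simple, hz]
    simp
  have hg2 : ∀ (i : Fin D.rank) t, θ₂ (c.xG (D.neg (D.simple i)) t) =
      c.xG (D.neg (D.simple (π i))) (f i 1 * g i t) := by
    intro i t
    rw [hθ₂, MulEquiv.trans_apply, hg,
      c.diagAuto_symm_xG hχ (c.neg_lt (c.simple_lt (π i).2)), hχ.1 _ (c.simple_lt (π i).2),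
      c.nodeChar_simple, hz]
    simp
  choose σ hσ using fun i : Fin D.rank =>
    c.exists_ringEquiv i.2 (π i).2 (hf2 i) (hg2 i) (inv_mul_cancel₀ (hne i))
  have hmaps : ∀ (i : Fin D.rank) (t : F),
      θ₂ (c.xG (D.simple i) t) = c.xG (D.simple (π i)) (σ i t) ∧
      θ₂ (c.xG (D.neg (D.simple i)) t) = c.xG (D.neg (D.simple (π i))) (σ i t) := fun i t =>
    ⟨by rw [hf2, (hσ i t).1], by rw [hg2, (hσ i t).2]⟩
  exact ⟨π, σ, hπ, fun i j t ht =>
    c.node_relation i.2 j.2 (π i).2 (π j).2 (hmaps i) (fun s => (hmaps j s).1) ht⟩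

variable (F)

theorem verdict_d4 : Verdict p ↥(chevD4.group F) :=
  verdict_chev_degree certFullD4 F ⟨0, by decide⟩ ⟨1, by decide⟩ (by decide +kernel)

theorem verdict_e6 : Verdict p ↥(chevE6.group F) :=
  verdict_chev_degree certFullE6 F ⟨0, by decide⟩ ⟨3, by decide⟩ (by decide +kernel)

theorem verdict_e7 : Verdict p ↥(chevE7.group F) :=
  verdict_chev_degree certFullE7 F ⟨0, by decide⟩ ⟨3, by decide⟩ (by decide +kernel)

theorem verdict_e8 : Verdict p ↥(chevE8.group F) :=
  verdict_chev_degree certFullE8 F ⟨0, by decide⟩ ⟨3, by decide⟩ (by decide +kernel)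

theorem verdict_f4 : Verdict p ↥(chevF4.group F) :=
  verdict_chev_degree certFullF4 F ⟨0, by decide⟩ ⟨1, by decide⟩ (by decide +kernel)

theorem two_nodes (t : Fin chevG2.rank) : t = ⟨0, by decide⟩ ∨ t = ⟨1, by decide⟩ := by
  revert t; decide +kernel

theorem verdict_g2 (hq : 3 ≤ Fintype.card F) : Verdict p ↥(chevG2.group F) := by
  refine verdict_of_one (sylow (chev_split certFullG2))
    (normalizer_ne_top (chev_split certFullG2) ⟨_, (node certFullG2 F ⟨0, by decide⟩).2⟩)
    fun A hA hst hsm => ?_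
  exfalso
  set h := chev_split (p := p) (F := F) certFullG2
  set s := node certFullG2 F ⟨0, by decide⟩ with hs
  set t := node certFullG2 F ⟨1, by decide⟩ with ht
  have hst' : s ≠ t := fun e => by
    have := congrArg Fin.val ((node_bijective certFullG2 F).1 e)
    simp at this
  obtain ⟨a, ha, e⟩ := transitive h hst hsm s t
  obtain ⟨t', e'⟩ := exists_image h (hst a ha) t
  obtain ⟨k, rfl⟩ := (node_bijective certFullG2 F).2 t'
  have hts : node certFullG2 F k = s := by
    rcases two_nodes k with rfl | rfl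
    · rfl
    · exact absurd (par_injective (Subgroup.map_injective (f := a.toMonoidHom) a.injective
        (e.trans e'.symm))) hst'
  rw [hts] at e'
  obtain rfl := eq_two_of_swap hA ha e e' fun e2 => hst' (par_injective e2)
  obtain ⟨π, σ, hπ, hr⟩ := exists_relation certFullG2 2 (hst a ha) e
  have hπ1 : π ⟨1, by decide⟩ = ⟨0, by decide⟩ := by
    rcases two_nodes (π ⟨1, by decide⟩) with h1 | h1
    · exact h1
    · exact absurd (π.injective (hπ.trans h1.symm)) (by decide)
  have e : ∀ t : F, t ≠ 0 → σ ⟨0, by decide⟩ t = σ ⟨1, by decide⟩ t ^ 3 := fun t ht =>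
    eq_pow_of_relation (m := 3) rfl (fun t ht => by
      have := hr ⟨1, by decide⟩ ⟨0, by decide⟩ t ht
      rw [hπ, hπ1] at this
      simp only at this
      rwa [show chevG2.cartan (1 : ℕ) (chevG2.simple 0) = -1 by decide +kernel,
        show chevG2.cartan (0 : ℕ) (chevG2.simple 1) = -((3 : ℕ) : ℤ) by decide +kernel] at this)
      t ht
  rcases three_eq_zero_or_of_cube _ _ e with h3 | ⟨-, hF⟩
  · have h3' := ringChar_eq_of_zero (F := F) Nat.prime_three (by exact_mod_cast h3)
    rw [ringChar.eq F 2] at h3'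
    exact absurd h3' (by decide)
  · classical
    have hle : Fintype.card F ≤ ({0, 1} : Finset F).card :=
      Finset.card_le_card (s := Finset.univ) fun t _ => by
        rcases hF t with rfl | rfl <;> simp
    have := hle.trans (Finset.card_insert_le _ _)
    rw [Finset.card_singleton] at this
    omega

end Cfsg.Agent.Lie.PMin
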