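import Cfsg.Agent.Lib.Lie.PMin.Flag
import Cfsg.Agent.Lib.Lie.PMin.Chev
import Cfsg.Agent.Lib.Lie.DefChar.Instances
import Cfsg.Agent.Lib.Classical.PSpAutFrame
import Cfsg.Agent.Lib.Classical.UnitAutFrame
import Cfsg.Agent.Lib.Classical.OrthAutFrame
import Cfsg.Agent.Lib.Classical.OrthEvenAut
import Cfsg.Agent.Lib.Classical.OrthModels
import Cfsg.Agent.S1082
import Cfsg.Agent.S0295
import Cfsg.Agent.S0296
import Cfsg.Agent.S0297

/-!
Symplectic, unitary and orthogonal groups of Witt index at least two.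
-/

set_option autoImplicit false
set_option linter.unusedSectionVars false
set_option quotPrecheck false

namespace Cfsg.Agent.Lie.PMin

open Cfsg Cfsg.Agent.Lie.Over Cfsg.Agent.Lie.DefChar Matrix Module

section Tools

variable {F : Type*} [Field F] [Finite F] {V : Type*} [AddCommGroup V] [Module F V] [Finite V]
  {S : Type*} [Group S] [Finite S] (G : Geo F V S)

/-- Few conditions leave room outside a small subspace. -/
theorem exists_perp (O : List V) (U : Submodule F V) (h : finrank F U + O.length < finrank F V) :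
    ∃ u, u ∉ U ∧ ∀ o ∈ O, G.β u o = 0 := by
  by_contra hcon
  push Not at hcon
  let φ : V →ₗ[F] (Fin O.length → F) :=
    { toFun := fun u i => G.β u O[i]
      map_add' := fun u v => funext fun i => G.add_left u v _
      map_smul' := fun c u => funext fun i => G.smul_left c u _ }
  have hk : LinearMap.ker φ ≤ U := fun u hu => by
    by_contra hu'
    obtain ⟨o, ho, hne⟩ := hcon u hu'
    obtain ⟨i, hi, rfl⟩ := List.getElem_of_mem ho
    exact hne (congrFun (LinearMap.mem_ker.1 hu) ⟨i, hi⟩)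
  have h1 := φ.finrank_range_add_finrank_ker
  have h2 := Submodule.finrank_mono hk
  have h3 := (LinearMap.range φ).finrank_le
  rw [Module.finrank_pi, Fintype.card_fin] at h3
  omega

theorem exists_sep_of_inj (hinj : ∀ y y', (∀ u, G.β u y = G.β u y') → y = y') {W : Submodule F V}
    {v : V} (hv : v ∉ W) : ∃ u, (∀ w ∈ W, G.β u w = 0) ∧ G.β u v ≠ 0 := by
  obtain ⟨f, hfv, hf⟩ := Submodule.exists_dual_map_eq_bot_of_notMem hv inferInstance
  obtain ⟨u, hu⟩ := G.exists_riesz hinj f
  refine ⟨u, fun w hw => G.symm0 _ _ ?_, fun h => hfv (by rw [← hu]; exact G.symm0 _ _ h)⟩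
  have : f w ∈ W.map f := ⟨w, hw, rfl⟩
  rw [hf, Submodule.mem_bot] at this
  rw [hu, this]

theorem finrank_span_pair_le (a b : V) : finrank F (Submodule.span F ({a, b} : Set V)) ≤ 2 := by
  classical
  have := finrank_span_finset_le_card (R := F) ({a, b} : Finset V)
  rw [Finset.coe_pair] at this
  exact this.trans Finset.card_le_two

end Tools

variable {F : Type*} [Field F] [Fintype F] {p : ℕ} [Fact p.Prime] [CharP F p]

section Symplectic

open Cfsg.Agent.Classical Cfsg.Agent.Classical.PSpAut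

variable {m : ℕ}

theorem flag_sp (hm : 2 ≤ m) (h4 : m = 2 → p ≠ 2) :
    Flag (spGeo (F := F) (m := m)) p (Cfsg.PSp m F) (spToPSp m F) where
  core := sp_core (by omega)
  inj' y y' h := by
    rw [← sub_eq_zero]
    refine eq_zero_of_sympForm_eq_zero fun v => ?_
    have h1 : sympForm m F v (y - y') = 0 := by
      rw [sympForm_sub_right, show sympForm m F v y = sympForm m F v y' from h v, sub_self]
    rw [sympForm_swap, h1, neg_zero]
  sieg := siegel_sp.sieg
  tv := siegel_sp.tv
  pair e _ he0 := by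
    obtain ⟨x, hx, hxe⟩ := exists_perp (spGeo (F := F) (m := m)) [e] (Submodule.span F {e}) (by
      rw [finrank_span_singleton he0, Module.finrank_pi, Fintype.card_sum, Fintype.card_fin]
      simp
      omega)
    exact ⟨x, trivial, hxe e (by simp), hx⟩
  lin w d hw _ hw0 hd0 hnot hwd :=
    spGeo.exists_sep (fun y y' h => by
      rw [← sub_eq_zero]
      refine eq_zero_of_sympForm_eq_zero fun v => ?_
      have h1 : sympForm m F v (y - y') = 0 := by
        rw [sympForm_sub_right, show sympForm m F v y = sympForm m F v y' from h v, sub_self]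
      rw [sympForm_swap, h1, neg_zero]) (fun _ _ _ _ => ⟨0, trivial⟩) w d hw hw0 hd0 hnot hwd
  push y e e' hy _ he' hey he'y := by
    refine ⟨sympTv y 1, ?_, ?_⟩
    · rw [spGeo_act, sympTv_apply, show sympForm m F e y = 0 from hey]
      simp
    · rw [spGeo_act, sympTv_apply, spGeo_beta, sympForm_add_left, sympForm_self, sympForm_smul_left,
        zero_add, one_mul]
      exact mul_ne_zero he'y fun h => he'y (spGeo.symm0 _ _ h)
  surj := PSpAut.spToPSp_surjective
  ker := (QuotientGroup.ker_mk' _).le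
  semi a := by
    obtain ⟨g, σ, rfl⟩ := PSpAut.exists_param (p := p) hm h4 a
    set M : Matrix (Fin m ⊕ Fin m) (Fin m ⊕ Fin m) F := ((g : GL (Fin m ⊕ Fin m) F) : Matrix (Fin m ⊕ Fin m) (Fin m ⊕ Fin m) F) with hM
    obtain ⟨c, hc⟩ := mem_GSp.1 g.2
    have hinj : Function.Injective fun v : Fin m ⊕ Fin m → F => M *ᵥ (σ ∘ v) := fun u v h => by
      have h1 := Matrix.mulVec_injective_of_isUnit (A := M) (Units.isUnit _) h
      exact funext fun i => σ.injective (congrFun h1 i)
    refine ⟨fun v => M *ᵥ (σ ∘ v), Finite.injective_iff_bijective.1 hinj, fun u v => ?_, fun r v => ?_,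
      fun u v huv => ?_, fun _ _ => trivial, fun s => ⟨spSemi g σ s, rfl, fun v => ?_⟩⟩
    · rw [← Matrix.mulVec_add]
      exact congrArg _ (funext fun i => map_add σ _ _)
    · refine ⟨σ r, ?_⟩
      rw [← Matrix.mulVec_smul]
      exact congrArg _ (funext fun i => map_mul σ _ _)
    · show sympForm m F (M *ᵥ (σ ∘ u)) (M *ᵥ (σ ∘ v)) = 0
      rw [hc, sympForm_comp, show sympForm m F u v = 0 from huv, map_zero, mul_zero]
    · show ((spSemi g σ s : Matrix.symplecticGroup (Fin m) F) : Matrix (Fin m ⊕ Fin m) (Fin m ⊕ Fin m) F) *ᵥ (M *ᵥ (σ ∘ v)) =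
        M *ᵥ (σ ∘ ((s : Matrix (Fin m ⊕ Fin m) (Fin m ⊕ Fin m) F) *ᵥ v))
      rw [spSemi_coe, Matrix.mulVec_mulVec, Matrix.mul_assoc, Units.inv_mul, Matrix.mul_one,
        ← Matrix.mulVec_mulVec, PSpAut.map_mulVec_comp]

theorem verdict_psp [IsSimpleGroup (Cfsg.PSp m F)] (hm : 2 ≤ m) (h4 : m = 2 → p ≠ 2) :
    Verdict p (Cfsg.PSp m F) :=
  (flag_sp hm h4).verdict

end Symplectic

section Unitary

open Cfsg.Agent.Classical Cfsg.Agent.Classical.PSUAut

variable {n q : ℕ}

local notation "h" => hermForm n F q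
local notation "V" => (Fin n → F)

theorem su_inj' (hF : Fintype.card F = q ^ 2) (y y' : V) (e : ∀ u, (suGeo hF).β u y = (suGeo hF).β u y') :
    y = y' := by
  rw [← sub_eq_zero]
  refine eq_zero_of_h hF fun v => h_comm_zero hF ?_
  rw [h_sub_right hF, show h v y = h v y' from e v, sub_self]

theorem flag_su (hF : Fintype.card F = q ^ 2) (hn : 4 ≤ n) :
    Flag (suGeo (n := n) hF) p (Cfsg.PSU n F q) (suToPSU n F q) where
  core := su_core hF (by omega)
  inj' := su_inj' hF
  sieg := (siegel_su hF).sieg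
  tv := (siegel_su hF).tv
  pair e he he0 := by
    obtain ⟨f, P⟩ := exists_pair hF he0 he
    have hsp : ∀ x : V, h x e = 0 → h x f = 0 → x ∈ Submodule.span F {e} → x = 0 := fun x _ h2 hx => by
      obtain ⟨c, rfl⟩ := Submodule.mem_span_singleton.1 hx
      rw [h_smul_left, P.ef, mul_one] at h2
      rw [h2, zero_smul]
    obtain ⟨u, hu0, hu⟩ := exists_perp (suGeo (n := n) hF) [e, f] ⊥ (by
      rw [finrank_bot, Module.finrank_pi, Fintype.card_fin]
      simp
      omega)
    rw [Submodule.mem_bot] at hu0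
    have hue : h u e = 0 := hu e (by simp)
    have huf : h u f = 0 := hu f (by simp)
    by_cases huu : h u u = 0
    · exact ⟨u, huu, hue, fun hx => hu0 (hsp u hue huf hx)⟩
    obtain ⟨v, hv0, hv⟩ := exists_perp (suGeo (n := n) hF) [e, f, u] ⊥ (by
      rw [finrank_bot, Module.finrank_pi, Fintype.card_fin]
      simp
      omega)
    rw [Submodule.mem_bot] at hv0
    have hve : h v e = 0 := hv e (by simp)
    have hvf : h v f = 0 := hv f (by simp)
    have hvu : h v u = 0 := hv u (by simp)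
    by_cases hvv : h v v = 0
    · exact ⟨v, hvv, hve, fun hx => hv0 (hsp v hve hvf hx)⟩
    obtain ⟨s, hs⟩ := exists_norm hF (a := -(h v v / h u u))
      (by rw [map_neg, map_div₀, cj_h_self hF, cj_h_self hF])
    have h1 : h (v + s • u) e = 0 := by rw [h_add_left, h_smul_left, hve, hue, mul_zero, add_zero]
    have h2 : h (v + s • u) f = 0 := by rw [h_add_left, h_smul_left, hvf, huf, mul_zero, add_zero]
    refine ⟨v + s • u, ?_, h1, fun hx => hvv ?_⟩
    · show h (v + s • u) (v + s • u) = 0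
      rw [h_add_left, h_add_right hF, h_add_right hF, h_smul_left, h_smul_left, h_smul_right hF,
        h_smul_right hF, hvu, h_comm_zero hF hvu]
      field_simp at hs ⊢
      linear_combination hs
    · have h3 : h (v + s • u) v = 0 := by rw [hsp _ h1 h2 hx, h_zero_left]
      rwa [h_add_left, h_smul_left, h_comm_zero hF hvu, mul_zero, add_zero] at h3
  lin w d hw _ hw0 hd0 hnot hwd := by
    refine (suGeo hF).exists_sep (su_inj' hF) (fun w v hw hvw => ?_) w d hw hw0 hd0 hnot hwd
    replace hvw : h v w ≠ 0 := hvw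
    have hvw' : h w v ≠ 0 := fun e => hvw ((suGeo hF).symm0 _ _ e)
    obtain ⟨c, hc⟩ := exists_trace_eq hF (a := -h v v) (by rw [map_neg, cj_h_self hF])
    refine ⟨c / h w v, ?_⟩
    show h _ _ = 0
    have hww : h w w = 0 := hw
    rw [h_add_left, h_add_right hF, h_add_right hF, h_smul_left, h_smul_left, h_smul_right hF,
      h_smul_right hF, hww, map_div₀, cj_h hF w v, div_mul_cancel₀ _ hvw', div_mul_cancel₀ _ hvw]
    linear_combination hc
  push y e e' hy _ he' hey he'y := by
    obtain ⟨t, ht0, ht⟩ := exists_trace_zero hF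
    have H : EOK (q := q) y 0 t :=
      ⟨hy, h_zero_left y, by rw [cj_pow hF, h_zero_left, add_zero]; exact ht⟩
    obtain ⟨g, hg'⟩ := exists_eSU hF H
    have hg : ∀ v, (suGeo hF).act g v = v + (t * h v y) • y := fun v => by
      rw [hg', eMat_mulVec, h_zero_right hF]
      module
    refine ⟨g, ?_, ?_⟩
    · rw [hg, show h e y = 0 from hey]
      simp
    · show h _ e' ≠ 0
      rw [hg, h_add_left, h_smul_left, show h e' e' = 0 from he', zero_add]
      exact mul_ne_zero (mul_ne_zero ht0 he'y) fun h0 => he'y ((suGeo hF).symm0 _ _ h0)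
  surj := PSUAut.suToPSU_surjective
  ker := (QuotientGroup.ker_mk' _).le
  semi a := by
    obtain ⟨g, σ, rfl⟩ := PSUAut.exists_param hF (by omega) (by omega) a
    set M : Matrix (Fin n) (Fin n) F := ((g : GL (Fin n) F) : Matrix (Fin n) (Fin n) F) with hM
    have hinj : Function.Injective fun v : V => M *ᵥ (σ ∘ v) := fun u v huv => by
      have h1 := Matrix.mulVec_injective_of_isUnit (A := M) (Units.isUnit _) huv
      exact funext fun i => σ.injective (congrFun h1 i)
    have hform : ∀ u v : V, h (M *ᵥ (σ ∘ u)) (M *ᵥ (σ ∘ v)) = σ (h u v) := fun u v => by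
      rw [mem_GU.1 g.2, PSUAut.h_comp]
    refine ⟨fun v => M *ᵥ (σ ∘ v), Finite.injective_iff_bijective.1 hinj, fun u v => ?_, fun r v => ?_,
      fun u v huv => ?_, fun v hv => ?_, fun s => ⟨suSemi g σ s, rfl, fun v => ?_⟩⟩
    · rw [← Matrix.mulVec_add]
      exact congrArg _ (funext fun i => map_add σ _ _)
    · refine ⟨σ r, ?_⟩
      rw [← Matrix.mulVec_smul]
      exact congrArg _ (funext fun i => map_mul σ _ _)
    · show h (M *ᵥ (σ ∘ u)) (M *ᵥ (σ ∘ v)) = 0
      rw [hform, show h u v = 0 from huv, map_zero]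
    · show h (M *ᵥ (σ ∘ v)) (M *ᵥ (σ ∘ v)) = 0
      rw [hform, show h v v = 0 from hv, map_zero]
    · show suVal (suSemi g σ s) *ᵥ (M *ᵥ (σ ∘ v)) = M *ᵥ (σ ∘ (suVal s *ᵥ v))
      rw [suSemi_coe, Matrix.mulVec_mulVec, Matrix.mul_assoc, Units.inv_mul, Matrix.mul_one,
        ← Matrix.mulVec_mulVec, PSUAut.map_mulVec_comp]

theorem verdict_psu (hF : Fintype.card F = q ^ 2) [IsSimpleGroup (Cfsg.PSU n F q)] (hn : 4 ≤ n) :
    Verdict p (Cfsg.PSU n F q) :=
  (flag_su hF hn).verdict

end Unitary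

section Orthogonal

open Cfsg.Agent.Classical Cfsg.Agent.Classical.OrthAut

variable {ι : Type} [Fintype ι] [DecidableEq ι] {Q : QuadraticForm F (ι → F)}

local notation "B" => QuadraticMap.polar ⇑Q

variable (hQ : (QuadraticMap.polarBilin Q).Nondegenerate) (hT : Tri Q)
include hQ hT

theorem om_inj' (y y' : ι → F) (e : ∀ u, (omGeo Q).β u y = (omGeo Q).β u y') : y = y' := by
  rw [← sub_eq_zero]
  by_contra hne
  obtain ⟨z, hz⟩ := exists_polar1 hQ hne 1
  rw [QuadraticMap.polar_comm, QuadraticMap.polar_sub_right, show B z y = B z y' from e z, sub_self] at hz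
  exact zero_ne_one hz

theorem om_sieg (w u : ι → F) (hw : (omGeo Q).sing w) (hu : (omGeo Q).β u w = 0) :
    ∃ g, ∃ k l : F, k ≠ 0 ∧ ∀ v, (omGeo Q).act g v =
      v + (omGeo Q).β v w • u + (k * (omGeo Q).β v u + l * (omGeo Q).β v w) • w := by
  have hu' : B u w = 0 := hu
  obtain ⟨g, hg⟩ := exists_eOm' hQ hT (e := w) (w := u)
    ⟨hw, by rw [QuadraticMap.polar_comm]; exact hu'⟩
  refine ⟨g, -1, -Q u, neg_ne_zero.2 one_ne_zero, fun v => ?_⟩
  rw [hg, eMat_mulVec, QuadraticMap.polar_comm _ w v, QuadraticMap.polar_comm _ u v]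
  show _ = v + B v w • u + (-1 * B v u + -Q u * B v w) • w
  module

omit hQ hT in
theorem om_semi {G : GL ι F} {ρ : RingAut F} (hh : IsSemisimilarityPair (⇑Q) G ρ) :
    ∃ Gm : (ι → F) → (ι → F), Function.Bijective Gm ∧ (∀ u v, Gm (u + v) = Gm u + Gm v) ∧
    (∀ (c : F) (v : ι → F), ∃ c' : F, Gm (c • v) = c' • Gm v) ∧
    (∀ u v, (omGeo Q).β u v = 0 → (omGeo Q).β (Gm u) (Gm v) = 0) ∧
    (∀ v, (omGeo Q).sing v → (omGeo Q).sing (Gm v)) ∧
    ∀ s : Cfsg.Omega F ⇑Q, ∃ s', omPi s' = poSemi hh (omPi s) ∧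
      ∀ v, (omGeo Q).act s' (Gm v) = Gm ((omGeo Q).act s v) := by
    set M : Matrix ι ι F := (G : Matrix ι ι F) with hM
    obtain ⟨c, hc⟩ := id hh
    have hq : ∀ v, Q (semiFun G ρ v) = c * ρ (Q v) := hc
    have hinj : Function.Injective fun v : ι → F => semiFun G ρ v := fun u v h => by
      have h1 := Matrix.mulVec_injective_of_isUnit (A := M) (Units.isUnit _) h
      exact funext fun i => ρ.injective (congrFun h1 i)
    have hadd : ∀ u v, semiFun G ρ (u + v) = semiFun G ρ u + semiFun G ρ v := fun u v => by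
      simp only [semiFun]
      rw [← Matrix.mulVec_add]
      exact congrArg _ (funext fun i => map_add ρ _ _)
    refine ⟨semiFun G ρ, Finite.injective_iff_bijective.1 hinj, hadd, fun r v => ?_,
      fun u v huv => ?_, fun v hv => ?_, fun s => ⟨omSemi hh s, rfl, fun v => ?_⟩⟩
    · refine ⟨ρ r, ?_⟩
      simp only [semiFun]
      rw [← Matrix.mulVec_smul]
      exact congrArg _ (funext fun i => map_mul ρ _ _)
    · show B (semiFun G ρ u) (semiFun G ρ v) = 0
      rw [QuadraticMap.polar, ← hadd, hq, hq, hq, ← mul_sub, ← mul_sub, ← map_sub, ← map_sub,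
        show Q (u + v) - Q u - Q v = 0 from huv, map_zero, mul_zero]
    · show Q (semiFun G ρ v) = 0
      rw [hq, show Q v = 0 from hv, map_zero, mul_zero]
    · show omVal (omSemi hh s) *ᵥ (semiFun G ρ v) = semiFun G ρ (omVal s *ᵥ v)
      rw [omSemi_coe, semiFun_mulVec]

theorem flag_omega (hG : Good Q) (hn : 5 ≤ Fintype.card ι) :
    Flag (omGeo Q) p (Cfsg.POmega F ⇑Q) (omPi (Q := Q)) where
  core := om_core hQ hT hn
  inj' := om_inj' hQ hT
  sieg := om_sieg hQ hT
  tv := Or.inr (by rw [Module.finrank_pi]; exact hn)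
  pair e he he0 := by
    obtain ⟨f, hf, hef⟩ := exists_pair hQ he0 he
    have P : Pair Q e f := ⟨he, hf, hef⟩
    obtain ⟨hmem, hnd, hd, -⟩ := pairPerp_spec hQ P
    obtain ⟨r, hr, hr0, hQr⟩ := exists_singular_in (Q := Q) hnd (by omega)
    refine ⟨r, hQr, ?_, fun hx => ?_⟩
    · show B r e = 0
      rw [QuadraticMap.polar_comm]; exact (hmem r hr).1
    · obtain ⟨c, rfl⟩ := Submodule.mem_span_singleton.1 hx
      have h1 := (hmem _ hr).2
      rw [QuadraticMap.polar_smul_right, QuadraticMap.polar_comm, hef, smul_eq_mul, mul_one] at h1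
      exact hr0 (by rw [h1, zero_smul])
  lin w d hw _ hw0 hd0 hnot hwd := by
    refine (omGeo Q).exists_sep (om_inj' hQ hT) (fun w v hw hvw => ?_) w d hw hw0 hd0 hnot hwd
    replace hvw : B v w ≠ 0 := hvw
    refine ⟨-Q v / B v w, ?_⟩
    show Q _ = 0
    rw [quad_add_smul, show Q w = 0 from hw, mul_zero, add_zero, div_mul_cancel₀ _ hvw, add_neg_cancel]
  push y e e' hy he he' hey he'y := by
    obtain ⟨u, huy, hue, hQu⟩ : ∃ u, B u y = 0 ∧ B u e = 0 ∧ Q u ≠ 0 := by
      by_contra hcon
      push Not at hcon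
      set U := Submodule.span F ({y, e} : Set (ι → F)) with hU
      have hUle := finrank_span_pair_le (F := F) y e
      obtain ⟨u, huU, hu⟩ := exists_perp (omGeo Q) [y, e] U (by
        rw [← hU] at hUle
        rw [Module.finrank_pi]
        simp
        omega)
      obtain ⟨v, hvU, hvu⟩ := exists_sep_of_inj (omGeo Q) (om_inj' hQ hT) huU
      have h1 : B v y = 0 := hvU y (Submodule.subset_span (by simp))
      have h2 : B v e = 0 := hvU e (Submodule.subset_span (by simp))
      have h3 : B u y = 0 := hu y (by simp)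
      have h4 : B u e = 0 := hu e (by simp)
      have h5 : Q (v + u) = 0 := hcon _ (by rw [QuadraticMap.polar_add_left, h1, h3, add_zero])
        (by rw [QuadraticMap.polar_add_left, h2, h4, add_zero])
      rw [quad_add, hcon v h1 h2, hcon u h3 h4, zero_add, zero_add] at h5
      exact hvu h5
    obtain ⟨g, hg⟩ := exists_eOm' hQ hT (e := y) (w := u)
      ⟨hy, by rw [QuadraticMap.polar_comm]; exact huy⟩
    have hey' : B y e = 0 := by rw [QuadraticMap.polar_comm]; exact hey
    refine ⟨g, ?_, ?_⟩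
    · rw [hg, eMat_mulVec, hey', hue]
      simp
    · show B ((omGeo Q).act g e') e' ≠ 0
      have he'y' : B y e' ≠ 0 := by rw [QuadraticMap.polar_comm]; exact he'y
      have hne : -Q u * (B y e' * B y e') ≠ 0 := mul_ne_zero (neg_ne_zero.2 hQu) (mul_ne_zero he'y' he'y')
      convert hne using 1
      rw [hg, eMat_mulVec]
      simp only [sub_eq_add_neg, ← neg_smul, QuadraticMap.polar_add_left, QuadraticMap.polar_smul_left,
        smul_eq_mul, polar_self' (show Q e' = 0 from he'), QuadraticMap.polar_comm _ u e']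
      ring
  surj := omPi_surjective
  ker := (QuotientGroup.ker_mk' _).le
  semi a := by
    obtain ⟨g, k, σ, τ, h₀, h', rfl⟩ := exists_param p hQ hT hG a
    rw [poSemi_inv h₀, poSemi_mul (isPair_inv h₀) h']
    exact om_semi _

theorem verdict_omega [IsSimpleGroup (Cfsg.POmega F ⇑Q)] (hG : Good Q) (hn : 5 ≤ Fintype.card ι) :
    Verdict p (Cfsg.POmega F ⇑Q) :=
  (flag_omega hQ hT hG hn).verdict

end Orthogonal

section Families

open Cfsg.Agent.Classical Cfsg.Agent.Classical.OrthAut

variable {K : Type} [Field K] [Fintype K] [CharP K p]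

theorem verdict_omega_odd {m : ℕ} (hm : 3 ≤ m) (hodd : Odd (Fintype.card K)) :
    Verdict p (POmega K (quadFormOdd m K)) := by
  have H := oddSpace_qfOdd (F := K) hm hodd
  haveI := Cfsg.Agent.S0295.result hodd m hm
  rw [← coe_qfOdd] at this ⊢
  exact verdict_omega H.nd H.tri (good_qfOdd hm) (by simp; omega)

theorem verdict_omega_plus {m : ℕ} (hm : 4 ≤ m) : Verdict p (POmega K (quadFormPlus m K)) := by
  rcases Nat.lt_or_ge m 5 with h5 | h5
  · obtain rfl : m = 4 := by omega
    obtain ⟨e⟩ := Cfsg.Agent.S1082.result (F := K)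
    exact Verdict.of_equiv e.symm (verdict_d4 K)
  haveI := Cfsg.Agent.S0296.result (F := K) m hm
  rw [← coe_qfPlus] at this ⊢
  exact verdict_omega (nondegenerate_qfPlus m) (tri_qfPlus (by omega)) (good_qfPlus h5) (by simp; omega)

theorem verdict_omega_minus {m : ℕ} (hm : 4 ≤ m) {a b : K}
    (hab : ∀ z₁ z₂ : K, z₁ ^ 2 + a * z₁ * z₂ + b * z₂ ^ 2 = 0 → z₁ = 0 ∧ z₂ = 0) :
    Verdict p (POmega K (quadFormMinus (m - 1) K a b)) := by
  haveI := Cfsg.Agent.S0297.result (F := K) m hm a b hab
  rw [← coe_qfMinus] at this ⊢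
  exact verdict_omega (nondegenerate_qfMinus (m - 1) hab) (tri_qfMinus (by omega) a b)
    (good_qfMinus (by omega) hab) (by simp; omega)

end Families

end Cfsg.Agent.Lie.PMin
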