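import Cfsg.Agent.Lib.Lie.PMin.Two
import Cfsg.Agent.Lib.Lie.Over.RigidForms

/-!
Classical groups of Witt index at least two: the stabilisers of the point and of the line fixed by a
Sylow subgroup are invariant under all automorphisms fixing that subgroup.
-/

set_option autoImplicit false
set_option linter.unusedSectionVars false

namespace Cfsg.Agent.Lie.PMin

open Cfsg Cfsg.Agent.Lie.Over Module

variable {F : Type*} [Field F] [Finite F] {p : ℕ} [Fact p.Prime] [CharP F p] {V : Type*}
  [AddCommGroup V] [Module F V] [Finite V] {S : Type*} [Group S] [Finite S] (G : Geo F V S)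

/-- The stabiliser of a subspace. -/
def stab (W : Submodule F V) : Subgroup S where
  carrier := {g | ∀ w ∈ W, G.act g w ∈ W}
  one_mem' := fun w hw => by simpa using hw
  mul_mem' := fun {a b} ha hb w hw => by rw [map_mul, Module.End.mul_apply]; exact ha _ (hb _ hw)
  inv_mem' := fun {g} hg w hw => by
    let f : W → W := fun v => ⟨G.act g v, hg v v.2⟩
    haveI : Finite W := Finite.of_injective _ Subtype.val_injective
    have hinj : Function.Injective f := fun a b h => by
      refine Subtype.ext ?_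
      rw [← G.act_inv_act g a, ← G.act_inv_act g b]
      exact congrArg (G.act g⁻¹) (congrArg Subtype.val h)
    obtain ⟨v, hv⟩ := (Finite.injective_iff_surjective.1 hinj) ⟨w, hw⟩
    rw [show w = G.act g v from (congrArg Subtype.val hv).symm, G.act_inv_act]
    exact v.2

theorem mem_stab {W : Submodule F V} {g : S} : g ∈ stab G W ↔ ∀ w ∈ W, G.act g w ∈ W := Iff.rfl

/-- What the proof needs of a geometry. -/
structure Flag (p : ℕ) (K : Type*) [Group K] (π : S →* K) : Prop where
  core : G.Core p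
  inj' : ∀ y y', (∀ u, G.β u y = G.β u y') → y = y'
  sieg : ∀ w u, G.sing w → G.β u w = 0 → ∃ g, ∃ k l : F, k ≠ 0 ∧
    ∀ v, G.act g v = v + G.β v w • u + (k * G.β v u + l * G.β v w) • w
  tv : (∀ w, G.sing w → ∃ g, ∃ l : F, l ≠ 0 ∧ ∀ v, G.act g v = v + (l * G.β v w) • w) ∨
    5 ≤ finrank F V
  pair : ∀ e, G.sing e → e ≠ 0 → ∃ x, G.sing x ∧ G.β x e = 0 ∧ x ∉ Submodule.span F {e}
  lin : ∀ w d : V, G.sing w → G.sing d → w ≠ 0 → d ≠ 0 → d ∉ Submodule.span F {w} → G.β w d = 0 →
    ∃ y, G.sing y ∧ y ≠ 0 ∧ G.β w y ≠ 0 ∧ G.β d y = 0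
  push : ∀ y e e', G.sing y → G.sing e → G.sing e' → G.β e y = 0 → G.β e' y ≠ 0 →
    ∃ h, G.act h e = e ∧ G.β (G.act h e') e' ≠ 0
  surj : Function.Surjective π
  ker : π.ker ≤ Subgroup.center S
  semi : ∀ a : MulAut K, ∃ Gm : V → V, Function.Bijective Gm ∧ (∀ u v, Gm (u + v) = Gm u + Gm v) ∧
    (∀ (c : F) (v : V), ∃ c' : F, Gm (c • v) = c' • Gm v) ∧
    (∀ u v, G.β u v = 0 → G.β (Gm u) (Gm v) = 0) ∧ (∀ v, G.sing v → G.sing (Gm v)) ∧
    ∀ s : S, ∃ s', π s' = a (π s) ∧ ∀ v, G.act s' (Gm v) = Gm (G.act s v)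

variable {G} {K : Type*} [Group K] [Finite K] [IsSimpleGroup K] {π : S →* K}

/-- A `p`-element acting by a scalar modulo a fixed space fixes the vector modulo that space. -/
theorem eq_one_of_line {u : S} {k : ℕ} (hu : u ^ p ^ k = 1) {E : Submodule F V}
    (hE : ∀ w ∈ E, G.act u w ∈ E) {v : V} (hv : v ∉ E) {c : F} (hc : G.act u v - c • v ∈ E) :
    G.act u v - v ∈ E := by
  have hit : ∀ j : ℕ, G.act (u ^ j) v - c ^ j • v ∈ E := by
    intro j
    induction j with
    | zero => simp
    | succ j ih =>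
      rw [pow_succ', map_mul, Module.End.mul_apply]
      have h1 := hE _ ih
      rw [map_sub, map_smul] at h1
      have h2 := add_mem h1 (E.smul_mem (c ^ j) hc)
      convert h2 using 1
      rw [smul_sub, pow_succ, mul_smul]
      abel
  have h1 := hit (p ^ k)
  rw [hu, map_one, Module.End.one_apply] at h1
  have hc1 : c ^ p ^ k = 1 := by
    by_contra hne
    refine hv ((E.smul_mem_iff (sub_ne_zero.2 (Ne.symm hne))).1 ?_)
    rwa [sub_smul, one_smul]
  have hc2 : c = 1 := by
    haveI : ExpChar F p := ExpChar.prime Fact.out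
    refine sub_eq_zero.1 ((pow_eq_zero_iff (pow_ne_zero k (Fact.out : p.Prime).ne_zero)).1 ?_)
    rw [sub_pow_expChar_pow, one_pow, hc1, sub_self]
  rwa [hc2, one_smul] at hc

namespace Flag

variable (hG : Flag G p K π)
include hG

theorem beta_zero_right (u : V) : G.β u 0 = 0 :=
  G.symm0 _ _ (by simpa using G.smul_left 0 0 u)

theorem perp_span {w : V} {O : Set V} (h : ∀ o ∈ O, G.β w o = 0) {z : V} (hz : z ∈ Submodule.span F O) :
    G.β w z = 0 := G.symm0 _ _ (G.beta_span h hz)

/-- A vector outside a subspace is told apart by a vector orthogonal to it. -/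
theorem sep {W : Submodule F V} {v : V} (hv : v ∉ W) :
    ∃ u, (∀ w ∈ W, G.β u w = 0) ∧ G.β u v ≠ 0 := by
  obtain ⟨f, hfv, hf⟩ := Submodule.exists_dual_map_eq_bot_of_notMem hv inferInstance
  obtain ⟨u, hu⟩ := G.exists_riesz hG.inj' f
  refine ⟨u, fun w hw => G.symm0 _ _ ?_, fun h => hfv (by rw [← hu]; exact G.symm0 _ _ h)⟩
  have : f w ∈ W.map f := ⟨w, hw, rfl⟩
  rw [hf, Submodule.mem_bot] at this
  rw [hu, this]

theorem finrank_perp {O : List V} {U : Submodule F V}
    (h : ∀ u, (∀ o ∈ O, G.β u o = 0) → u ∈ U) : finrank F V ≤ finrank F U + O.length := by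
  let φ : V →ₗ[F] (Fin O.length → F) :=
    { toFun := fun u i => G.β u O[i]
      map_add' := fun u v => funext fun i => G.add_left u v _
      map_smul' := fun c u => funext fun i => G.smul_left c u _ }
  have hk : LinearMap.ker φ ≤ U := fun u hu => h u fun o ho => by
    obtain ⟨i, hi, rfl⟩ := List.getElem_of_mem ho
    exact congrFun (LinearMap.mem_ker.1 hu) ⟨i, hi⟩
  have h1 := φ.finrank_range_add_finrank_ker
  have h2 := Submodule.finrank_mono hk
  have h3 := (LinearMap.range φ).finrank_le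
  rw [Module.finrank_pi, Fintype.card_fin] at h3
  omega

/-- Vectors fixed modulo `0` by a point group. -/
theorem fixed_point {e v : V} (he : G.sing e) (he0 : e ≠ 0)
    (hv : ∀ g ∈ G.pointGroup e, G.act g v = v) : v ∈ Submodule.span F {e} := by
  obtain ⟨x, -, hxe, hx⟩ := hG.pair e he he0
  by_contra hv'
  have key : ∀ u, G.β u e = 0 → ∃ k l : F, k ≠ 0 ∧
      G.β v e • u + (k * G.β v u + l * G.β v e) • e = 0 := by
    intro u hu
    obtain ⟨g, k, l, hk, hg⟩ := hG.sieg e u he hu
    have hmem : g ∈ G.pointGroup e := by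
      refine G.mem_unip.2 ⟨fun w hw => ?_, fun z hz => ?_⟩
      · obtain ⟨t, rfl⟩ := Submodule.mem_span_singleton.1 hw
        rw [hg, G.smul_left, G.smul_left, G.sing_self e he, G.symm0 _ _ hu]
        simp
      · rw [hg, hz e (Submodule.mem_span_singleton_self e), zero_smul, add_zero, add_sub_cancel_left]
        exact Submodule.smul_mem _ _ (Submodule.mem_span_singleton_self e)
    refine ⟨k, l, hk, ?_⟩
    have h := hv g hmem
    rw [hg, add_assoc, add_eq_left] at h
    exact h
  obtain ⟨k, l, -, h⟩ := key x hxe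
  by_cases hve : G.β v e = 0
  · obtain ⟨u, hu, huv⟩ := hG.sep hv'
    obtain ⟨k', l', hk', h'⟩ := key u (hu e (Submodule.mem_span_singleton_self e))
    rw [hve, zero_smul, zero_add, mul_zero, add_zero] at h'
    exact huv (G.symm0 _ _ ((mul_eq_zero.1 ((smul_eq_zero.1 h').resolve_right he0)).resolve_left hk'))
  · refine hx ((Submodule.smul_mem_iff _ hve).1 ?_)
    rw [eq_neg_of_add_eq_zero_left h]
    exact neg_mem (Submodule.smul_mem _ _ (Submodule.mem_span_singleton_self e))

theorem central_line {z : S} (hz : z ∈ Subgroup.center S) {v : V} (hv : G.sing v) (hv0 : v ≠ 0) :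
    G.act z v ∈ Submodule.span F {v} :=
  hG.fixed_point hv hv0 fun g hg => by
    rw [← Module.End.mul_apply, ← map_mul, Subgroup.mem_center_iff.1 hz g, map_mul, Module.End.mul_apply,
      G.act_self hg]

theorem ker_le_stab {e : V} (he : G.sing e) (he0 : e ≠ 0) :
    π.ker ≤ stab G (Submodule.span F {e}) := fun z hz w hw => by
  obtain ⟨c, rfl⟩ := Submodule.mem_span_singleton.1 hw
  rw [map_smul]
  exact Submodule.smul_mem _ _ (hG.central_line (hG.ker hz) he he0)

theorem ker_p' : ¬ p ∣ Nat.card π.ker := fun h =>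
  G.not_dvd_center hG.core.fix hG.core.move hG.core.conn hG.core.span
    (h.trans (Subgroup.card_dvd_of_le hG.ker))

/-- The stabiliser of a singular point is maximal. -/
theorem eq_top_of_point {e : V} (he : G.sing e) (he0 : e ≠ 0) {H : Subgroup S}
    (hH : stab G (Submodule.span F {e}) ≤ H) {g : S} (hg : g ∈ H)
    (hge : G.act g e ∉ Submodule.span F {e}) : H = ⊤ := by
  have hpt : G.pointGroup e ≤ H := fun t ht => hH fun w hw => by rw [(G.mem_unip.1 ht).1 w hw]; exact hw
  have hin : ∀ k ∈ H, G.pointGroup (G.act k e) ≤ H := by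
    intro k hk t ht
    have h1 := G.conj_pointGroup k⁻¹ _ ht
    rw [G.act_inv_act, inv_inv] at h1
    have h2 := mul_mem (mul_mem hk (hpt h1)) (inv_mem hk)
    simpa [mul_assoc] using h2
  set e' := G.act g e with he'
  have hs' : G.sing e' := G.sing_act g e he
  have h0' : e' ≠ 0 := fun h => hge (by rw [h]; exact zero_mem _)
  obtain ⟨k₁, hk₁, k₂, hk₂, hpair⟩ : ∃ k₁ ∈ H, ∃ k₂ ∈ H,
      G.β (G.act k₁ e) (G.act k₂ e) ≠ 0 := by
    by_cases hb : G.β e e' = 0
    · obtain ⟨y, hy, -, hey, hy'⟩ := hG.lin e' e hs' he h0' he0 (fun h => hge (by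
          obtain ⟨c, hc⟩ := Submodule.mem_span_singleton.1 h
          have hc0 : c ≠ 0 := fun h0 => he0 (by rw [← hc, h0, zero_smul])
          exact Submodule.mem_span_singleton.2 ⟨c⁻¹, by rw [← hc, inv_smul_smul₀ hc0]⟩))
        (G.symm0 _ _ hb)
      obtain ⟨h, hhe, hh⟩ := hG.push y e e' hy he hs' hy' hey
      have hhH : h ∈ H := hH fun w hw => by
        obtain ⟨c, rfl⟩ := Submodule.mem_span_singleton.1 hw
        rw [map_smul, hhe]; exact hw
      exact ⟨h * g, mul_mem hhH hg, g, hg, by rw [map_mul, Module.End.mul_apply]; exact hh⟩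
    · exact ⟨1, one_mem _, g, hg, by simpa using hb⟩
  have hall : ∀ z : G.Pt, G.pointGroup z.1 ≤ H :=
    G.all_le_of_pair hG.core.move hG.core.conn
      (x := k₁ • (⟨e, he0, he⟩ : G.Pt)) (y := k₂ • (⟨e, he0, he⟩ : G.Pt)) hpair (hin k₁ hk₁) (hin k₂ hk₂)
  set N : Subgroup S := Subgroup.normalClosure (G.pointGroup e : Set S) with hN
  have hNH : N ≤ H := by
    refine (Subgroup.closure_le _).2 ?_
    intro t ht
    obtain ⟨a, ha, hat⟩ := Group.mem_conjugatesOfSet_iff.1 ht
    obtain ⟨k, rfl⟩ := isConj_iff.1 hat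
    exact hall (k • (⟨e, he0, he⟩ : G.Pt)) (G.conj_pointGroup k e ha)
  have hne : N.map π ≠ ⊥ := by
    intro hbot
    have hle : G.pointGroup e ≤ π.ker := fun t ht => by
      have : π t ∈ N.map π := ⟨t, Subgroup.subset_normalClosure ht, rfl⟩
      rwa [hbot, Subgroup.mem_bot] at this
    have hne1 : G.pointGroup e ≠ ⊥ := hG.core.nontriv {e}
      (fun y hy => by rw [Set.mem_singleton_iff.1 hy]; exact he)
      (fun a ha b hb => by
        rw [Set.mem_singleton_iff.1 ha, Set.mem_singleton_iff.1 hb]; exact G.sing_self e he)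
      ⟨e, rfl, he0⟩
    refine hG.ker_p' (dvd_trans ?_ (Subgroup.card_dvd_of_le hle))
    obtain ⟨n, hn⟩ := IsPGroup.iff_card.1 (show IsPGroup p (G.pointGroup e) from G.isPGroup_unip _)
    rcases Nat.eq_zero_or_pos n with rfl | hn0
    · exact absurd (Subgroup.card_eq_one.1 (hn.trans (pow_zero p))) hne1
    · rw [hn]; exact dvd_pow_self p hn0.ne'
  haveI : (N.map π).Normal := Subgroup.Normal.map Subgroup.normalClosure_normal π hG.surj
  have htop := (Subgroup.Normal.eq_bot_or_eq_top (H := N.map π) inferInstance).resolve_left hne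
  refine eq_top_iff.2 fun t _ => ?_
  obtain ⟨m, hm, hmt⟩ : π t ∈ N.map π := htop ▸ Subgroup.mem_top _
  have hker : m⁻¹ * t ∈ π.ker := by rw [MonoidHom.mem_ker, map_mul, map_inv, hmt, inv_mul_cancel]
  simpa using mul_mem (hNH hm) (hH (hG.ker_le_stab he he0 hker))

theorem map_ne_top {P : Subgroup S} (hker : π.ker ≤ P) (hP : P ≠ ⊤) : P.map π ≠ ⊤ := fun h => hP (by
  have := congrArg (Subgroup.comap π) h
  rwa [Subgroup.comap_map_eq_self hker, Subgroup.comap_top] at this)

/-- A `p`-group fixing `e` fixes a vector orthogonal to `e` modulo its line. -/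
theorem exists_fixed_mod {P : Subgroup S} (hP : IsPGroup p P) {e : V} (_he : G.sing e)
    (hfix : ∀ u ∈ P, G.act u e = e) (hx : ∃ x, G.β x e = 0 ∧ x ∉ Submodule.span F {e}) :
    ∃ v, v ∉ Submodule.span F {e} ∧ G.β v e = 0 ∧
      ∀ u ∈ P, G.act u v - v ∈ Submodule.span F {e} := by
  set E := Submodule.span F {e} with hE
  let L : Submodule F V :=
    { carrier := {v | G.β v e = 0}
      zero_mem' := by simpa using G.smul_left 0 0 e
      add_mem' := fun {a b} ha hb => by
        show G.β (a + b) e = 0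
        rw [G.add_left, show G.β a e = 0 from ha, show G.β b e = 0 from hb, add_zero]
      smul_mem' := fun c a ha => by
        show G.β (c • a) e = 0
        rw [G.smul_left, show G.β a e = 0 from ha, mul_zero] }
  have hfixE : ∀ u : P, E ≤ E.comap (G.act u) := fun u w hw => by
    obtain ⟨c, rfl⟩ := Submodule.mem_span_singleton.1 hw
    rw [Submodule.mem_comap, map_smul, hfix u u.2]; exact hw
  have hL : ∀ u : P, ∀ v ∈ L, G.act u v ∈ L := fun u v hv => by
    show G.β (G.act u v) e = 0
    have h := G.inv u v e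
    rw [hfix u u.2] at h
    rw [h]; exact hv
  let M : Submodule F (V ⧸ E) := L.map E.mkQ
  let act : P → M → M := fun u m => ⟨E.mapQ E (G.act u) (hfixE u) m, by
    obtain ⟨_, v, hv, rfl⟩ := m
    exact ⟨_, hL u v hv, rfl⟩⟩
  letI : MulAction P M :=
    { smul := act
      one_smul := fun m => by
        obtain ⟨_, v, hv, rfl⟩ := m
        refine Subtype.ext ?_
        show E.mkQ (G.act ((1 : P) : S) v) = E.mkQ v
        simp
      mul_smul := fun u w m => by
        obtain ⟨_, v, hv, rfl⟩ := m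
        refine Subtype.ext ?_
        show E.mkQ (G.act ((u * w : P) : S) v) = E.mkQ (G.act (u : S) (G.act (w : S) v))
        rw [Subgroup.coe_mul, map_mul, Module.End.mul_apply] }
  obtain ⟨x, hxe, hxE⟩ := hx
  have hMne : M ≠ ⊥ := fun h => hxE (by
    have : E.mkQ x ∈ M := ⟨x, hxe, rfl⟩
    rw [h, Submodule.mem_bot] at this
    exact (Submodule.Quotient.mk_eq_zero E).1 this)
  haveI : Finite (V ⧸ E) := Finite.of_surjective _ E.mkQ_surjective
  haveI : Finite M := Finite.of_injective _ Subtype.val_injective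
  have hdvd : p ∣ Nat.card M := by
    haveI := Fintype.ofFinite F
    rw [Module.natCard_eq_pow_finrank (K := F) (V := M)]
    refine dvd_pow ?_ fun h => hMne (Submodule.finrank_eq_zero.1 h)
    obtain ⟨k, -, hk⟩ := FiniteField.card F p
    rw [Nat.card_eq_fintype_card, hk]
    exact dvd_pow_self p k.2.ne'
  obtain ⟨⟨_, v, hv, rfl⟩, hm, hm0⟩ := hP.exists_fixed_point_of_prime_dvd_card_of_fixed_point M hdvd (a := 0)
    (fun u => Subtype.ext (map_zero _))
  refine ⟨v, fun h => hm0 (Subtype.ext ((Submodule.Quotient.mk_eq_zero E).2 h).symm), hv, fun u hu => ?_⟩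
  exact (Submodule.Quotient.eq E).1 (congrArg Subtype.val (hm ⟨u, hu⟩))

/-- The theorem. -/
theorem verdict : Verdict p K := by
  -- a Sylow subgroup and its fixed point
  obtain ⟨P⟩ : Nonempty (Sylow p S) := inferInstance
  obtain ⟨e, he0, he, hfix⟩ := hG.core.fix P P.isPGroup'
  set E := Submodule.span F {e} with hE
  set T := stab G E with hT
  have hPT : (P : Subgroup S) ≤ T := fun u hu w hw => by
    obtain ⟨c, rfl⟩ := Submodule.mem_span_singleton.1 hw
    rw [map_smul, hfix u hu]; exact hw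
  have hQP : G.pointGroup e ≤ (P : Subgroup S) := le_of_normalized P.not_dvd_index (G.isPGroup_unip _)
    fun g hg r hr => by
      have := G.conj_pointGroup g e hr
      rwa [hfix g hg] at this
  -- the second point
  obtain ⟨x₀, hx₀, hxe₀, hx₀E⟩ := hG.pair e he he0
  have hRT : G.unip (Submodule.span F ({e, x₀} : Set V)) ≤ T := fun t ht w hw => by
    rw [(G.mem_unip.1 ht).1 w (Submodule.span_mono (by simp) hw)]; exact hw
  obtain ⟨Q, hQ⟩ := ((G.isPGroup_unip (p := p) (Submodule.span F ({e, x₀} : Set V))).comap_subtype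
    (H := G.unip (Submodule.span F ({e, x₀} : Set V))) (K := T)).exists_le_sylow
  obtain ⟨g₀, hg₀⟩ := MulAction.exists_smul_eq ↥T Q (P.subtype hPT)
  set g : S := (g₀ : S) with hgdef
  obtain ⟨a, ha⟩ := Submodule.mem_span_singleton.1 (show G.act g e ∈ E from
    g₀.2 e (Submodule.mem_span_singleton_self e))
  have ha0 : a ≠ 0 := fun h => he0 (by
    rw [h, zero_smul] at ha
    rw [← G.act_inv_act g e, ← ha, map_zero])
  set x := G.act g x₀ with hx
  have hxs : G.sing x := G.sing_act g _ hx₀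
  have hxe : G.β x e = 0 := by
    have h1 : G.β x (G.act g e) = 0 := by rw [hx, G.inv]; exact hxe₀
    rw [← ha] at h1
    have h2 := G.symm0 _ _ h1
    rw [G.smul_left] at h2
    exact G.symm0 _ _ ((mul_eq_zero.1 h2).resolve_left ha0)
  have hxE : x ∉ E := fun h => hx₀E (by
    obtain ⟨c, hc⟩ := Submodule.mem_span_singleton.1 h
    refine Submodule.mem_span_singleton.2 ⟨c * a⁻¹, ?_⟩
    rw [← G.act_inv_act g x₀, ← hx, ← hc, map_smul, mul_smul]
    have h1 : G.act g⁻¹ (a • e) = e := by rw [ha, G.act_inv_act]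
    rw [map_smul] at h1
    conv_lhs => rw [← h1]
    rw [inv_smul_smul₀ ha0])
  have hx0 : x ≠ 0 := fun h => hxE (by rw [h]; exact zero_mem _)
  set W := Submodule.span F ({e, x} : Set V) with hW
  have heW : e ∈ W := Submodule.subset_span (by simp)
  have hxW : x ∈ W := Submodule.subset_span (by simp)
  have hEW : E ≤ W := Submodule.span_mono (by simp)
  have hRT' : ∀ t ∈ G.unip W, t ∈ T := fun t ht w hw => by
    rw [(G.mem_unip.1 ht).1 w (hEW hw)]; exact hw
  have hRP : G.unip W ≤ (P : Subgroup S) := by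
    intro t ht
    have hmem : g⁻¹ * t * g⁻¹⁻¹ ∈ G.unip (Submodule.span F ({e, x₀} : Set V)) := by
      refine G.conj_mem_unip g⁻¹ (fun w hw => ?_) (fun w hw => ?_) ht
      · obtain ⟨r, s, rfl⟩ := Submodule.mem_span_pair.1 hw
        rw [map_add, map_smul, map_smul, hx, G.act_inv_act]
        refine add_mem (Submodule.smul_mem _ _ ?_) (Submodule.smul_mem _ _ (Submodule.subset_span (by simp)))
        have h1 : G.act g⁻¹ (a • e) = e := by rw [ha, G.act_inv_act]
        rw [map_smul] at h1
        rw [show G.act g⁻¹ e = a⁻¹ • e by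
          conv_rhs => rw [← h1]
          rw [inv_smul_smul₀ ha0]]
        exact Submodule.smul_mem _ _ (Submodule.subset_span (by simp))
      · obtain ⟨r, s, rfl⟩ := Submodule.mem_span_pair.1 hw
        rw [inv_inv, map_add, map_smul, map_smul, ← ha, ← hx]
        exact add_mem (Submodule.smul_mem _ _ (Submodule.smul_mem _ _ heW)) (Submodule.smul_mem _ _ hxW)
    have h1 : g₀⁻¹ * ⟨t, hRT' t ht⟩ * g₀⁻¹⁻¹ ∈ (Q : Subgroup ↥T) := hQ hmem
    have h2 : (⟨t, hRT' t ht⟩ : ↥T) ∈ ((P.subtype hPT : Sylow p ↥T) : Subgroup ↥T) := by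
      rw [← hg₀, Sylow.coe_subgroup_smul, Subgroup.mem_pointwise_smul_iff_inv_smul_mem]
      simpa [MulAut.smul_def, mul_assoc] using h1
    exact h2
  have hfixP : ∀ u ∈ (P : Subgroup S), ∀ w ∈ E, G.act u w ∈ E := fun u hu => hPT hu
  -- the vectors fixed modulo `E`
  have huniq : ∀ v, G.β v e = 0 → (∀ u ∈ (P : Subgroup S), G.act u v - v ∈ E) → v ∈ W := by
    intro v hve hv
    by_contra hvW
    have key : ∀ u, G.β u e = 0 → G.β u x = 0 → ∃ k l : F, k ≠ 0 ∧
        G.β v x • u + (k * G.β v u + l * G.β v x) • x ∈ E := by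
      intro u hue hux
      obtain ⟨h, k, l, hk, hh⟩ := hG.sieg x u hxs hux
      have hmem : h ∈ G.unip W := by
        refine G.mem_unip.2 ⟨fun w hw => ?_, fun z hz => ?_⟩
        · obtain ⟨r, s, rfl⟩ := Submodule.mem_span_pair.1 hw
          rw [map_add, map_smul, map_smul, hh, hh, G.symm0 _ _ hxe, G.symm0 _ _ hue,
            G.sing_self x hxs, G.symm0 _ _ hux]
          simp
        · rw [hh, hz x hxW, zero_smul, add_zero, add_sub_cancel_left]
          exact W.smul_mem _ hxW
      have h1 := hv h (hRP hmem)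
      rw [hh, add_assoc, add_sub_cancel_left] at h1
      exact ⟨k, l, hk, h1⟩
    have hxnot : ∀ c : F, c • x ∈ E → c = 0 := fun c hc => by
      by_contra h0
      exact hxE ((E.smul_mem_iff h0).1 hc)
    by_cases hvx : G.β v x = 0
    · obtain ⟨u, hu, huv⟩ := hG.sep hvW
      obtain ⟨k, l, hk, h1⟩ := key u (hu e heW) (hu x hxW)
      rw [hvx, zero_smul, zero_add, mul_zero, add_zero] at h1
      exact huv (G.symm0 _ _ ((mul_eq_zero.1 (hxnot _ h1)).resolve_left hk))
    · rcases hG.tv with htv | h5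
      · obtain ⟨h, l, hl, hh⟩ := htv x hxs
        have hmem : h ∈ G.unip W := by
          refine G.mem_unip.2 ⟨fun w hw => ?_, fun z hz => ?_⟩
          · obtain ⟨r, s, rfl⟩ := Submodule.mem_span_pair.1 hw
            rw [map_add, map_smul, map_smul, hh, hh, G.symm0 _ _ hxe, G.sing_self x hxs]
            simp
          · rw [hh, hz x hxW, add_sub_cancel_left]
            exact W.smul_mem _ hxW
        have h1 := hv h (hRP hmem)
        rw [hh, add_sub_cancel_left] at h1
        exact mul_ne_zero hl hvx (hxnot _ h1)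
      · obtain ⟨u, hu1, hu2, huW⟩ : ∃ u, G.β u e = 0 ∧ G.β u x = 0 ∧ u ∉ W := by
          by_contra hcon
          push Not at hcon
          have h1 := hG.finrank_perp (O := [e, x]) (U := W)
            fun u hu => hcon u (hu e (by simp)) (hu x (by simp))
          have h2 : finrank F W ≤ 2 := by
            classical
            have := finrank_span_finset_le_card (R := F) ({e, x} : Finset V)
            rw [Finset.coe_pair] at this
            exact this.trans Finset.card_le_two
          simp at h1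
          omega
        obtain ⟨k, l, -, h1⟩ := key u hu1 hu2
        refine huW ((W.smul_mem_iff hvx).1 ?_)
        have h3 := sub_mem (hEW h1) (W.smul_mem (k * G.β v u + l * G.β v x) hxW)
        rwa [add_sub_cancel_right] at h3
  -- lines fixed by the Sylow subgroup
  have hline : ∀ v, (∀ u ∈ (P : Subgroup S), G.act u v ∈ Submodule.span F {v}) → G.sing v → v ≠ 0 →
      v ∈ E := by
    intro v hv hvs hv0
    refine hG.fixed_point he he0 fun u hu => ?_
    obtain ⟨c, hc⟩ := Submodule.mem_span_singleton.1 (hv u (hQP hu))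
    obtain ⟨k, hk⟩ := P.isPGroup' ⟨u, hQP hu⟩
    have := eq_one_of_line (G := G) (congrArg Subtype.val hk : u ^ p ^ k = 1) (E := (⊥ : Submodule F V))
      (fun w hw => by rw [(Submodule.mem_bot F).1 hw, map_zero]; exact zero_mem _) (v := v)
      (by simpa using hv0) (c := c) (by rw [hc, sub_self]; exact zero_mem _)
    simpa [sub_eq_zero] using this
  -- the automorphisms
  have hU₀ : ¬ p ∣ ((P : Subgroup S).map π).index := fun h =>
    P.not_dvd_index (h.trans (Subgroup.index_map_dvd _ hG.surj))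
  let U₀ : Sylow p K := (P.isPGroup'.map π).toSylow hU₀
  have hU₀c : (U₀ : Subgroup K) = (P : Subgroup S).map π := rfl
  have hxfix : ∀ u ∈ (P : Subgroup S), G.act u x - x ∈ E := by
    obtain ⟨v, hvE, hve, hv⟩ := hG.exists_fixed_mod P.isPGroup' he hfix ⟨x, hxe, hxE⟩
    obtain ⟨r, s, rfl⟩ := Submodule.mem_span_pair.1 (huniq v hve hv)
    have hs : s ≠ 0 := fun h => hvE (by
      rw [h, zero_smul, add_zero]
      exact E.smul_mem _ (Submodule.mem_span_singleton_self e))
    intro u hu
    have h1 := hv u hu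
    rw [map_add, map_smul, map_smul, hfix u hu, add_sub_add_left_eq_sub, ← smul_sub] at h1
    exact (E.smul_mem_iff hs).1 h1
  have hPW : (P : Subgroup S) ≤ stab G W := by
    intro u hu w hw
    obtain ⟨r, s, rfl⟩ := Submodule.mem_span_pair.1 hw
    rw [map_add, map_smul, map_smul, hfix u hu]
    refine add_mem (W.smul_mem _ heW) (W.smul_mem _ ?_)
    simpa using add_mem (hEW (hxfix u hu)) hxW
  have hPE : (U₀ : Subgroup K) ≤ T.map π := Subgroup.map_mono hPT
  have hPW' : (U₀ : Subgroup K) ≤ (stab G W).map π := Subgroup.map_mono hPW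
  -- the stabilisers are proper
  have heq : ∀ {t : S} {w : V}, G.act t e ∈ Submodule.span F {w} → w ∈ E → G.act t e ∈ E :=
    fun h hw => Submodule.span_le.2 (by simpa using hw) h
  have hTne : T ≠ ⊤ := by
    intro htop
    obtain ⟨y, hy, hy0, hey, hxy⟩ := hG.lin e x he hxs he0 hx0 hxE (G.symm0 _ _ hxe)
    obtain ⟨z, hz, hz0, hez, hyz⟩ := hG.core.conn e y he hy he0 hy0
    obtain ⟨t, ht, c, hc, htc⟩ := hG.core.move z e y hz he hy hz0 he0 hy0
      (fun h => hez (G.symm0 _ _ h)) (fun h => hyz (G.symm0 _ _ h))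
    have hmem : G.act t e ∈ E := (htop ▸ Subgroup.mem_top t : t ∈ T) e (Submodule.mem_span_singleton_self e)
    rw [htc, E.smul_mem_iff hc] at hmem
    obtain ⟨r, hr⟩ := Submodule.mem_span_singleton.1 hmem
    apply hey
    rw [← hr]
    refine G.symm0 _ _ ?_
    rw [G.smul_left, G.sing_self e he, mul_zero]
  -- an element of the stabiliser of `W` moving `e`
  obtain ⟨t, htW, hte⟩ : ∃ t ∈ stab G W, G.act t e ∉ E := by
    obtain ⟨y, hy, hye⟩ := hG.sep (W := Submodule.span F {x}) (v := e) (fun h => hxE (by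
      obtain ⟨c, hc⟩ := Submodule.mem_span_singleton.1 h
      have hc0 : c ≠ 0 := fun h0 => he0 (by rw [← hc, h0, zero_smul])
      exact Submodule.mem_span_singleton.2 ⟨c⁻¹, by rw [← hc, inv_smul_smul₀ hc0]⟩))
    have hyx : G.β y x = 0 := hy x (Submodule.mem_span_singleton_self x)
    obtain ⟨h, k, l, hk, hh⟩ := hG.sieg x y hxs hyx
    have hte : G.act h e = e + (k * G.β e y) • x := by
      rw [hh, G.symm0 _ _ hxe]; simp
    refine ⟨h, fun w hw => ?_, fun hcon => ?_⟩
    · obtain ⟨r, s, rfl⟩ := Submodule.mem_span_pair.1 hw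
      rw [map_add, map_smul, map_smul, hte, hh, G.sing_self x hxs, G.symm0 _ _ hyx]
      simp only [zero_smul, mul_zero, add_zero]
      exact add_mem (W.smul_mem _ (add_mem heW (W.smul_mem _ hxW))) (W.smul_mem _ hxW)
    · rw [hte, Submodule.add_mem_iff_right _ (Submodule.mem_span_singleton_self e),
        E.smul_mem_iff (mul_ne_zero hk fun h0 => hye (G.symm0 _ _ h0))] at hcon
      exact hxE hcon
  have hkT : π.ker ≤ T := hG.ker_le_stab he he0
  have hkW : π.ker ≤ stab G W := fun z hz w hw => by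
    obtain ⟨r, s, rfl⟩ := Submodule.mem_span_pair.1 hw
    rw [map_add, map_smul, map_smul]
    exact add_mem (W.smul_mem _ (hEW (hG.central_line (hG.ker hz) he he0)))
      (W.smul_mem _ (Submodule.span_mono (by simp) (hG.central_line (hG.ker hz) hxs hx0)))
  have hsup : T.map π ⊔ (stab G W).map π = ⊤ := by
    rw [← Subgroup.map_sup, hG.eq_top_of_point he he0 (le_sup_left : T ≤ T ⊔ stab G W)
      (Subgroup.mem_sup_right htW) hte]
    exact Subgroup.map_top_of_surjective _ hG.surj
  have hWne : stab G W ≠ ⊤ := by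
    intro htop
    obtain ⟨y, hy, hy0, hey, hxy⟩ := hG.lin e x he hxs he0 hx0 hxE (G.symm0 _ _ hxe)
    obtain ⟨z, hz, hz0, hez, hyz⟩ := hG.core.conn e y he hy he0 hy0
    obtain ⟨s, -, c, hc, hsc⟩ := hG.core.move z e y hz he hy hz0 he0 hy0
      (fun h => hez (G.symm0 _ _ h)) (fun h => hyz (G.symm0 _ _ h))
    have hmem : G.act s e ∈ W := (htop ▸ Subgroup.mem_top s : s ∈ stab G W) e heW
    rw [hsc, W.smul_mem_iff hc] at hmem
    refine hey (hG.perp_span (O := {e, x}) ?_ hmem)
    rintro o (rfl | rfl)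
    exacts [G.sing_self o he, G.symm0 _ _ hxe]
  refine verdict_stable U₀ ?_ hPE hPW' (Flag.map_ne_top hG hkT hTne) (Flag.map_ne_top hG hkW hWne) hsup
    fun a haU => ?_
  · intro htop
    haveI hn : (U₀ : Subgroup K).Normal := Subgroup.normalizer_eq_top_iff.1 htop
    rcases Subgroup.Normal.eq_bot_or_eq_top (H := (U₀ : Subgroup K)) inferInstance with h | h
    · have hle : G.pointGroup e ≤ π.ker := fun s hs => by
        have : π s ∈ (U₀ : Subgroup K) := ⟨s, hQP hs, rfl⟩
        rwa [h, Subgroup.mem_bot] at this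
      obtain ⟨n, hn⟩ := IsPGroup.iff_card.1 (show IsPGroup p (G.pointGroup e) from G.isPGroup_unip _)
      rcases Nat.eq_zero_or_pos n with rfl | hn0
      · exact hG.core.nontriv {e} (fun y hy => by rw [Set.mem_singleton_iff.1 hy]; exact he)
          (fun a ha b hb => by
            rw [Set.mem_singleton_iff.1 ha, Set.mem_singleton_iff.1 hb]; exact G.sing_self e he)
          ⟨e, rfl, he0⟩ (Subgroup.card_eq_one.1 (hn.trans (pow_zero p)))
      · exact hG.ker_p' ((hn ▸ dvd_pow_self p hn0.ne').trans (Subgroup.card_dvd_of_le hle))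
    · exact Flag.map_ne_top hG hkT hTne (top_le_iff.1 (h ▸ hPE))
  -- an automorphism fixing the Sylow subgroup fixes both stabilisers
  obtain ⟨Gm, hbij, hadd, hsmul, horth, hsing, hint⟩ := hG.semi a
  have hG0 : Gm 0 = 0 := by
    have := hadd 0 0
    rwa [add_zero, left_eq_add] at this
  have hlift : ∀ u ∈ (P : Subgroup S), ∃ s ∈ (P : Subgroup S), ∃ s' z : S, z ∈ Subgroup.center S ∧
      u = s' * z ∧ ∀ v, G.act s' (Gm v) = Gm (G.act s v) := by
    intro u hu
    have h1 : π u ∈ (U₀ : Subgroup K) := ⟨u, hu, rfl⟩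
    rw [← haU] at h1
    obtain ⟨_, ⟨s, hs, rfl⟩, e1⟩ := h1
    obtain ⟨s', hs', hact⟩ := hint s
    refine ⟨s, hs, s', s'⁻¹ * u, hG.ker ?_, by group, hact⟩
    rw [MonoidHom.mem_ker, map_mul, map_inv, hs']
    rw [← show a (π s) = π u from e1, inv_mul_cancel]
  set e' := Gm e with he'def
  set x' := Gm x with hx'def
  have he's : G.sing e' := hsing e he
  have hx's : G.sing x' := hsing x hxs
  have he'0 : e' ≠ 0 := fun h => he0 (hbij.1 (h.trans hG0.symm))
  have he'E : e' ∈ E := by
    refine hline e' (fun u hu => ?_) he's he'0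
    obtain ⟨s, hs, s', z, hz, rfl, hact⟩ := hlift u hu
    obtain ⟨r, hr⟩ := Submodule.mem_span_singleton.1 (hG.central_line hz he's he'0)
    rw [map_mul, Module.End.mul_apply, ← hr, map_smul, hact, hfix s hs]
    exact Submodule.smul_mem _ _ (Submodule.mem_span_singleton_self _)
  obtain ⟨ε, hε⟩ := Submodule.mem_span_singleton.1 he'E
  have hε0 : ε ≠ 0 := fun h => he'0 (by rw [← hε, h, zero_smul])
  have hGE : ∀ w ∈ E, Gm w ∈ E := fun w hw => by
    obtain ⟨r, rfl⟩ := Submodule.mem_span_singleton.1 hw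
    obtain ⟨r', hr⟩ := hsmul r e
    rw [hr]; exact E.smul_mem _ he'E
  have hx'e : G.β x' e = 0 := by
    have h1 : G.β x' e' = 0 := horth x e hxe
    rw [← hε] at h1
    have h2 := G.symm0 _ _ h1
    rw [G.smul_left] at h2
    exact G.symm0 _ _ ((mul_eq_zero.1 h2).resolve_left hε0)
  have hx'0 : x' ≠ 0 := fun h => hx0 (hbij.1 (h.trans hG0.symm))
  have hx'E : x' ∉ E := by
    intro h
    obtain ⟨r, hr⟩ := Submodule.mem_span_singleton.1 h
    -- the preimage of a multiple of `e'` lies in `E`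
    obtain ⟨w, hw⟩ := hbij.2 x'
    let f : E → E := fun w => ⟨Gm w, hGE w w.2⟩
    haveI : Finite E := Finite.of_injective _ Subtype.val_injective
    obtain ⟨⟨w, hwE⟩, hw⟩ := (Finite.injective_iff_surjective.1
      (show Function.Injective f from fun a b hab => Subtype.ext (hbij.1 (congrArg Subtype.val hab)))) ⟨x', h⟩
    exact hxE (hbij.1 (congrArg Subtype.val hw) ▸ hwE)
  have hx'fix : ∀ u ∈ (P : Subgroup S), G.act u x' - x' ∈ E := by
    intro u hu
    obtain ⟨s, hs, s', z, hz, rfl, hact⟩ := hlift u hu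
    obtain ⟨r, hr⟩ := Submodule.mem_span_singleton.1 (hG.central_line hz hx's hx'0)
    have h1 : Gm (G.act s x) - x' ∈ E := by
      have := hGE _ (hxfix s hs)
      have h2 := hadd (G.act s x - x) x
      rw [sub_add_cancel] at h2
      rw [h2, add_sub_cancel_right]
      exact this
    obtain ⟨k, hk⟩ := P.isPGroup' ⟨_, hu⟩
    refine eq_one_of_line (congrArg Subtype.val hk : (s' * z) ^ p ^ k = 1) (fun w hw => hfixP _ hu w hw)
      hx'E (c := r) ?_
    rw [map_mul, Module.End.mul_apply, ← hr, map_smul, hact, ← smul_sub]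
    exact E.smul_mem _ h1
  have hx'W : x' ∈ W := huniq x' hx'e hx'fix
  have hGW : ∀ w ∈ W, Gm w ∈ W := fun w hw => by
    obtain ⟨r, s, rfl⟩ := Submodule.mem_span_pair.1 hw
    obtain ⟨r', hr⟩ := hsmul r e
    obtain ⟨s'', hs⟩ := hsmul s x
    rw [hadd, hr, hs]
    exact add_mem (W.smul_mem _ (hEW he'E)) (W.smul_mem _ hx'W)
  -- both are mapped to themselves
  have hmove : ∀ X : Submodule F V, (∀ w ∈ X, Gm w ∈ X) → π.ker ≤ stab G X →
      ∀ y ∈ (stab G X).map π, a y ∈ (stab G X).map π := by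
    rintro X hX hker _ ⟨s, hs, rfl⟩
    obtain ⟨s', hs', hact⟩ := hint s
    refine ⟨s', fun w hw => ?_, hs'⟩
    let f : X → X := fun w => ⟨Gm w, hX w w.2⟩
    haveI : Finite X := Finite.of_injective _ Subtype.val_injective
    obtain ⟨⟨v, hv⟩, hvw⟩ := (Finite.injective_iff_surjective.1
      (show Function.Injective f from fun a b hab => Subtype.ext (hbij.1 (congrArg Subtype.val hab)))) ⟨w, hw⟩
    rw [show w = Gm v from (congrArg Subtype.val hvw).symm, hact]
    exact hX _ (hs v hv)
  exact ⟨hmove E hGE hkT, hmove W hGW hkW⟩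

end Flag

end Cfsg.Agent.Lie.PMin
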