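import Cfsg.Agent.Lib.Lie.PMin.Flag
import Cfsg.Agent.Lib.Lie.Over.RigidLinear
import Cfsg.Agent.Lib.Fus.PSLSimple
import Cfsg.Agent.Lib.Classical.StdParabolic
import Cfsg.Agent.Lib.Classical.PSLAutStructure

/-!
Projective special linear groups: the standard flag.
-/

set_option autoImplicit false
set_option linter.unusedSectionVars false

namespace Cfsg.Agent.Lie.PMin

open Matrix Cfsg.Agent.Lie.Over Cfsg.Agent.Classical Cfsg.Agent.Classical.StdParabolic
open Cfsg.Agent.Fus Cfsg.Agent.Fus.PSLN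

variable {F : Type*} [Field F] [Fintype F] {p : ℕ} [Fact p.Prime] [CharP F p] {n : ℕ}

local notation "SLn" => Matrix.SpecialLinearGroup (Fin n) F
local notation "PSLn" => Matrix.ProjectiveSpecialLinearGroup (Fin n) F
local notation "V" => (Fin n → F)
local notation "π" => slToPSL n F

/-- The stabiliser of a standard subspace. -/
noncomputable def flagStab (n : ℕ) (F : Type*) [Field F] [Fintype F] (i : ℕ) :
    Subgroup (Matrix.SpecialLinearGroup (Fin n) F) :=
  stab slGeo (stdSub F n i)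

/-- Its image. -/
noncomputable def flagPar (n : ℕ) (F : Type*) [Field F] [Fintype F] (i : ℕ) :
    Subgroup (Matrix.ProjectiveSpecialLinearGroup (Fin n) F) :=
  (flagStab n F i).map (slToPSL n F)

theorem ker_iff (A : SLn) : π A = 1 ↔ A ∈ Subgroup.center SLn := QuotientGroup.eq_one_iff A

theorem ker_le_stab (W : Submodule F V) : (π).ker ≤ stab slGeo W := fun z hz w hw => by
  obtain ⟨c, hc⟩ := (Classical.slMem_center_iff z).1 ((ker_iff z).1 hz)
  rw [slGeo_act, hc, Matrix.scalar_apply, show Matrix.diagonal (fun _ : Fin n => c) *ᵥ w = c • w from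
    funext fun i => by simp [Matrix.mulVec_diagonal]]
  exact W.smul_mem _ hw

theorem le_stab_of_map {W : Submodule F V} {L : Subgroup SLn} (h : L.map π ≤ (stab slGeo W).map π) :
    L ≤ stab slGeo W := by
  have := Subgroup.map_le_iff_le_comap.1 h
  rwa [Subgroup.comap_map_eq_self (ker_le_stab W)] at this

theorem isUpper_of_stab {g : SLn} (h : ∀ i, 0 < i → i < n → g ∈ flagStab n F i) : IsUpper g := by
  intro r s hsr
  rw [Fin.lt_def] at hsr
  have h1 := h (s + 1) (Nat.succ_pos _) (by omega) (Pi.single s 1) (fun t ht =>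
    Pi.single_eq_of_ne (fun e => by rw [e] at ht; omega) _) r (by omega)
  simpa [slGeo_act, ent] using h1

theorem mem_flagStab_of_upper {g : SLn} (h : IsUpper g) (i : ℕ) : g ∈ flagStab n F i := by
  intro v hv r hr
  show ∑ s, ent g r s * v s = 0
  refine Finset.sum_eq_zero fun s _ => ?_
  rcases lt_or_ge s r with hs | hs
  · rw [h r s hs, zero_mul]
  · rw [hv s (le_trans hr hs), mul_zero]

theorem unip_le_flagStab (i : ℕ) : unip F n ≤ flagStab n F i := fun _ hg => mem_flagStab_of_upper hg.1 i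

theorem tv_act {a b : Fin n} (hab : a ≠ b) (c : F) (x : V) :
    slGeo.act (Matrix.SpecialLinearGroup.transvection hab c) x = x + Pi.single a (c * x b) := by
  rw [slGeo_act, Matrix.SpecialLinearGroup.transvection_coe, Matrix.add_mulVec, Matrix.one_mulVec]
  congr 1
  funext r
  simp [Matrix.mulVec, dotProduct, Matrix.single_apply, Pi.single_apply, ite_and, eq_comm]

/-- A proper invariant subspace of the unitriangular group is standard. -/
theorem eq_stdSub {W : Submodule F V} (hW0 : W ≠ ⊥) (hW1 : W ≠ ⊤)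
    (hW : unip F n ≤ stab slGeo W) : ∃ i, 0 < i ∧ i < n ∧ W = stdSub F n i := by
  classical
  obtain ⟨v₀, hv₀, hv₀0⟩ := Submodule.exists_mem_ne_zero_of_ne_bot hW0
  obtain ⟨r₀, hr₀⟩ := Function.ne_iff.1 hv₀0
  set T := Finset.univ.filter fun b : Fin n => ∃ v ∈ W, v b ≠ 0
  obtain ⟨b, hb, hmax⟩ := T.exists_max_image id ⟨r₀, Finset.mem_filter.2 ⟨Finset.mem_univ _, v₀, hv₀, hr₀⟩⟩
  obtain ⟨v, hv, hvb⟩ := (Finset.mem_filter.1 hb).2
  have hle : W ≤ stdSub F n (b + 1) := fun w hw r hr => by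
    by_contra hne
    have := hmax r (Finset.mem_filter.2 ⟨Finset.mem_univ _, w, hw, hne⟩)
    simp only [id_eq, Fin.le_def] at this
    omega
  have hlow : ∀ a : Fin n, a < b → Pi.single a (1 : F) ∈ W := fun a hab => by
    have h1 := hW (transvection_mem_unip hab (v b)⁻¹) v hv
    rw [tv_act, inv_mul_cancel₀ hvb] at h1
    exact (Submodule.add_mem_iff_right W hv).1 h1
  have hmem : ∀ u : V, (∀ r : Fin n, b < r → u r = 0) → u b = 0 → u ∈ W := fun u hu hub => by
    rw [pi_eq_sum_univ' u]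
    refine W.sum_mem fun r _ => ?_
    rcases lt_trichotomy r b with h | rfl | h
    · exact W.smul_mem _ (hlow r h)
    · rw [hub, zero_smul]; exact W.zero_mem
    · rw [hu r h, zero_smul]; exact W.zero_mem
  have hge : stdSub F n (b + 1) ≤ W := fun u hu => by
    have h1 : u - (u b / v b) • v ∈ W := hmem _ (fun r hr => by
        rw [Fin.lt_def] at hr
        rw [Pi.sub_apply, Pi.smul_apply, hu r (by omega), hle hv r (by omega), smul_zero, sub_zero])
      (by rw [Pi.sub_apply, Pi.smul_apply, smul_eq_mul, div_mul_cancel₀ _ hvb, sub_self])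
    simpa using W.add_mem h1 (W.smul_mem (u b / v b) hv)
  refine ⟨b + 1, Nat.succ_pos _, lt_of_le_of_ne b.2 fun e => hW1 (top_le_iff.1 fun u _ => hge ?_),
    le_antisymm hle hge⟩
  intro r hr
  have := r.2
  omega

/-- The Sylow subgroup. -/
theorem exists_sylow : ∃ U : Sylow p PSLn, (U : Subgroup PSLn) = (unip F n).map π := by
  obtain ⟨P, hP⟩ := ((isPGroup_unip (p := p) (K := F) (n := n)).map π).exists_le_sylow
  exact ⟨P, (eq_map_unip (p := p) ker_iff slToPSL_surjective P hP).symm⟩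

/-- A proper overgroup of the Sylow subgroup fixes a standard subspace. -/
theorem exists_le (hn : 2 ≤ n) (h4 : n = 2 → 4 ≤ Fintype.card F) {U : Sylow p PSLn}
    (hU : (U : Subgroup PSLn) = (unip F n).map π) {H : Subgroup PSLn} (hUH : (U : Subgroup PSLn) ≤ H)
    (hH : H ≠ ⊤) : ∃ i, 0 < i ∧ i < n ∧ H ≤ flagPar n F i := by
  haveI : Nonempty (Fin n) := ⟨⟨0, by omega⟩⟩
  obtain ⟨R, hRp, hR0, hRH, hRn⟩ := exists_core (coreFreeTop_psl hn h4) U hUH hH
  have hRU : R ≤ (U : Subgroup PSLn) :=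
    le_of_normalized U.not_dvd_index hRp fun g hg r hr => hRn g (hUH hg) r hr
  set R' : Subgroup SLn := unip F n ⊓ R.comap π with hR'
  let W : Submodule F V :=
    { carrier := {v | ∀ r ∈ R', slGeo.act r v = v}
      zero_mem' := fun r _ => map_zero _
      add_mem' := fun {a b} ha hb r hr => by rw [map_add, ha r hr, hb r hr]
      smul_mem' := fun c a ha r hr => by rw [map_smul, ha r hr] }
  have hW0 : W ≠ ⊥ := by
    intro h
    have htop : (⊤ : Submodule F V) ≠ ⊥ := top_ne_bot
    obtain ⟨w, -, hw0, hw⟩ := slGeo.exists_fixed_in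
      ((isPGroup_unip (p := p) (K := F) (n := n)).to_le (H := R') inf_le_left) (W := ⊤)
      (fun _ _ _ _ => trivial) htop (Geo.dvd_card_submodule htop)
    exact hw0 ((Submodule.mem_bot F).1 (h ▸ (show w ∈ W from hw)))
  have hW1 : W ≠ ⊤ := by
    intro h
    refine hR0 (eq_bot_iff.2 fun r hr => ?_)
    obtain ⟨u, hu, rfl⟩ : r ∈ (unip F n).map π := hU ▸ hRU hr
    have : u = 1 := slGeo.inj (LinearMap.ext fun v => by
      rw [map_one, Module.End.one_apply]
      exact (h ▸ Submodule.mem_top : v ∈ W) u ⟨hu, hr⟩)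
    rw [this, map_one]
    exact one_mem _
  have hinv : ∀ h : SLn, π h ∈ H → h ∈ stab slGeo W := by
    intro h hh v hv r hr
    have hm : π (h⁻¹ * r * h) ∈ R := by
      rw [map_mul, map_mul, map_inv]
      simpa using hRn _ (inv_mem hh) _ hr.2
    obtain ⟨u, hu, e⟩ : π (h⁻¹ * r * h) ∈ (unip F n).map π := hU ▸ hRU hm
    have hpow : (h⁻¹ * r * h) ^ p ^ n = 1 := by
      have := conj_pow (a := h⁻¹) (b := r) (i := p ^ n)
      rw [inv_inv, IsUni.exists_pow_eq_one (p := p) hr.1, mul_one, inv_mul_cancel] at this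
      exact this
    have h1 : h⁻¹ * r * h ∈ R' := by
      refine ⟨?_, hm⟩
      rw [eq_of_map_eq_unip (p := p) ker_iff hu hpow e.symm]
      exact hu
    have h2 := congrArg (slGeo.act h) (hv _ h1)
    rwa [← Module.End.mul_apply, ← map_mul, show h * (h⁻¹ * r * h) = r * h by group, map_mul,
      Module.End.mul_apply] at h2
  obtain ⟨i, hi0, hin, hWi⟩ := eq_stdSub hW0 hW1 fun u hu => hinv u (hUH (hU ▸ ⟨u, hu, rfl⟩))
  refine ⟨i, hi0, hin, fun x hx => ?_⟩
  obtain ⟨h, rfl⟩ := slToPSL_surjective x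
  exact ⟨h, show h ∈ stab slGeo (stdSub F n i) from hWi ▸ hinv h hx, rfl⟩

theorem le_flagPar {U : Sylow p PSLn} (hU : (U : Subgroup PSLn) = (unip F n).map π) (i : ℕ) :
    (U : Subgroup PSLn) ≤ flagPar n F i := hU ▸ Subgroup.map_mono (unip_le_flagStab i)

/-- A lower transvection fixes all standard subspaces but one. -/
theorem exists_sep_elem {i : ℕ} (hi0 : 0 < i) (hin : i < n) :
    ∃ g : SLn, g ∉ flagStab n F i ∧ ∀ k, k ≠ i → g ∈ flagStab n F k := by
  have hab : (⟨i, hin⟩ : Fin n) ≠ ⟨i - 1, by omega⟩ := fun e => by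
    simp only [Fin.mk.injEq] at e; omega
  refine ⟨Matrix.SpecialLinearGroup.transvection hab 1, fun h => ?_, fun k hk v hv r hr => ?_⟩
  · have h1 := h (Pi.single ⟨i - 1, by omega⟩ 1) (fun r hr => Pi.single_eq_of_ne (fun e => by
      rw [e] at hr; simp at hr; omega) _) ⟨i, hin⟩ le_rfl
    rw [tv_act] at h1
    simp [Pi.single_eq_of_ne hab] at h1
  · rw [tv_act, Pi.add_apply, hv r hr, zero_add]
    by_cases h : r = ⟨i, hin⟩
    · subst h
      rw [Pi.single_eq_same, hv ⟨i - 1, by omega⟩ (by simp at hr ⊢; omega), mul_zero]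
    · exact Pi.single_eq_of_ne h _

theorem flagPar_ne_top {i : ℕ} (hi0 : 0 < i) (hin : i < n) : flagPar n F i ≠ ⊤ := by
  intro h
  obtain ⟨g, hg, -⟩ := exists_sep_elem (F := F) hi0 hin
  exact hg (le_stab_of_map (L := ⊤) (le_top.trans h.ge) (Subgroup.mem_top g))

theorem meet_le {U : Sylow p PSLn} (hU : (U : Subgroup PSLn) = (unip F n).map π) {g : SLn}
    (h : ∀ i, 0 < i → i < n → g ∈ flagStab n F i) :
    π g ∈ Subgroup.normalizer ((U : Subgroup PSLn) : Set PSLn) := by
  have key : ∀ g : SLn, (∀ i, 0 < i → i < n → g ∈ flagStab n F i) → ∀ x ∈ (U : Subgroup PSLn),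
      π g * x * (π g)⁻¹ ∈ (U : Subgroup PSLn) := by
    intro g h x hx
    rw [hU] at hx ⊢
    obtain ⟨u, ⟨hu, hu1⟩, rfl⟩ := hx
    have hg := isUpper_of_stab h
    have hg' := isUpper_of_stab (g := g⁻¹) fun i a b => inv_mem (h i a b)
    refine ⟨g * u * g⁻¹, ⟨(hg.mul hu).mul hg', fun i => ?_⟩, by rw [map_mul, map_mul, map_inv]⟩
    rw [(hg.mul hu).mul_diag hg', hg.mul_diag hu, hu1, mul_one, ← hg.mul_diag hg', mul_inv_cancel]
    exact isUni_one.2 i
  exact mem_normalizer_of_forall (key g h) fun x hx => by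
    simpa using key g⁻¹ (fun i a b => inv_mem (h i a b)) x hx

theorem psl_normalizer_ne_top (hn : 2 ≤ n) {U : Sylow p PSLn}
    (hU : (U : Subgroup PSLn) = (unip F n).map π) :
    Subgroup.normalizer ((U : Subgroup PSLn) : Set PSLn) ≠ ⊤ := by
  intro h
  obtain ⟨g, hg, -⟩ := exists_sep_elem (F := F) (n := n) (i := 1) one_pos (by omega)
  refine hg (mem_flagStab_of_upper (isUpper_of_map_normalizer (p := p) ker_iff ?_) 1)
  rw [← hU, h]
  exact Subgroup.mem_top _

/-- An automorphism fixing the Sylow subgroup preserves each symmetric pair. -/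
theorem pair_stable (hn : 2 ≤ n) {U : Sylow p PSLn} (hU : (U : Subgroup PSLn) = (unip F n).map π)
    {a : MulAut PSLn} (ha : (U : Subgroup PSLn).map a.toMonoidHom = (U : Subgroup PSLn)) {i : ℕ}
    (hi0 : 0 < i) (hin : i < n) :
    ∃ j, (j = i ∨ j = n - i) ∧ ∀ x ∈ flagPar n F i, a x ∈ flagPar n F j := by
  classical
  obtain ⟨g, σ, ε, hε, -, rfl⟩ := PSLAut.exists_rep (p := p) hn a
  obtain ⟨W, d, hd, hWd, hW⟩ : ∃ (W : Submodule F V) (d : ℕ), (d = i ∨ d = n - i) ∧
      Module.finrank F W = d ∧ ∀ s ∈ flagStab n F i, ∃ s' ∈ stab slGeo W,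
        (PSLAut.pslInvT ^ ε : MulAut PSLn) (π s) = π s' := by
    rcases Nat.le_one_iff_eq_zero_or_eq_one.1 hε with rfl | rfl
    · exact ⟨stdSub F n i, i, Or.inl rfl, finrank_stdSub hin.le, fun s hs => ⟨s, hs, by simp⟩⟩
    · let e : V ≃ₗ[F] V := LinearEquiv.funCongrLeft F F Fin.revPerm
      have hmem : ∀ v, v ∈ (stdSub F n (n - i)).map (e : V →ₗ[F] V) ↔
          ∀ r : Fin n, (r : ℕ) < i → v r = 0 := by
        intro v
        constructor
        · rintro ⟨w, hw, rfl⟩ r hr
          exact hw (Fin.rev r) (by rw [Fin.val_rev]; omega)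
        · intro h
          refine ⟨fun r => v (Fin.rev r), fun r hr => h _ (by rw [Fin.val_rev]; omega), funext fun r => ?_⟩
          simp [e, LinearEquiv.funCongrLeft_apply, LinearMap.funLeft_apply]
      refine ⟨_, n - i, Or.inr rfl, (LinearEquiv.finrank_map_eq e _).trans (finrank_stdSub (by omega)),
        fun s hs => ⟨PSLAut.slInvT s, fun v hv => (hmem _).2 fun r hr => ?_, ?_⟩⟩
      · have hw : (Pi.single r 1 : V) ∈ stdSub F n i := fun t ht =>
          Pi.single_eq_of_ne (fun e => by rw [e] at ht; omega) _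
        have h1 := (inv_mem hs : s⁻¹ ∈ flagStab n F i) _ hw
        rw [slGeo_act] at h1
        rw [slGeo_act, PSLAut.slInvT_coe]
        show ∑ t, ((s⁻¹ : SLn) : Matrix (Fin n) (Fin n) F) t r * v t = 0
        refine Finset.sum_eq_zero fun t _ => ?_
        by_cases ht : i ≤ (t : ℕ)
        · have h2 := h1 t ht
          rw [Matrix.mulVec_single_one] at h2
          rw [show ((s⁻¹ : SLn) : Matrix (Fin n) (Fin n) F) t r = 0 from h2, zero_mul]
        · rw [(hmem v).1 hv t (by omega), mul_zero]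
      · rw [pow_one, PSLAut.pslInvT_mk]
  let M : Matrix (Fin n) (Fin n) F := g
  let f : V → V := fun v => M *ᵥ (σ ∘ v)
  have hinj : Function.Injective f := fun u v h => by
    have h1 := Matrix.mulVec_injective_of_isUnit (A := M) (Units.isUnit _) h
    exact funext fun i => σ.injective (congrFun h1 i)
  have hadd : ∀ u v, f (u + v) = f u + f v := fun u v => by
    show _ = M *ᵥ _ + M *ᵥ _
    rw [← Matrix.mulVec_add]
    exact congrArg (M *ᵥ ·) (funext fun i => map_add σ _ _)
  have hsmul : ∀ (c : F) v, f (c • v) = σ c • f v := fun c v => by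
    show _ = σ c • (M *ᵥ _)
    rw [← Matrix.mulVec_smul]
    exact congrArg (M *ᵥ ·) (funext fun i => map_mul σ _ _)
  let W' : Submodule F V :=
    { carrier := f '' (W : Set V)
      zero_mem' := ⟨0, W.zero_mem, by simp [f]⟩
      add_mem' := by rintro _ _ ⟨u, hu, rfl⟩ ⟨v, hv, rfl⟩; exact ⟨u + v, W.add_mem hu hv, hadd u v⟩
      smul_mem' := by
        rintro c _ ⟨v, hv, rfl⟩
        exact ⟨σ.symm c • v, W.smul_mem _ hv, by rw [hsmul, σ.apply_symm_apply]⟩ }
  have hW'd : Module.finrank F W' = d := by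
    refine Nat.pow_right_injective (Finite.one_lt_card (α := F)) ?_
    show Nat.card F ^ _ = Nat.card F ^ d
    rw [← hWd, ← Module.natCard_eq_pow_finrank, ← Module.natCard_eq_pow_finrank]
    exact (Nat.card_congr (Equiv.Set.image f (W : Set V) hinj)).symm
  have himg : ∀ x ∈ flagPar n F i,
      (PSLAut.pslSemi g σ * PSLAut.pslInvT ^ ε : MulAut PSLn) x ∈ (stab slGeo W').map π := by
    rintro _ ⟨s, hs, rfl⟩
    obtain ⟨s', hs', e⟩ := hW s hs
    rw [MulAut.mul_apply, e, PSLAut.pslSemi_mk]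
    refine ⟨_, ?_, rfl⟩
    rintro _ ⟨v, hv, rfl⟩
    refine ⟨slGeo.act s' v, hs' v hv, ?_⟩
    show M *ᵥ (σ ∘ ((s' : Matrix (Fin n) (Fin n) F) *ᵥ v)) = _
    rw [slGeo_act, PSLAut.slSemi_coe]
    show _ = _ *ᵥ (M *ᵥ (σ ∘ v))
    rw [Matrix.mulVec_mulVec, Matrix.mul_assoc, Units.inv_mul, Matrix.mul_one, ← Matrix.mulVec_mulVec]
    congr 1
    funext r
    simp [Matrix.mulVec, dotProduct, map_sum]
  have hUW : unip F n ≤ stab slGeo W' := by
    refine le_stab_of_map ?_
    rw [← hU, ← ha]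
    rintro _ ⟨x, hx, rfl⟩
    exact himg x (le_flagPar hU i hx)
  have hd' : 0 < d ∧ d < n := by omega
  obtain ⟨j, hj0, hjn, hWj⟩ := eq_stdSub (fun e => by rw [e, finrank_bot] at hW'd; omega)
    (fun e => by rw [e, finrank_top, Module.finrank_fin_fun] at hW'd; omega) hUW
  have hjd : j = d := by rw [← hW'd, hWj, finrank_stdSub hjn.le]
  refine ⟨j, hjd ▸ hd, fun x hx => ?_⟩
  show _ ∈ (stab slGeo (stdSub F n j)).map π
  rw [← hWj]
  exact himg x hx

theorem verdict_psl_stable (hn : 4 ≤ n) : Verdict p PSLn := by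
  obtain ⟨U, hU⟩ := exists_sylow (F := F) (p := p) (n := n)
  let P (k : ℕ) : Subgroup PSLn := (flagStab n F k ⊓ flagStab n F (n - k)).map π
  have hmem : ∀ {k}, 0 < k → k < n → ∀ x, x ∈ P k ↔ x ∈ flagPar n F k ∧ x ∈ flagPar n F (n - k) := by
    intro k _ _ x
    refine ⟨fun h => ⟨Subgroup.map_mono inf_le_left h, Subgroup.map_mono inf_le_right h⟩, ?_⟩
    rintro ⟨⟨s, hs, rfl⟩, h2⟩
    obtain ⟨s', hs', e⟩ := h2
    refine ⟨s, ⟨hs, ?_⟩, rfl⟩
    have hk : s'⁻¹ * s ∈ (π).ker := by
      rw [MonoidHom.mem_ker, map_mul, map_inv, e, inv_mul_cancel]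
    have := mul_mem hs' (ker_le_stab (stdSub F n (n - k)) hk)
    rwa [mul_inv_cancel_left] at this
  have hst : ∀ {k}, 0 < k → k < n → ∀ a : MulAut PSLn,
      (U : Subgroup PSLn).map a.toMonoidHom = (U : Subgroup PSLn) → ∀ x ∈ P k, a x ∈ P k := by
    intro k h0 h1 a ha x hx
    rw [hmem h0 h1] at hx ⊢
    obtain ⟨i, hi, hai⟩ := pair_stable (by omega) hU ha h0 h1
    obtain ⟨j, hj, haj⟩ := pair_stable (by omega) hU ha (i := n - k) (by omega) (by omega)
    have hij : ∀ m, (m = k ∨ m = n - k) → m = i ∨ m = j := by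
      by_contra hcon
      push Not at hcon
      -- both images coincide with a single member, impossible by injectivity
      obtain ⟨m, hm, hmi, hmj⟩ := hcon
      have hij : i = j := by omega
      by_cases hk : k = n - k
      · omega
      -- pull back: both subgroups would map into the same one
      obtain ⟨i', hi', hbi⟩ := pair_stable (by omega) hU (a := a⁻¹) (by
        conv_lhs => rw [← ha]
        rw [Subgroup.map_map, show (a⁻¹ : MulAut PSLn).toMonoidHom.comp a.toMonoidHom = MonoidHom.id _ from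
          MonoidHom.ext fun y => a.symm_apply_apply y, Subgroup.map_id]) (i := i) (by omega) (by omega)
      have key : ∀ l l', 0 < l → l < n → l ≠ l' → ¬ flagPar n F l' ≤ flagPar n F l := by
        intro l l' hl0 hln hne hle
        obtain ⟨g, hg, hgk⟩ := exists_sep_elem (F := F) hl0 hln
        exact hg (le_stab_of_map hle (hgk l' hne.symm))
      have e1 : flagPar n F k ≤ flagPar n F i' := fun y hy => by
        have := hbi _ (hai y hy); rwa [show a⁻¹ (a y) = y from a.symm_apply_apply y] at this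
      have e2 : flagPar n F (n - k) ≤ flagPar n F i' := fun y hy => by
        have := hbi _ (hij ▸ haj y hy); rwa [show a⁻¹ (a y) = y from a.symm_apply_apply y] at this
      by_cases hik : i' = k
      · exact key i' (n - k) (by omega) (by omega) (by omega) e2
      · exact key i' k (by omega) (by omega) hik e1
    refine ⟨?_, ?_⟩
    · rcases hij k (Or.inl rfl) with e | e
      · rw [e]; exact hai x hx.1
      · rw [e]; exact haj x hx.2
    · rcases hij (n - k) (Or.inr rfl) with e | e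
      · rw [e]; exact hai x hx.1
      · rw [e]; exact haj x hx.2
  have hne : ∀ {k}, 0 < k → k < n → P k ≠ ⊤ := fun h0 h1 h =>
    flagPar_ne_top h0 h1 (top_le_iff.1 (h.ge.trans (Subgroup.map_mono inf_le_left)))
  have hUP : ∀ k, (U : Subgroup PSLn) ≤ P k := fun k =>
    hU ▸ Subgroup.map_mono (le_inf (unip_le_flagStab _) (unip_le_flagStab _))
  refine verdict_stable U (psl_normalizer_ne_top (by omega) hU) (hUP 1) (hUP 2) (hne one_pos (by omega))
    (hne two_pos (by omega)) ?_ fun a ha => ⟨hst one_pos (by omega) a ha, hst two_pos (by omega) a ha⟩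
  by_contra htop
  obtain ⟨i, hi0, hin, hle⟩ := exists_le (by omega) (fun h => by omega) hU ((hUP 1).trans le_sup_left) htop
  obtain ⟨g, hg, hgk⟩ := exists_sep_elem (F := F) hi0 hin
  have key : ∀ k, k ≠ i → n - k ≠ i → P k ≤ flagPar n F i → False := fun k h1 h2 h =>
    hg (le_stab_of_map h ⟨hgk k h1, hgk (n - k) h2⟩)
  by_cases h : i = 1 ∨ i = n - 1
  · exact key 2 (by omega) (by omega) (le_sup_right.trans hle)
  · exact key 1 (by omega) (by omega) (le_sup_left.trans hle)

end Cfsg.Agent.Lie.PMin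

namespace Cfsg.Agent.Lie.PMin

open Cfsg.Agent.Lie.Over Cfsg.Agent.Classical

variable {F : Type} [Field F] [Fintype F] {p : ℕ} [Fact p.Prime] [CharP F p]

theorem verdict_psl_two (h4 : 4 ≤ Fintype.card F) :
    Verdict p (Matrix.ProjectiveSpecialLinearGroup (Fin 2) F) := by
  obtain ⟨U, hU⟩ := exists_sylow (F := F) (p := p) (n := 2)
  refine verdict_one U (P := flagPar 2 F 1) (fun H hUH hH => ?_) ?_ (psl_normalizer_ne_top le_rfl hU)
    (Or.inl ⟨F, _, ‹_›, ‹_›, h4, ⟨MulEquiv.refl _⟩⟩)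
  · obtain ⟨i, h0, h2, hle⟩ := exists_le le_rfl (fun _ => h4) hU hUH hH
    obtain rfl : i = 1 := by omega
    exact hle
  · rintro _ ⟨g, hg, rfl⟩
    exact meet_le hU fun i h0 h2 => (show i = 1 by omega) ▸ hg

theorem verdict_psl_three : Verdict p (Matrix.ProjectiveSpecialLinearGroup (Fin 3) F) := by
  obtain ⟨U, hU⟩ := exists_sylow (F := F) (p := p) (n := 3)
  have key : ∀ l l', 0 < l → l < 3 → l ≠ l' → ¬ flagPar 3 F l' ≤ flagPar 3 F l := by
    intro l l' hl0 hln hne hle
    obtain ⟨g, hg, hgk⟩ := exists_sep_elem (F := F) hl0 hln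
    exact hg (le_stab_of_map hle (hgk l' hne.symm))
  refine verdict_two U (P := flagPar 3 F 1) (Q := flagPar 3 F 2) (le_flagPar hU 1) (le_flagPar hU 2)
    (flagPar_ne_top one_pos (by omega)) (flagPar_ne_top two_pos (by omega))
    (key 2 1 two_pos (by omega) (by omega)) (key 1 2 one_pos (by omega) (by omega))
    (fun H hUH hH => ?_) ?_ (psl_normalizer_ne_top (by omega) hU) ?_
  · obtain ⟨i, h0, h2, hle⟩ := exists_le (by omega) (fun h => absurd h (by omega)) hU hUH hH
    rcases (show i = 1 ∨ i = 2 by omega) with rfl | rfl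
    · exact Or.inl hle
    · exact Or.inr hle
  · rintro _ ⟨⟨s, hs, rfl⟩, ⟨s', hs', e⟩⟩
    refine meet_le hU fun i h0 h2 => ?_
    rcases (show i = 1 ∨ i = 2 by omega) with rfl | rfl
    · exact hs
    · have hk : s'⁻¹ * s ∈ (slToPSL 3 F).ker := by
        rw [MonoidHom.mem_ker, map_mul, map_inv, e, inv_mul_cancel]
      have h := mul_mem hs' (ker_le_stab (StdParabolic.stdSub F 3 2) hk)
      rwa [mul_inv_cancel_left] at h
  · intro hp
    subst hp
    exact Or.inl ⟨F, _, ‹_›, ‹_›, ⟨MulEquiv.refl _⟩⟩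

theorem verdict_psl {n : ℕ} (hn : 2 ≤ n) (h4 : n = 2 → 4 ≤ Fintype.card F) :
    Verdict p (Matrix.ProjectiveSpecialLinearGroup (Fin n) F) := by
  rcases (show n = 2 ∨ n = 3 ∨ 4 ≤ n by omega) with rfl | rfl | h
  · exact verdict_psl_two (h4 rfl)
  · exact verdict_psl_three
  · exact verdict_psl_stable h

end Cfsg.Agent.Lie.PMin
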