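import Cfsg.Agent.Lib.Lie.PMin.Two
import Cfsg.Agent.Lib.Lie.Over.SmallCases
import Cfsg.Agent.Lib.Classical.DicksonTorus
import Cfsg.Agent.Lib.Lie.Over.Main

/-!
`L₂(8)` in characteristic three: the normaliser of a Sylow subgroup is its only maximal overgroup.
-/

set_option autoImplicit false
set_option linter.style.haveILetI false

namespace Cfsg.Agent.Lie.PMin

open Cfsg Cfsg.Agent.Lie.Over Cfsg.Agent.Dickson

theorem verdict_psl_eight {F : Type} [Field F] [Fintype F] (hF : Fintype.card F = 8) :
    Verdict 3 (Matrix.ProjectiveSpecialLinearGroup (Fin 2) F) := by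
  classical
  haveI : Fact (Nat.Prime 3) := ⟨Nat.prime_three⟩
  haveI : Fact (Nat.Prime 2) := ⟨Nat.prime_two⟩
  haveI : CharP F 2 := charP_of_card_eq_prime_pow (p := 2) (f := 3) (hF.trans (by norm_num))
  haveI : IsSimpleGroup (Matrix.ProjectiveSpecialLinearGroup (Fin 2) F) :=
    Cfsg.Agent.Classical.PSL_isSimple le_rfl (fun _ => by omega)
  set G := Matrix.ProjectiveSpecialLinearGroup (Fin 2) F
  have hcard : Nat.card G = 504 := Over.card_psl_eight hF
  obtain ⟨U⟩ : Nonempty (Sylow 3 G) := inferInstance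
  have hU : Nat.card (U : Subgroup G) = 9 := by
    have h := U.card_eq_multiplicity
    rw [hcard] at h
    rw [h, show Nat.factorization 504 3 = 2 from by
      rw [show 504 = 56 * (3 ^ 2) by norm_num, Nat.factorization_mul (by norm_num) (by norm_num),
        Finsupp.add_apply, Nat.factorization_eq_zero_of_not_dvd (by norm_num),
        Nat.Prime.factorization_pow (by norm_num)]
      simp]
    norm_num
  have hdel : del F = 1 := by rw [del, hF]; rfl
  have hneg : ∀ x : F, -x = x := fun x => by
    rw [neg_eq_iff_add_eq_zero, ← two_mul, show (2 : F) = 0 from CharTwo.two_eq_zero, zero_mul]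
  -- the centraliser of an element of order three is the Sylow subgroup
  have hcent : ∀ a ∈ (U : Subgroup G), a ^ 3 = 1 → a ≠ 1 → ∀ y : G, y * a = a * y → y ∈ (U : Subgroup G) := by
    intro a ha ha3 ha1
    have hap : a ^ 2 ≠ 1 := fun h => ha1 (by
      rw [pow_succ, h, one_mul] at ha3; exact ha3)
    have hle : ∀ y : G, y * a = a * y → y ∈ tor a := by
      intro y hy
      obtain ⟨s, rfl⟩ := proj_surjective y
      obtain ⟨x, rfl⟩ := proj_surjective a
      refine mem_tor_iff.2 ?_
      rw [← map_mul, ← map_mul] at hy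
      rcases proj_eq_iff.1 hy with e | e
      · exact e.symm
      · refine (e.trans (Subtype.ext ?_)).symm
        ext i j
        simp [hneg]
    have hUt : (U : Subgroup G) ≤ tor a := fun y hy => hle y (by
      haveI : IsMulCommutative (U : Subgroup G) :=
        (IsPGroup.isMulCommutative_of_card_eq_prime_sq (p := 3) (hU.trans (by norm_num)))
      exact congrArg Subtype.val (IsMulCommutative.is_comm.comm (⟨y, hy⟩ : (U : Subgroup G)) ⟨a, ha⟩))
    have h9 := Subgroup.card_dvd_of_le hUt
    rw [hU] at h9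
    have heq : (U : Subgroup G) = tor a := by
      refine Subgroup.eq_of_le_of_card_ge hUt ?_
      rw [hU]
      rcases card_tor_semi 2 ha1 hap with h | h <;> rw [h, hF, hdel] <;> norm_num
    intro y hy
    rw [heq]
    exact hle y hy
  refine verdict_one U (P := Subgroup.normalizer ((U : Subgroup G) : Set G)) (fun H hUH hH => ?_) le_rfl ?_
    (Or.inr (Or.inr (Or.inr ⟨rfl, Or.inr ⟨F, _, ‹_›, hF, ⟨MulEquiv.refl _⟩⟩⟩)))
  · obtain ⟨R, hRp, hR0, hRH, hRn⟩ := exists_core (coreFreeTop_order504 hcard) U hUH hH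
    have hRU : R ≤ (U : Subgroup G) :=
      le_of_normalized U.not_dvd_index hRp fun g hg r hr => hRn g (hUH hg) r hr
    haveI : Nontrivial R := R.nontrivial_iff_ne_bot.2 hR0
    obtain ⟨k, hk, hRc⟩ := hRp.nontrivial_iff_card.1 inferInstance
    obtain ⟨⟨a, ha⟩, hord⟩ := exists_prime_orderOf_dvd_card' (G := R) 3 (hRc ▸ dvd_pow_self 3 hk.ne')
    rw [← Subgroup.orderOf_coe] at hord
    have ha3 : a ^ 3 = 1 := hord ▸ pow_orderOf_eq_one a
    have ha1 : a ≠ 1 := fun e => by rw [show ((⟨a, ha⟩ : R) : G) = 1 from e, orderOf_one] at hord; omega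
    have key : ∀ g ∈ H, ∀ u ∈ (U : Subgroup G), g * u * g⁻¹ ∈ (U : Subgroup G) := by
      intro g hg u hu
      refine hcent (g * a * g⁻¹) (hRU (hRn g hg a ha)) (by rw [conj_pow, ha3, mul_one, mul_inv_cancel])
        (fun e => ha1 (conj_eq_one_iff.1 e)) _ ?_
      haveI : IsMulCommutative (U : Subgroup G) :=
        (IsPGroup.isMulCommutative_of_card_eq_prime_sq (p := 3) (hU.trans (by norm_num)))
      have h1 : u * a = a * u :=
        congrArg Subtype.val (IsMulCommutative.is_comm.comm (⟨u, hu⟩ : (U : Subgroup G)) ⟨a, hRU ha⟩)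
      calc g * u * g⁻¹ * (g * a * g⁻¹) = g * (u * a) * g⁻¹ := by group
        _ = _ := by rw [h1]; group
    exact fun g hg => Subgroup.mem_normalizer_iff.2 fun u => ⟨key g hg u, fun hu => by
      simpa [mul_assoc] using key g⁻¹ (inv_mem hg) _ hu⟩
  · intro htop
    haveI : (U : Subgroup G).Normal := Subgroup.normalizer_eq_top_iff.1 htop
    rcases Subgroup.Normal.eq_bot_or_eq_top (H := (U : Subgroup G)) inferInstance with h | h
    · rw [h, Subgroup.card_bot] at hU; omega
    · rw [h, Subgroup.card_top, hcard] at hU; omega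

end Cfsg.Agent.Lie.PMin
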