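import Cfsg.Agent.Lib.Lie.PMin.Classical
import Cfsg.Agent.S0270
import Cfsg.Agent.S0283

/-!
`PSp₄` and `PSU₃`: every proper overgroup of a Sylow subgroup fixes the point or the line it fixes.
-/

set_option autoImplicit false
set_option linter.unusedSectionVars false
set_option quotPrecheck false

namespace Cfsg.Agent.Lie.PMin

open Cfsg Cfsg.Agent.Lie.Over Cfsg.Agent.Lie.DefChar Matrix Module

section Fixed

variable {F : Type*} [Field F] [Finite F] {p : ℕ} [Fact p.Prime] [CharP F p] {V : Type*}
  [AddCommGroup V] [Module F V] [Finite V] {S : Type*} [Group S] [Finite S] (G : Geo F V S)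

/-- A `p`-group fixing `e` fixes a vector of an invariant subspace modulo the line of `e`. -/
theorem exists_fixed_quot {P : Subgroup S} (hP : IsPGroup p P) {e : V}
    (hfix : ∀ u ∈ P, G.act u e = e) (L : Submodule F V) (hL : ∀ u ∈ P, ∀ v ∈ L, G.act u v ∈ L)
    (hx : ¬ L ≤ Submodule.span F {e}) :
    ∃ v, v ∉ Submodule.span F {e} ∧ v ∈ L ∧ ∀ u ∈ P, G.act u v - v ∈ Submodule.span F {e} := by
  set E := Submodule.span F {e} with hE
  have hfixE : ∀ u : P, E ≤ E.comap (G.act u) := fun u w hw => by
    obtain ⟨c, rfl⟩ := Submodule.mem_span_singleton.1 hw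
    rw [Submodule.mem_comap, map_smul, hfix u u.2]; exact hw
  let M : Submodule F (V ⧸ E) := L.map E.mkQ
  let act : P → M → M := fun u m => ⟨E.mapQ E (G.act u) (hfixE u) m, by
    obtain ⟨_, v, hv, rfl⟩ := m
    exact ⟨_, hL u u.2 v hv, rfl⟩⟩
  letI : MulAction P M :=
    { smul := act
      one_smul := fun m => by
        obtain ⟨_, v, hv, rfl⟩ := m
        refine Subtype.ext ?_
        show E.mkQ (G.act ((1 : P) : S) v) = E.mkQ v
        simp
      mul_smul := fun u w m => by
        obtain ⟨_, v, hv, rfl⟩ := m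
        refine Subtype.ext ?_
        show E.mkQ (G.act ((u * w : P) : S) v) = E.mkQ (G.act (u : S) (G.act (w : S) v))
        rw [Subgroup.coe_mul, map_mul, Module.End.mul_apply] }
  obtain ⟨x, hxL, hxE⟩ := SetLike.not_le_iff_exists.1 hx
  have hMne : M ≠ ⊥ := fun h => hxE (by
    have : E.mkQ x ∈ M := ⟨x, hxL, rfl⟩
    rw [h, Submodule.mem_bot] at this
    exact (Submodule.Quotient.mk_eq_zero E).1 this)
  haveI : Finite (V ⧸ E) := Finite.of_surjective _ E.mkQ_surjective
  haveI : Finite M := Finite.of_injective _ Subtype.val_injective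
  have hdvd : p ∣ Nat.card M := by
    haveI := Fintype.ofFinite F
    rw [Module.natCard_eq_pow_finrank (K := F) (V := M)]
    refine dvd_pow ?_ fun h => hMne (Submodule.finrank_eq_zero.1 h)
    obtain ⟨k, -, hk⟩ := FiniteField.card F p
    rw [Nat.card_eq_fintype_card, hk]
    exact dvd_pow_self p k.2.ne'
  obtain ⟨⟨_, v, hv, rfl⟩, hm, hm0⟩ := hP.exists_fixed_point_of_prime_dvd_card_of_fixed_point M hdvd
    (a := 0) (fun u => Subtype.ext (map_zero _))
  refine ⟨v, fun h => hm0 (Subtype.ext ((Submodule.Quotient.mk_eq_zero E).2 h).symm), hv, fun u hu => ?_⟩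
  exact (Submodule.Quotient.eq E).1 (congrArg Subtype.val (hm ⟨u, hu⟩))

end Fixed

section Geometry

variable {F : Type*} [Field F] [Finite F] {p : ℕ} [Fact p.Prime] [CharP F p] {V : Type*}
  [AddCommGroup V] [Module F V] [Finite V] {S : Type*} [Group S] [Finite S] {G : Geo F V S}
  {K : Type*} [Group K] [Finite K] {π : S →* K} {P : Sylow p S} {e : V}

/-- A Sylow subgroup with a fixed point in a geometry with Siegel elements. -/
structure Based (G : Geo F V S) (π : S →* K) (P : Sylow p S) (e : V) : Prop where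
  inj' : ∀ y y', (∀ u, G.β u y = G.β u y') → y = y'
  sieg : ∀ w u, G.sing w → G.β u w = 0 → ∃ g, ∃ k l : F, k ≠ 0 ∧
    ∀ v, G.act g v = v + G.β v w • u + (k * G.β v u + l * G.β v w) • w
  tv : ∀ w, G.sing w → ∃ g, ∃ l : F, l ≠ 0 ∧ ∀ v, G.act g v = v + (l * G.β v w) • w
  surj : Function.Surjective π
  ker : π.ker ≤ Subgroup.center S
  ker' : ¬ p ∣ Nat.card π.ker
  e0 : e ≠ 0
  es : G.sing e
  fix : ∀ u ∈ (P : Subgroup S), G.act u e = e
  core : CoreFreeTop p K

namespace Based

variable (hB : Based G π P e)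
include hB

theorem fix_iff {v : V} (hv : ∀ g ∈ G.pointGroup e, G.act g v = v) : v ∈ Submodule.span F {e} := by
  by_contra hv'
  obtain ⟨g, l, hl, hg⟩ := hB.tv e hB.es
  have hmem : g ∈ G.pointGroup e := by
    refine G.mem_unip.2 ⟨fun w hw => ?_, fun z hz => ?_⟩
    · obtain ⟨t, rfl⟩ := Submodule.mem_span_singleton.1 hw
      rw [hg, G.smul_left, G.sing_self e hB.es]
      simp
    · rw [hg, hz e (Submodule.mem_span_singleton_self e)]
      simp
  have h1 := hv g hmem
  rw [hg, add_eq_left] at h1
  have hve : G.β v e = 0 := (mul_eq_zero.1 ((smul_eq_zero.1 h1).resolve_right hB.e0)).resolve_left hl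
  obtain ⟨u, hu, huv⟩ := exists_sep_of_inj G hB.inj' hv'
  have hue : G.β u e = 0 := hu e (Submodule.mem_span_singleton_self e)
  obtain ⟨h, k, m, hk, hh⟩ := hB.sieg e u hB.es hue
  have hmem' : h ∈ G.pointGroup e := by
    refine G.mem_unip.2 ⟨fun w hw => ?_, fun z hz => ?_⟩
    · obtain ⟨t, rfl⟩ := Submodule.mem_span_singleton.1 hw
      rw [hh, G.smul_left, G.smul_left, G.sing_self e hB.es, G.symm0 _ _ hue]
      simp
    · rw [hh, hz e (Submodule.mem_span_singleton_self e), zero_smul, add_zero, add_sub_cancel_left]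
      exact Submodule.smul_mem _ _ (Submodule.mem_span_singleton_self e)
  have h2 := hv h hmem'
  rw [hh, hve, zero_smul, add_zero, mul_zero, add_zero, add_eq_left] at h2
  exact huv (G.symm0 _ _ ((mul_eq_zero.1 ((smul_eq_zero.1 h2).resolve_right hB.e0)).resolve_left hk))

theorem point_le : G.pointGroup e ≤ (P : Subgroup S) :=
  le_of_normalized P.not_dvd_index (G.isPGroup_unip _) fun g hg r hr => by
    have := G.conj_pointGroup g e hr
    rwa [hB.fix g hg] at this

theorem p_le : (P : Subgroup S) ≤ stab G (Submodule.span F {e}) := fun u hu w hw => by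
  obtain ⟨c, rfl⟩ := Submodule.mem_span_singleton.1 hw
  rw [map_smul, hB.fix u hu]; exact hw

theorem eq_of_map_eq {u v : S} (hu : u ∈ (P : Subgroup S)) {k : ℕ} (hv : v ^ p ^ k = 1)
    (h : π v = π u) : v = u := by
  have hz : u⁻¹ * v ∈ π.ker := by rw [MonoidHom.mem_ker, map_mul, map_inv, h, inv_mul_cancel]
  obtain ⟨j, hj⟩ := P.isPGroup' ⟨u, hu⟩
  have hu' : u ^ p ^ (j + k) = 1 := by
    rw [pow_add, pow_mul, show u ^ p ^ j = 1 from congrArg Subtype.val hj, one_pow]
  have hv' : v ^ p ^ (j + k) = 1 := by rw [add_comm, pow_add, pow_mul, hv, one_pow]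
  have hc : Commute u (u⁻¹ * v) := Subgroup.mem_center_iff.1 (hB.ker hz) u
  have h1 : (u⁻¹ * v) ^ p ^ (j + k) = 1 := by
    have := hc.mul_pow (p ^ (j + k))
    rw [mul_inv_cancel_left, hv', hu', one_mul] at this
    exact this.symm
  have h2 : u⁻¹ * v = 1 := by
    by_contra hne
    obtain ⟨i, hi, hord⟩ := (Nat.dvd_prime_pow (Fact.out : p.Prime)).1 (orderOf_dvd_of_pow_eq_one h1)
    rcases Nat.eq_zero_or_pos i with rfl | hi0
    · exact hne (orderOf_eq_one_iff.1 (hord.trans (pow_zero p)))
    · refine hB.ker' ((dvd_pow_self p hi0.ne').trans ?_)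
      rw [← hord, ← Nat.card_zpowers]
      exact Subgroup.card_dvd_of_le (Subgroup.zpowers_le.2 hz)
  exact (inv_mul_eq_one.1 h2).symm

/-- A proper overgroup fixes a subspace `X` and its perpendicular, with `e ∈ X ⊆ e⊥`. -/
theorem cover {U : Sylow p K} (hU : (U : Subgroup K) = (P : Subgroup S).map π) {H : Subgroup K}
    (hUH : (U : Subgroup K) ≤ H) (hH : H ≠ ⊤) :
    ∃ X : Submodule F V, X ≠ ⊤ ∧ e ∈ X ∧ (∀ v ∈ X, G.β v e = 0) ∧ H.comap π ≤ stab G X ∧
      ∀ h ∈ H.comap π, ∀ v, (∀ w ∈ X, G.β v w = 0) → ∀ w ∈ X, G.β (G.act h v) w = 0 := by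
  obtain ⟨R, hRp, hR0, hRH, hRn⟩ := exists_core hB.core U hUH hH
  have hRU : R ≤ (U : Subgroup K) :=
    le_of_normalized U.not_dvd_index hRp fun g hg r hr => hRn g (hUH hg) r hr
  set R' : Subgroup S := (P : Subgroup S) ⊓ R.comap π with hR'
  let X : Submodule F V :=
    { carrier := {v | ∀ r ∈ R', G.act r v = v}
      zero_mem' := fun r _ => map_zero _
      add_mem' := fun {a b} ha hb r hr => by rw [map_add, ha r hr, hb r hr]
      smul_mem' := fun c a ha r hr => by rw [map_smul, ha r hr] }
  have hX1 : X ≠ ⊤ := by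
    intro h
    refine hR0 (eq_bot_iff.2 fun r hr => ?_)
    obtain ⟨u, hu, rfl⟩ : r ∈ (P : Subgroup S).map π := hU ▸ hRU hr
    have : u = 1 := G.inj (LinearMap.ext fun v => by
      rw [map_one, Module.End.one_apply]
      exact (h ▸ Submodule.mem_top : v ∈ X) u ⟨hu, hr⟩)
    rw [this, map_one]
    exact one_mem _
  have hinv : H.comap π ≤ stab G X := by
    intro h hh v hv r hr
    have hm : π (h⁻¹ * r * h) ∈ R := by
      rw [map_mul, map_mul, map_inv]
      simpa using hRn _ (inv_mem (show π h ∈ H from hh)) _ hr.2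
    obtain ⟨u, hu, e'⟩ : π (h⁻¹ * r * h) ∈ (P : Subgroup S).map π := hU ▸ hRU hm
    obtain ⟨k, hk⟩ := P.isPGroup' ⟨r, hr.1⟩
    have hpow : (h⁻¹ * r * h) ^ p ^ k = 1 := by
      have := conj_pow (a := h⁻¹) (b := r) (i := p ^ k)
      rw [inv_inv, show r ^ p ^ k = 1 from congrArg Subtype.val hk, mul_one, inv_mul_cancel] at this
      exact this
    have h1 : h⁻¹ * r * h ∈ R' := by
      refine ⟨?_, hm⟩
      rw [hB.eq_of_map_eq hu hpow e'.symm]
      exact hu
    have h2 := congrArg (G.act h) (hv _ h1)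
    rwa [← Module.End.mul_apply, ← map_mul, show h * (h⁻¹ * r * h) = r * h by group, map_mul,
      Module.End.mul_apply] at h2
  have hPH : (P : Subgroup S) ≤ H.comap π := fun u hu => hUH (hU ▸ ⟨u, hu, rfl⟩)
  -- invariant subspaces contain `e`
  have hcont : ∀ Y : Submodule F V, Y ≠ ⊥ → (∀ g ∈ (P : Subgroup S), ∀ w ∈ Y, G.act g w ∈ Y) → e ∈ Y := by
    intro Y hY0 hY
    obtain ⟨w, hw, hw0, hwf⟩ := G.exists_fixed_in P.isPGroup' hY hY0 (Geo.dvd_card_submodule hY0)
    obtain ⟨c, rfl⟩ := Submodule.mem_span_singleton.1 (hB.fix_iff fun g hg => hwf g (hB.point_le hg))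
    exact (Y.smul_mem_iff fun h => hw0 (by rw [h, zero_smul])).1 hw
  let X' : Submodule F V :=
    { carrier := {v | ∀ w ∈ X, G.β v w = 0}
      zero_mem' := fun w _ => by simpa using G.smul_left 0 0 w
      add_mem' := fun {a b} ha hb w hw => by rw [G.add_left, ha w hw, hb w hw, add_zero]
      smul_mem' := fun c a ha w hw => by rw [G.smul_left, ha w hw, mul_zero] }
  have hinv' : ∀ h ∈ H.comap π, ∀ v ∈ X', G.act h v ∈ X' := fun h hh v hv w hw => by
    rw [← G.act_act_inv h w, G.inv]
    exact hv _ (hinv (inv_mem hh) w hw)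
  have heX : e ∈ X := fun r hr => hB.fix r hr.1
  have hX'0 : X' ≠ ⊥ := by
    obtain ⟨v, -, hv⟩ := SetLike.exists_of_lt (lt_top_iff_ne_top.2 hX1)
    obtain ⟨u, hu, huv⟩ := exists_sep_of_inj G hB.inj' hv
    intro h
    have : u ∈ X' := hu
    rw [h, Submodule.mem_bot] at this
    rw [this] at huv
    exact huv (by simpa using G.smul_left 0 0 v)
  have heX' : e ∈ X' := hcont X' hX'0 fun g hg w hw => hinv' g (hPH hg) w hw
  exact ⟨X, hX1, heX, fun v hv => G.symm0 _ _ (heX' v hv), hinv, hinv'⟩

theorem normalizer_ne_top [IsSimpleGroup K] {U : Sylow p K} (hU : (U : Subgroup K) = (P : Subgroup S).map π)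
    {T : Subgroup S} (hT : (P : Subgroup S) ≤ T) (hTt : T.map π ≠ ⊤) :
    Subgroup.normalizer ((U : Subgroup K) : Set K) ≠ ⊤ := by
  intro htop
  haveI hn : (U : Subgroup K).Normal := Subgroup.normalizer_eq_top_iff.1 htop
  rcases Subgroup.Normal.eq_bot_or_eq_top (H := (U : Subgroup K)) inferInstance with h | h
  · obtain ⟨g, l, hl, hg⟩ := hB.tv e hB.es
    have hgP : g ∈ (P : Subgroup S) := hB.point_le (G.mem_unip.2 ⟨fun w hw => by
      obtain ⟨t, rfl⟩ := Submodule.mem_span_singleton.1 hw
      rw [hg, G.smul_left, G.sing_self e hB.es]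
      simp, fun z hz => by
      rw [hg, hz e (Submodule.mem_span_singleton_self e)]
      simp⟩)
    have h1 : π g = π 1 := by
      have : π g ∈ (U : Subgroup K) := hU ▸ ⟨g, hgP, rfl⟩
      rw [h, Subgroup.mem_bot] at this
      rw [this, map_one]
    obtain ⟨k, hk⟩ := P.isPGroup' ⟨g, hgP⟩
    have h2 := hB.eq_of_map_eq (one_mem _) (congrArg Subtype.val hk) h1
    obtain ⟨u, -, hu⟩ := exists_sep_of_inj G hB.inj' (W := ⊥) (v := e) (by simpa using hB.e0)
    have h3 := hg u
    rw [show g = 1 from h2, map_one, Module.End.one_apply, left_eq_add] at h3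
    exact hu ((mul_eq_zero.1 ((smul_eq_zero.1 h3).resolve_right hB.e0)).resolve_left hl)
  · exact hTt (top_le_iff.1 (h ▸ (hU.le.trans (Subgroup.map_mono hT))))

theorem exists_sylow : ∃ U : Sylow p K, (U : Subgroup K) = (P : Subgroup S).map π :=
  ⟨(P.isPGroup'.map π).toSylow fun h => P.not_dvd_index (h.trans (Subgroup.index_map_dvd _ hB.surj)), rfl⟩

theorem le_stab_iff {W : Submodule F V} (hW : π.ker ≤ stab G W) {L : Subgroup S}
    (h : L.map π ≤ (stab G W).map π) : L ≤ stab G W := by
  have := Subgroup.map_le_iff_le_comap.1 h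
  rwa [Subgroup.comap_map_eq_self hW] at this

theorem ker_le_stab : π.ker ≤ stab G (Submodule.span F {e}) := fun z hz w hw => by
  obtain ⟨c, rfl⟩ := Submodule.mem_span_singleton.1 hw
  rw [map_smul]
  refine Submodule.smul_mem _ _ (hB.fix_iff fun g hg => ?_)
  rw [← Module.End.mul_apply, ← map_mul, Subgroup.mem_center_iff.1 (hB.ker hz) g, map_mul,
    Module.End.mul_apply, G.act_self hg]

theorem norm_le {T : Subgroup S} (hT : ∀ g ∈ T, ∀ u ∈ (P : Subgroup S), g * u * g⁻¹ ∈ (P : Subgroup S))
    {U : Sylow p K} (hU : (U : Subgroup K) = (P : Subgroup S).map π) :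
    T.map π ≤ Subgroup.normalizer ((U : Subgroup K) : Set K) := by
  rintro _ ⟨g, hg, rfl⟩
  have key : ∀ g ∈ T, ∀ x ∈ (U : Subgroup K), π g * x * (π g)⁻¹ ∈ (U : Subgroup K) := by
    intro g hg x hx
    rw [hU] at hx ⊢
    obtain ⟨u, hu, rfl⟩ := hx
    exact ⟨g * u * g⁻¹, hT g hg u hu, by rw [map_mul, map_mul, map_inv]⟩
  refine Subgroup.mem_normalizer_iff.2 fun x => ⟨key g hg x, fun hx => ?_⟩
  simpa [mul_assoc] using key g⁻¹ (inv_mem hg) _ hx

end Based

end Geometry

variable {F : Type} [Field F] [Fintype F] {p : ℕ} [Fact p.Prime] [CharP F p]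

section SpFour

open Cfsg.Agent.Classical Cfsg.Agent.Classical.PSpAut

local notation "V" => (Fin 2 ⊕ Fin 2 → F)
local notation "b" => sympForm 2 F

theorem verdict_psp_four [IsSimpleGroup (Cfsg.PSp 2 F)] (h4 : 4 ≤ Fintype.card F) :
    Verdict p (Cfsg.PSp 2 F) := by
  set G := spGeo (F := F) (m := 2) with hG
  have hC : G.Core p := sp_core (by omega)
  have hinj : ∀ y y', (∀ u, G.β u y = G.β u y') → y = y' := fun y y' h => by
    rw [← sub_eq_zero]
    refine eq_zero_of_sympForm_eq_zero fun v => ?_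
    have h1 : b v (y - y') = 0 := by rw [sympForm_sub_right, show b v y = b v y' from h v, sub_self]
    rw [sympForm_swap, h1, neg_zero]
  have hswap : ∀ u v : V, b u v = 0 → b v u = 0 := fun u v h => G.symm0 u v h
  obtain ⟨P⟩ : Nonempty (Sylow p (Matrix.symplecticGroup (Fin 2) F)) := inferInstance
  obtain ⟨e, he0, -, hfix⟩ := hC.fix P P.isPGroup'
  have hB : Based G (spToPSp 2 F) P e :=
    { inj' := hinj
      sieg := siegel_sp.sieg
      tv := fun w _ => ⟨sympTv w 1, 1, one_ne_zero, fun v => by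
        rw [spGeo_act, sympTv_apply, spGeo_beta]⟩
      surj := PSpAut.spToPSp_surjective
      ker := (QuotientGroup.ker_mk' _).le
      ker' := fun h => G.not_dvd_center hC.fix hC.move hC.conn hC.span
        (h.trans (Subgroup.card_dvd_of_le (QuotientGroup.ker_mk' _).le))
      e0 := he0
      es := trivial
      fix := hfix
      core := coreFreeTop_psp (by omega) }
  set E := Submodule.span F {e} with hE
  have hdim : finrank F V = 4 := by
    rw [Module.finrank_pi, Fintype.card_sum, Fintype.card_fin]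
  -- the line
  obtain ⟨x, hxE, hxe, hxfix⟩ : ∃ v, v ∉ E ∧ G.β v e = 0 ∧ ∀ u ∈ (P : Subgroup _), G.act u v - v ∈ E := by
    obtain ⟨v, hv, hve⟩ := exists_perp G [e] E (by
      rw [hE, finrank_span_singleton he0, hdim]; simp)
    let L : Submodule F V :=
      { carrier := {v | G.β v e = 0}
        zero_mem' := by simpa using G.smul_left 0 0 e
        add_mem' := fun {a c} ha hc => by
          show G.β (a + c) e = 0
          rw [G.add_left, show G.β a e = 0 from ha, show G.β c e = 0 from hc, add_zero]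
        smul_mem' := fun c a ha => by
          show G.β (c • a) e = 0
          rw [G.smul_left, show G.β a e = 0 from ha, mul_zero] }
    exact exists_fixed_quot G P.isPGroup' hfix L (fun u hu w hw => by
      show G.β (G.act u w) e = 0
      have h := G.inv u w e
      rw [hfix u hu] at h
      exact h.trans hw) fun h => hv (h (hve e (by simp)))
  set W := Submodule.span F ({e, x} : Set V) with hW
  have heW : e ∈ W := Submodule.subset_span (by simp)
  have hxW : x ∈ W := Submodule.subset_span (by simp)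
  have hEW : E ≤ W := Submodule.span_mono (by simp)
  have hxe' : b x e = 0 := hxe
  have hex : b e x = 0 := hswap _ _ hxe'
  have hWW : ∀ w ∈ W, b w e = 0 ∧ b w x = 0 := fun w hw => by
    obtain ⟨r, s, rfl⟩ := Submodule.mem_span_pair.1 hw
    simp [sympForm_add_left, sympForm_smul_left, sympForm_self, hxe', hex]
  have hPW : (P : Subgroup _) ≤ stab G W := by
    intro u hu w hw
    obtain ⟨r, s, rfl⟩ := Submodule.mem_span_pair.1 hw
    rw [map_add, map_smul, map_smul, hfix u hu]
    exact add_mem (W.smul_mem _ heW) (W.smul_mem _ (by simpa using add_mem (hEW (hxfix u hu)) hxW))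
  have hUW : G.unip W ≤ (P : Subgroup _) :=
    le_of_normalized P.not_dvd_index (G.isPGroup_unip _) fun g hg r hr =>
      G.conj_mem_unip g (hPW hg) (hPW (inv_mem hg)) hr
  -- the vectors orthogonal to the line
  have hperp : ∀ v, b v e = 0 → b v x = 0 → v ∈ W := by
    intro v hve hvx
    by_contra hv
    obtain ⟨u, hu, huv⟩ := exists_sep_of_inj G hinj hv
    have hue : b u e = 0 := hu e heW
    have hux : b u x = 0 := hu x hxW
    have hle : ∀ z : V, z ∈ Submodule.span F ({e, x} ∪ {v, u} : Set V) → b z e = 0 := by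
      intro z hz
      refine G.beta_span (O := ({e, x} ∪ {v, u} : Set V)) (v := e) ?_ hz
      rintro w ((rfl | rfl) | rfl | rfl)
      exacts [sympForm_self _, hex, hswap _ _ hve, hswap _ _ hue]
    have hind : finrank F (Submodule.span F ({e, x} ∪ {v, u} : Set V)) = 4 := by
      refine le_antisymm ((Submodule.finrank_le _).trans hdim.le) ?_
      have h1 : LinearIndependent F ![e, x, v, u] := by
        refine Fintype.linearIndependent_iff.2 fun c hc => ?_
        simp only [Fin.sum_univ_four, Matrix.cons_val_zero, Matrix.cons_val_one, Matrix.cons_val_two,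
          Matrix.cons_val_three, Matrix.head_cons, Matrix.tail_cons] at hc
        have huv' : b u v ≠ 0 := huv
        have h2 : c 2 = 0 := by
          have := congrArg (b u) hc
          simp [sympForm_add_right, sympForm_smul_right, sympForm_self, hue, hux, huv'] at this
          exact this
        have h3 : c 3 = 0 := by
          have := congrArg (b v) hc
          have hvu : b v u ≠ 0 := fun h => huv' (hswap _ _ h)
          simp [sympForm_add_right, sympForm_smul_right, sympForm_self, hve, hvx, h2, hvu] at this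
          exact this
        rw [h2, h3, zero_smul, zero_smul, add_zero, add_zero] at hc
        have h1 : c 1 = 0 := by
          by_contra h1
          refine hxE (Submodule.mem_span_singleton.2 ⟨-((c 1)⁻¹ * c 0), ?_⟩)
          linear_combination (norm := skip) -(1 : F) • congrArg ((c 1)⁻¹ • ·) hc
          simp only [smul_add, smul_smul, inv_mul_cancel₀ h1, one_smul, smul_zero]
          module
        rw [h1, zero_smul, add_zero, smul_eq_zero] at hc
        intro i
        fin_cases i
        exacts [hc.resolve_right he0, h1, h2, h3]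
      have h2 := finrank_span_eq_card h1
      rw [Fintype.card_fin] at h2
      refine h2.ge.trans (Submodule.finrank_mono (Submodule.span_mono ?_))
      rintro _ ⟨i, rfl⟩
      fin_cases i <;> simp
    have htop := Submodule.eq_top_of_finrank_eq (hind.trans hdim.symm)
    obtain ⟨z, hz⟩ := exists_sympForm_eq_one he0
    have h0 : b e z = 0 := hswap _ _ (hle z (htop ▸ trivial))
    rw [hz] at h0
    exact one_ne_zero h0
  have huniq : ∀ v, b v e = 0 → (∀ u ∈ (P : Subgroup _), G.act u v - v ∈ E) → v ∈ W := by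
    intro v hve hv
    refine hperp v hve ?_
    obtain ⟨h, l, hl, hh⟩ := hB.tv x trivial
    have hmem : h ∈ G.unip W := by
      refine G.mem_unip.2 ⟨fun w hw => ?_, fun z hz => ?_⟩
      · rw [hh, show G.β w x = 0 from (hWW w hw).2]; simp
      · rw [hh, hz x hxW]; simp
    have h1 := hv h (hUW hmem)
    rw [hh, add_sub_cancel_left] at h1
    by_contra hvx
    exact hxE ((E.smul_mem_iff (mul_ne_zero hl hvx)).1 h1)
  -- the stabilisers
  obtain ⟨U, hU⟩ := hB.exists_sylow
  set T := stab G E with hT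
  have hkT : (spToPSp 2 F).ker ≤ T := hB.ker_le_stab
  have hkW : (spToPSp 2 F).ker ≤ stab G W := fun z hz => by
    have hzc := (hB.ker hz)
    intro w hw
    refine huniq _ ?_ fun u hu => ?_
    · show G.β (G.act z w) e = 0
      obtain ⟨c, hc⟩ := Submodule.mem_span_singleton.1 (hkT (inv_mem hz) e (Submodule.mem_span_singleton_self e))
      rw [← G.act_act_inv z e, G.inv, ← hc]
      exact hswap _ _ (by rw [sympForm_smul_left, hswap _ _ (hWW w hw).1, mul_zero])
    · rw [← Module.End.mul_apply, ← map_mul, Subgroup.mem_center_iff.1 hzc u, map_mul,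
        Module.End.mul_apply, ← map_sub]
      refine hkT hz _ ?_
      obtain ⟨r, s, rfl⟩ := Submodule.mem_span_pair.1 hw
      rw [map_add, map_smul, map_smul, hfix u hu, add_sub_add_left_eq_sub, ← smul_sub]
      exact E.smul_mem _ (hxfix u hu)
  -- elements separating the two
  obtain ⟨t, htW, hte⟩ : ∃ t ∈ stab G W, G.act t e ∉ E := by
    obtain ⟨y, hy, hye⟩ := exists_sep_of_inj G hinj (W := Submodule.span F {x}) (v := e) (fun h => hxE (by
      obtain ⟨c, hc⟩ := Submodule.mem_span_singleton.1 h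
      have hc0 : c ≠ 0 := fun h0 => he0 (by rw [← hc, h0, zero_smul])
      exact Submodule.mem_span_singleton.2 ⟨c⁻¹, by rw [← hc, inv_smul_smul₀ hc0]⟩))
    have hyx : G.β y x = 0 := hy x (Submodule.mem_span_singleton_self x)
    obtain ⟨h, k, l, hk, hh⟩ := hB.sieg x y trivial hyx
    have hte : G.act h e = e + (k * G.β e y) • x := by
      rw [hh, show G.β e x = 0 from hex]; simp
    refine ⟨h, fun w hw => ?_, fun hcon => ?_⟩
    · rw [hh, show G.β w x = 0 from (hWW w hw).2, zero_smul, add_zero]
      exact add_mem hw (W.smul_mem _ hxW)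
    · rw [hte, Submodule.add_mem_iff_right _ (Submodule.mem_span_singleton_self e),
        E.smul_mem_iff (mul_ne_zero hk fun h0 => hye (G.symm0 _ _ h0))] at hcon
      exact hxE hcon
  obtain ⟨t', ht'T, ht'W⟩ : ∃ t ∈ T, t ∉ stab G W := by
    obtain ⟨z, hz, hzx⟩ := exists_sep_of_inj G hinj (W := E) (v := x) hxE
    have hze : b z e = 0 := hz e (Submodule.mem_span_singleton_self e)
    have hxz : b x z ≠ 0 := fun h => hzx (G.symm0 _ _ h)
    refine ⟨sympTv z 1, fun w hw => ?_, fun hcon => ?_⟩
    · obtain ⟨c, rfl⟩ := Submodule.mem_span_singleton.1 hw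
      rw [map_smul, hG, spGeo_act, sympTv_apply, hswap _ _ hze]
      simpa using E.smul_mem c (Submodule.mem_span_singleton_self e)
    · have h1 := hcon x hxW
      rw [hG, spGeo_act, sympTv_apply, one_mul, Submodule.add_mem_iff_right _ hxW,
        W.smul_mem_iff hxz] at h1
      exact hxz (hswap _ _ (hWW z h1).2)
  have hnot1 : ¬ T.map (spToPSp 2 F) ≤ (stab G W).map (spToPSp 2 F) := fun h =>
    ht'W (hB.le_stab_iff hkW h ht'T)
  have hnot2 : ¬ (stab G W).map (spToPSp 2 F) ≤ T.map (spToPSp 2 F) := fun h =>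
    hte (hB.le_stab_iff hkT h htW e (Submodule.mem_span_singleton_self e))
  refine verdict_two U (P := T.map (spToPSp 2 F)) (Q := (stab G W).map (spToPSp 2 F))
    (hU ▸ Subgroup.map_mono hB.p_le) (hU ▸ Subgroup.map_mono hPW) (fun h => hnot2 (h ▸ le_top))
    (fun h => hnot1 (h ▸ le_top)) hnot1 hnot2 (fun H hUH hH => ?_) ?_
    (hB.normalizer_ne_top hU hB.p_le fun h => hnot2 (h ▸ le_top)) ?_
  · obtain ⟨X, hX1, heX, hXe, hinv, hinv'⟩ := hB.cover hU hUH hH
    have hsurj : ∀ y ∈ H, ∃ h ∈ H.comap (spToPSp 2 F), spToPSp 2 F h = y := fun y hy => by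
      obtain ⟨h, rfl⟩ := hB.surj y
      exact ⟨h, hy, rfl⟩
    by_cases hXE : X ≤ E
    · refine Or.inl fun y hy => ?_
      obtain ⟨h, hh, rfl⟩ := hsurj y hy
      exact ⟨h, fun w hw => hXE (hinv hh w ((Submodule.span_le.2 (by simpa using heX)) hw)), rfl⟩
    obtain ⟨v, hv, hvE⟩ := SetLike.not_le_iff_exists.1 hXE
    -- `x` lies in `X`
    have hxX : x ∈ X := by
      obtain ⟨v', hv'E, hv'e, hv'⟩ := exists_fixed_quot G P.isPGroup' hfix X
        (fun u hu => hinv (show u ∈ H.comap _ from hUH (hU ▸ ⟨u, hu, rfl⟩))) hXE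
      obtain ⟨r, s, rfl⟩ := Submodule.mem_span_pair.1 (huniq v' (hXe v' hv'e) hv')
      have hs : s ≠ 0 := fun h => hv'E (by
        rw [h, zero_smul, add_zero]
        exact E.smul_mem _ (Submodule.mem_span_singleton_self e))
      exact (X.smul_mem_iff hs).1 ((Submodule.add_mem_iff_right X (X.smul_mem r heX)).1 hv'e)
    have hWX : W ≤ X := Submodule.span_le.2 (by
      rintro w (rfl | rfl)
      exacts [heX, hxX])
    by_cases hXW : X ≤ W
    · refine Or.inr fun y hy => ?_
      obtain ⟨h, hh, rfl⟩ := hsurj y hy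
      exact ⟨h, fun w hw => hXW (hinv hh w (hWX hw)), rfl⟩
    -- the perpendicular of `X` is the point
    obtain ⟨v₂, hv₂, hv₂W⟩ := SetLike.not_le_iff_exists.1 hXW
    refine Or.inl fun y hy => ?_
    obtain ⟨h, hh, rfl⟩ := hsurj y hy
    refine ⟨h, fun w hw => ?_, rfl⟩
    have hwX : ∀ z ∈ X, G.β w z = 0 := fun z hz => by
      obtain ⟨c, rfl⟩ := Submodule.mem_span_singleton.1 hw
      rw [G.smul_left, G.symm0 _ _ (hXe z hz), mul_zero]
    have h1 := hinv' h hh w hwX
    have h2 : G.act h w ∈ W := hperp _ (h1 e heX) (h1 x hxX)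
    obtain ⟨r, s, hrs⟩ := Submodule.mem_span_pair.1 h2
    have h3 := h1 v₂ hv₂
    rw [← hrs, G.add_left, G.smul_left, G.smul_left, G.symm0 _ _ (hXe v₂ hv₂), mul_zero, zero_add,
      mul_eq_zero] at h3
    have hs : s = 0 := h3.resolve_right fun h0 => hv₂W (hperp v₂ (hXe v₂ hv₂) (hswap _ _ h0))
    rw [← hrs, hs, zero_smul, add_zero]
    exact E.smul_mem _ (Submodule.mem_span_singleton_self e)
  · -- the meet normalises
    let N : Subgroup (Matrix.symplecticGroup (Fin 2) F) :=
      { carrier := {u | G.act u e = e ∧ G.act u x - x ∈ E}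
        one_mem' := by simp
        mul_mem' := by
          rintro u v ⟨hu1, hu2⟩ ⟨hv1, hv2⟩
          refine ⟨by rw [map_mul, Module.End.mul_apply, hv1, hu1], ?_⟩
          obtain ⟨c, hc⟩ := Submodule.mem_span_singleton.1 hv2
          rw [map_mul, Module.End.mul_apply, show G.act v x = x + c • e by rw [hc]; abel, map_add,
            map_smul, hu1, add_sub_right_comm]
          exact add_mem hu2 (E.smul_mem _ (Submodule.mem_span_singleton_self e))
        inv_mem' := by
          rintro u ⟨hu1, hu2⟩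
          have h1 : G.act u⁻¹ e = e := by
            conv_lhs => rw [← hu1]
            exact G.act_inv_act u e
          refine ⟨h1, ?_⟩
          obtain ⟨c, hc⟩ := Submodule.mem_span_singleton.1 hu2
          have h2 : G.act u x = x + c • e := by rw [hc]; abel
          have h3 := congrArg (G.act u⁻¹) h2
          rw [G.act_inv_act, map_add, map_smul, h1] at h3
          exact Submodule.mem_span_singleton.2 ⟨-c, by rw [neg_smul]; nth_rewrite 2 [h3]; abel⟩ }
    have hN : IsPGroup p N := by
      rintro ⟨u, hu1, hu2⟩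
      refine ⟨2, Subtype.ext (G.inj ?_)⟩
      rw [SubgroupClass.coe_pow, map_pow, OneMemClass.coe_one, map_one]
      set D : Module.End F V := G.act u - 1 with hD
      have huW : ∀ w ∈ W, D w ∈ E := fun w hw => by
        obtain ⟨r, s, rfl⟩ := Submodule.mem_span_pair.1 hw
        rw [hD, LinearMap.sub_apply, Module.End.one_apply, map_add, map_smul, map_smul, hu1,
          add_sub_add_left_eq_sub, ← smul_sub]
        exact E.smul_mem _ hu2
      have hu1e : ∀ w, G.β (G.act u w) e = G.β w e := fun w => by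
        conv_lhs => rw [← hu1]
        exact G.inv u w e
      have hmid : ∀ w, G.β w e = 0 → D w ∈ W := fun w hw => by
        obtain ⟨c, hc⟩ := Submodule.mem_span_singleton.1 hu2
        refine hperp _ ?_ ?_
        · show G.β _ e = 0
          rw [hD, LinearMap.sub_apply, Module.End.one_apply, G.sub_left, hu1e, sub_self]
        · have h1 : G.β (G.act u w) x = G.β w x := by
            have h2 := G.inv u w x
            rw [show G.act u x = x + c • e by rw [hc]; abel] at h2
            rw [← h2]
            show b _ x = b _ (x + c • e)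
            rw [sympForm_add_right, sympForm_smul_right,
              show b ((G.act u) w) e = 0 from (hu1e w).trans hw, mul_zero, add_zero]
          show G.β _ x = 0
          rw [hD, LinearMap.sub_apply, Module.End.one_apply, G.sub_left, h1, sub_self]
      have hfour : D ^ 4 = 0 := LinearMap.ext fun v => by
        have h1 : G.β (D v) e = 0 := by
          rw [hD, LinearMap.sub_apply, Module.End.one_apply, G.sub_left, hu1e, sub_self]
        have h3 := huW _ (hmid _ h1)
        obtain ⟨c, hc⟩ := Submodule.mem_span_singleton.1 h3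
        simp only [pow_succ, pow_zero, one_mul, Module.End.mul_apply, LinearMap.zero_apply]
        rw [← hc, map_smul, hD, LinearMap.sub_apply, Module.End.one_apply, hu1, sub_self, smul_zero]
      haveI : Nontrivial (Module.End F V) := inferInstance
      haveI : CharP (Module.End F V) p :=
        charP_of_injective_algebraMap (algebraMap F (Module.End F V)).injective p
      haveI : ExpChar (Module.End F V) p := ExpChar.prime Fact.out
      have hp4 : 4 ≤ p ^ 2 := by
        have := (Fact.out : p.Prime).two_le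
        nlinarith
      rw [show G.act u = 1 + D by rw [hD]; abel, add_pow_expChar_pow_of_commute p 2 (Commute.one_left D),
        one_pow, pow_eq_zero_of_le hp4 hfour, add_zero]
    have hPN : N = (P : Subgroup _) := P.is_maximal' hN fun u hu => ⟨hfix u hu, hxfix u hu⟩
    have hle : T.map (spToPSp 2 F) ⊓ (stab G W).map (spToPSp 2 F) ≤ (T ⊓ stab G W).map (spToPSp 2 F) := by
      rintro _ ⟨⟨s, hs, rfl⟩, ⟨s', hs', e'⟩⟩
      refine ⟨s, ⟨hs, ?_⟩, rfl⟩
      have hk : s'⁻¹ * s ∈ (spToPSp 2 F).ker := by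
        rw [MonoidHom.mem_ker, map_mul, map_inv, e', inv_mul_cancel]
      simpa using mul_mem hs' (hkW hk)
    refine hle.trans (hB.norm_le (fun g hg u hu => ?_) hU)
    rw [← hPN] at hu ⊢
    obtain ⟨hu1, hu2⟩ := hu
    obtain ⟨a, ha⟩ := Submodule.mem_span_singleton.1
      ((inv_mem hg.1 : g⁻¹ ∈ T) e (Submodule.mem_span_singleton_self e))
    refine ⟨?_, ?_⟩
    · rw [map_mul, map_mul, Module.End.mul_apply, Module.End.mul_apply, ← ha, map_smul, hu1, ha,
        G.act_act_inv]
    · have hx' : G.act g⁻¹ x ∈ W := (inv_mem hg.2 : g⁻¹ ∈ stab G W) x hxW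
      obtain ⟨r, s, hrs⟩ := Submodule.mem_span_pair.1 hx'
      have h1 : G.act u (G.act g⁻¹ x) - G.act g⁻¹ x ∈ E := by
        rw [← hrs, map_add, map_smul, map_smul, hu1, add_sub_add_left_eq_sub, ← smul_sub]
        exact E.smul_mem _ hu2
      have h2 := hg.1 _ h1
      rwa [map_sub, G.act_act_inv, ← Module.End.mul_apply, ← Module.End.mul_apply, ← map_mul,
        ← map_mul] at h2
  · intro hp
    subst hp
    exact Or.inr (Or.inl ⟨F, _, ‹_›, ‹_›, h4, ⟨MulEquiv.refl _⟩⟩)

end SpFour

section UnitThree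

open Cfsg.Agent.Classical Cfsg.Agent.Classical.PSUAut

variable {q : ℕ}

theorem verdict_psu_three (hF : Fintype.card F = q ^ 2) (hq : q ≠ 2) [IsSimpleGroup (Cfsg.PSU 3 F q)] :
    Verdict p (Cfsg.PSU 3 F q) := by
  set G := suGeo (n := 3) hF with hG
  have hC : G.Core p := su_core hF le_rfl
  have hinj := su_inj' (n := 3) hF
  obtain ⟨P⟩ : Nonempty (Sylow p (Cfsg.SU 3 F q)) := inferInstance
  obtain ⟨e, he0, he, hfix⟩ := hC.fix P P.isPGroup'
  have hB : Based G (suToPSU 3 F q) P e :=
    { inj' := hinj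
      sieg := (siegel_su hF).sieg
      tv := (siegel_su hF).tv.resolve_right (by rw [Module.finrank_fin_fun]; omega)
      surj := PSUAut.suToPSU_surjective
      ker := (QuotientGroup.ker_mk' _).le
      ker' := fun h => G.not_dvd_center hC.fix hC.move hC.conn hC.span
        (h.trans (Subgroup.card_dvd_of_le (QuotientGroup.ker_mk' _).le))
      e0 := he0
      es := he
      fix := hfix
      core := coreFreeTop_psu hF le_rfl }
  set E := Submodule.span F {e} with hE
  have hdim : finrank F (Fin 3 → F) = 3 := Module.finrank_fin_fun F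
  let L : Submodule F (Fin 3 → F) :=
    { carrier := {v | G.β v e = 0}
      zero_mem' := by simpa using G.smul_left 0 0 e
      add_mem' := fun {a c} ha hc => by
        show G.β (a + c) e = 0
        rw [G.add_left, show G.β a e = 0 from ha, show G.β c e = 0 from hc, add_zero]
      smul_mem' := fun c a ha => by
        show G.β (c • a) e = 0
        rw [G.smul_left, show G.β a e = 0 from ha, mul_zero] }
  have hEL : E ≤ L := Submodule.span_le.2 (by simpa [L] using G.sing_self e he)
  have hLne : L ≠ ⊤ := by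
    intro h
    obtain ⟨u, -, hu⟩ := exists_sep_of_inj G hinj (W := ⊥) (v := e) (by simpa using he0)
    exact hu (h ▸ Submodule.mem_top : u ∈ L)
  have hL2 : finrank F L ≤ 2 := by
    have := Submodule.finrank_lt hLne
    omega
  -- two independent conditions generate
  have hgen : ∀ v ∈ L, v ∉ E → L ≤ Submodule.span F {e, v} := fun v hv hvE => by
    refine (Submodule.eq_of_le_of_finrank_le (Submodule.span_le.2 ?_) ?_).ge
    · rintro w (rfl | rfl)
      exacts [hEL (Submodule.mem_span_singleton_self _), hv]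
    · refine hL2.trans ?_
      have hlt : E < Submodule.span F {e, v} := lt_of_le_of_ne (Submodule.span_mono (by simp))
        fun h => hvE (h ▸ Submodule.subset_span (by simp))
      have := Submodule.finrank_lt_finrank_of_lt hlt
      rw [hE, finrank_span_singleton he0] at this
      omega
  have hpt : G.pointGroup e = (P : Subgroup (Cfsg.SU 3 F q)) := by
    refine le_antisymm hB.point_le fun u hu => G.mem_unip.2 ⟨fun w hw => ?_, fun v hv => ?_⟩
    · obtain ⟨c, rfl⟩ := Submodule.mem_span_singleton.1 hw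
      rw [map_smul, hfix u hu]
    · have hvL : v ∈ L := hv e (Submodule.mem_span_singleton_self e)
      by_cases hvE : v ∈ E
      · obtain ⟨c, rfl⟩ := Submodule.mem_span_singleton.1 hvE
        rw [map_smul, hfix u hu, sub_self]; exact zero_mem _
      have hu' : G.act u v ∈ L := by
        show G.β (G.act u v) e = 0
        have h := G.inv u v e
        rw [hfix u hu] at h
        exact h.trans hvL
      obtain ⟨r, s, hrs⟩ := Submodule.mem_span_pair.1 (hgen v hvL hvE hu')
      obtain ⟨k, hk⟩ := P.isPGroup' ⟨u, hu⟩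
      refine eq_one_of_line (congrArg Subtype.val hk : u ^ p ^ k = 1) (fun w hw => hB.p_le hu w hw) hvE
        (c := s) ?_
      rw [← hrs, add_sub_cancel_right]
      exact E.smul_mem _ (Submodule.mem_span_singleton_self e)
  obtain ⟨U, hU⟩ := hB.exists_sylow
  set T := stab G E with hT
  have hTne : T.map (suToPSU 3 F q) ≠ ⊤ := by
    intro h
    have hall : T = ⊤ := by
      have := congrArg (Subgroup.comap (suToPSU 3 F q)) h
      rwa [Subgroup.comap_map_eq_self hB.ker_le_stab, Subgroup.comap_top] at this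
    obtain ⟨y, hy, hy0, hey, -⟩ := hC.conn e e he he he0 he0
    obtain ⟨z, hz, hz0, hez, hyz⟩ := hC.conn e y he hy he0 hy0
    obtain ⟨t, -, c, hc, htc⟩ := hC.move z e y hz he hy hz0 he0 hy0
      (fun h => hez (G.symm0 _ _ h)) (fun h => hyz (G.symm0 _ _ h))
    have hmem : G.act t e ∈ E := (hall ▸ Subgroup.mem_top t : t ∈ T) e (Submodule.mem_span_singleton_self e)
    rw [htc, E.smul_mem_iff hc] at hmem
    obtain ⟨r, hr⟩ := Submodule.mem_span_singleton.1 hmem
    apply hey
    rw [← hr]
    refine G.symm0 _ _ ?_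
    rw [G.smul_left, G.sing_self e he, mul_zero]
  refine verdict_one U (P := T.map (suToPSU 3 F q)) (fun H hUH hH => ?_) ?_
    (hB.normalizer_ne_top hU hB.p_le hTne) (Or.inr (Or.inl ⟨F, _, ‹_›, ‹_›, q, hF, hq, ⟨MulEquiv.refl _⟩⟩))
  · obtain ⟨X, hX1, heX, hXe, hinv, hinv'⟩ := hB.cover hU hUH hH
    intro y hy
    obtain ⟨h, rfl⟩ := hB.surj y
    refine ⟨h, fun w hw => ?_, rfl⟩
    by_cases hXE : X ≤ E
    · exact hXE (hinv (show h ∈ H.comap _ from hy) w ((Submodule.span_le.2 (by simpa using heX)) hw))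
    obtain ⟨v, hv, hvE⟩ := SetLike.not_le_iff_exists.1 hXE
    have hwX : ∀ z ∈ X, G.β w z = 0 := fun z hz => by
      obtain ⟨c, rfl⟩ := Submodule.mem_span_singleton.1 hw
      rw [G.smul_left, G.symm0 _ _ (hXe z hz), mul_zero]
    have h1 := hinv' h hy w hwX
    have h2 : G.act h w ∈ L := h1 e heX
    obtain ⟨r, s, hrs⟩ := Submodule.mem_span_pair.1 (hgen v (hXe v hv) hvE h2)
    have hs : s = 0 := by
      by_contra hs
      have h3 := h1 v hv
      rw [← hrs, G.add_left, G.smul_left, G.smul_left, G.symm0 _ _ (hXe v hv), mul_zero, zero_add,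
        mul_eq_zero] at h3
      have hvv : G.β v v = 0 := h3.resolve_left hs
      obtain ⟨u, hu, huv⟩ := exists_sep_of_inj G hinj (W := E) (v := v) hvE
      obtain ⟨r', s', hrs'⟩ := Submodule.mem_span_pair.1 (hgen v (hXe v hv) hvE
        (show u ∈ L from hu e (Submodule.mem_span_singleton_self e)))
      refine huv ?_
      rw [← hrs', G.add_left, G.smul_left, G.smul_left, G.symm0 _ _ (hXe v hv), hvv]
      ring
    rw [← hrs, hs, zero_smul, add_zero]
    exact E.smul_mem _ (Submodule.mem_span_singleton_self e)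
  · refine hB.norm_le (fun g hg u hu => ?_) hU
    rw [← hpt] at hu ⊢
    obtain ⟨a, ha⟩ := Submodule.mem_span_singleton.1 (hg e (Submodule.mem_span_singleton_self e))
    have ha0 : a ≠ 0 := fun h => he0 (by rw [← G.act_inv_act g e, ← ha, h, zero_smul, map_zero])
    have := G.conj_pointGroup g e hu
    rwa [← ha, G.pointGroup_smul ha0] at this

end UnitThree

end Cfsg.Agent.Lie.PMin
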