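import Cfsg.Agent.Lib.Lie.PMin.BN
import Cfsg.Agent.Lib.Lie.Over.Chev
import Cfsg.Agent.Lib.Lie.Chev.TwistOutD4
import Cfsg.Agent.Lib.Lie.Chev.TwistOutE6
import Cfsg.Agent.Lib.Lie.Chev.TwistOutF4
import Cfsg.Agent.Lib.Lie.Chev.TwistG2

/-!
Twisted groups: orbits of nodes with root groups of different orders are not exchanged.
-/

set_option autoImplicit false
set_option linter.unusedSectionVars false
set_option maxRecDepth 20000

namespace Cfsg.Agent.Lie.PMin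

open Cfsg Cfsg.Lie Cfsg.Agent.Lie Cfsg.Agent.Lie.Chev Cfsg.Agent.Lie.Over

variable {D : ChevalleyDatum} {c : CertFull D} {F : Type*} [Field F] [Fintype F] {p : ℕ}
  [Fact p.Prime] [CharP F p] {T : Twist c F} (Y : Twist.Datum T)

/-- The representative of an orbit of nodes. -/
def orb {J : List ℕ} (hJ : J ∈ Y.W.Jw) : Y.bnPair.S := ⟨⟨c.nw F J, Y.n_mem J hJ⟩, J, hJ, rfl⟩

theorem twist_inPar {J : List ℕ} (hJ : J ∈ Y.W.Jw) {g : ↥Y.G₁} :
    g ∈ par Y.bnPair (orb Y hJ) ↔ Y.InPar J (g : GL D.Idx F) := by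
  constructor
  · intro hg
    rcases mem_par_cases hg with h | h
    · rw [cell_one] at h
      exact Or.inl ⟨h.1, Y.le_fix g.2⟩
    · obtain ⟨x, hx, y, hy, e⟩ := (mem_cell_proj _ (n := sN _ (orb Y hJ))).1 h
      exact Or.inr ⟨x, ⟨hx.1, Y.le_fix x.2⟩, y, ⟨hy.1, Y.le_fix y.2⟩,
        congrArg (fun z : ↥Y.G₁ => (z : GL D.Idx F)) e⟩
  · rintro (h | ⟨x, hx, y, hy, e⟩)
    · exact B_le_par (P := Y.bnPair) (orb Y hJ) ⟨h.1, g.2⟩
    · rw [show g = ⟨x, Y.mem_G₁ hx.2⟩ * ((orb Y hJ : Y.bnPair.S) : ↥Y.G₁) * ⟨y, Y.mem_G₁ hy.2⟩ from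
        Subtype.ext e]
      exact mul_mem (mul_mem (B_le_par (P := Y.bnPair) _ ⟨hx.1, Y.mem_G₁ hx.2⟩) (mem_par _))
        (B_le_par (P := Y.bnPair) _ ⟨hy.1, Y.mem_G₁ hy.2⟩)

variable {i : ℕ} (hi : i < Y.W.N) (htop : ∀ q < D.rank, ¬ c.Pos (c.wl (Y.W.wd i) (D.simple q)))

include hi htop in
theorem card_X_eq {θ : MulAut ↥Y.G₁}
    (hθ : (twistU Y).map θ.toMonoidHom = twistU Y) {J K : List ℕ} (hJ : J ∈ Y.W.Jw) (hK : K ∈ Y.W.Jw)
    (hJK : (par Y.bnPair (orb Y hJ)).map θ.toMonoidHom = par Y.bnPair (orb Y hK))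
    (p : ℕ) [Fact p.Prime] [CharP F p] : Nat.card ↥(Y.X J) = Nat.card ↥(Y.X K) := by
  obtain ⟨x, hU, hV⟩ := Y.exists_fix_UV hi htop θ
  set θ₁ := θ.trans (MulAut.conj x) with hθ₁
  have hiff : ∀ g : ↥Y.G₁, (g : GL D.Idx F) ∈ Y.U₁ ↔ g ∈ twistU Y := fun g =>
    ⟨fun h => h.1, fun h => ⟨h, Y.le_fix g.2⟩⟩
  have hxB : x ∈ Y.bnPair.B := by
    rw [← normalizer_eq (twist_split (p := p) Y)]
    refine Subgroup.mem_normalizer_iff.2 fun u => ?_
    obtain ⟨v, rfl⟩ := θ.surjective u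
    have h1 : θ v ∈ twistU Y ↔ v ∈ twistU Y := by
      conv_lhs => rw [← hθ]
      exact Subgroup.mem_map_iff_mem θ.injective
    rw [h1, ← hiff, ← hiff, ← hU v]
    rfl
  have hP : ∀ g : ↥Y.G₁, Y.InPar K (θ₁ g : GL D.Idx F) ↔ Y.InPar J (g : GL D.Idx F) := by
    intro g
    rw [← twist_inPar Y hK, ← twist_inPar Y hJ, show θ₁ g = x * θ g * x⁻¹ from rfl,
      Subgroup.mul_mem_cancel_right _ (inv_mem (B_le_par _ hxB)),
      Subgroup.mul_mem_cancel_left _ (B_le_par _ hxB), ← hJK]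
    exact Subgroup.mem_map_iff_mem θ.injective
  have hneg : ∀ g : ↥Y.G₁, (θ₁ g : GL D.Idx F) ∈ Y.Xm K ↔ (g : GL D.Idx F) ∈ Y.Xm J := fun g => by
    rw [← Y.inPar_V_iff hK, ← Y.inPar_V_iff hJ, hP, hV]
  have hcm : ∀ L ∈ Y.W.Jw, Nat.card {g : ↥Y.G₁ // (g : GL D.Idx F) ∈ Y.Xm L} =
      Nat.card ↥(Y.X L) := fun L hL => by
    refine Eq.trans (Nat.card_congr (Subgroup.subgroupOfEquivOfLe (H := Y.Xm L) (K := Y.G₁)
      fun z hz => Y.V₁_le (Y.Xm_le_V₁ hL hz)).toEquiv) ?_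
    exact Subgroup.card_map_of_injective (MulAut.conj _).injective
  rw [← hcm J hJ, ← hcm K hK]
  exact Nat.card_congr (θ₁.toEquiv.subtypeEquiv fun g => (hneg g).symm)

include hi htop in
theorem verdict_twist {J K : List ℕ} (hJ : J ∈ Y.W.Jw) (hK : K ∈ Y.W.Jw)
    (hne : c.T.invT J ≠ c.T.invT K) : Verdict p ↥Y.G₁ := by
  refine verdict_distinct (twist_split Y) (s := orb Y hJ) (t := orb Y hK) fun a ha e => hne ?_
  have h := congrArg (· ^ Y.e) (card_X_eq Y hi htop ha hJ hK e p)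
  have key : ∀ L ∈ Y.W.Jw, Nat.card ↥(Y.X L) ^ Y.e = Nat.card F ^ c.T.invT L := by
    intro L hL
    obtain ⟨-, hlt, hC, -⟩ := Y.W.J_spec hL
    haveI : Finite (c.invSet L) :=
      Set.Finite.to_subtype ((Set.finite_Iio D.nroots).subset fun r hr => hr.1.2)
    have hcard := (Y.G.card_fix_KS Y.lifts (c.invSet_closed hlt) (Twist.Datum.invSet_stable hlt hC)).2
    rwa [c.invSet_card, ← c.invT_eq hlt] at hcard
  simp only [key J hJ, key K hK] at h
  exact Nat.pow_right_injective Finite.one_lt_card h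

variable {K : Type*} [Field K] [Fintype K] [CharP K p] (f : K →+* K) {q : ℕ} (hf : ∀ t, f t = t ^ q)

include hf in
theorem verdict_twist_d4 (hK : Fintype.card K = q ^ 3) : Verdict p ↥(D4.datum f hf hK).G₁ := by
  obtain ⟨h1, -, -, v1, v2, -⟩ := D4.top_values
  simp only [List.all_eq_true, List.mem_range, Nat.blt_eq] at h1
  refine verdict_twist (D4.datum f hf hK) (i := 11) (show (11 : ℕ) < 12 by decide)
    (fun r hr hpos => ?_) (J := [1]) (K := [0, 2, 3])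
    (show _ ∈ orbitsD4 by decide) (show _ ∈ orbitsD4 by decide) (by rw [v1, v2]; decide)
  rw [show (D4.datum f hf hK).W.wd 11 = flatW orbitsD4 (twistD4Reps.get 11).word from rfl] at hpos
  have := h1 r hr
  rw [certFullD4.wlT_eq, ← certFullD4.simple_eq hr] at this
  exact absurd hpos.1 (by show ¬ 12 ≤ _; omega)

include hf in
theorem verdict_twist_e6 (hK : Fintype.card K = q ^ 2) : Verdict p ↥(E6.datum f hf hK).G₁ := by
  obtain ⟨h1, -, -, hv, -⟩ := E6.top_values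
  simp only [List.all_eq_true, List.mem_range, Nat.blt_eq] at h1
  simp only [orbitsE6, List.map_cons, List.map_nil, List.cons.injEq, and_true] at hv
  refine verdict_twist (E6.datum f hf hK) (i := 1151) (show (1151 : ℕ) < 1152 by decide)
    (fun r hr hpos => ?_) (J := [1]) (K := [2, 4])
    (show _ ∈ orbitsE6 by decide) (show _ ∈ orbitsE6 by decide) (by rw [hv.1, hv.2.2.1]; decide)
  rw [show (E6.datum f hf hK).W.wd 1151 = flatW orbitsE6 (twistE6Reps.get 1151).word from rfl] at hpos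
  have := h1 r hr
  rw [certFullE6.wlT_eq, ← certFullE6.simple_eq hr] at this
  exact absurd hpos.1 (by show ¬ 36 ≤ _; omega)

theorem verdict_twist_f4 {K : Type*} [Field K] [Fintype K] [CharP K 2] (f : K →+* K) {m : ℕ}
    (hf : ∀ t, f t = t ^ (2 ^ m)) (hK : Fintype.card K = 2 ^ (2 * m + 1)) :
    Verdict 2 ↥(F4.datum f hf hK).G₁ := by
  haveI : Fact (Nat.Prime 2) := ⟨Nat.prime_two⟩
  obtain ⟨h1, -, -, hv, -⟩ := F4.out_values
  simp only [List.all_eq_true, List.mem_range, Nat.blt_eq] at h1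
  simp only [orbitsF4, List.map_cons, List.map_nil, List.cons.injEq, and_true] at hv
  refine verdict_twist (F4.datum f hf hK) (i := 15) (show (15 : ℕ) < 16 by decide)
    (fun r hr hpos => ?_) (F4.jA_mem f hf hK) (F4.jB_mem f hf hK) (by rw [hv.1, hv.2]; decide)
  rw [show (F4.datum f hf hK).W.wd 15 = flatW orbitsF4 (twistF4Reps.get 15).word from rfl] at hpos
  have := h1 r hr
  rw [certFullF4.wlT_eq, ← certFullF4.simple_eq hr] at this
  exact absurd hpos.1 (by show ¬ 24 ≤ _; omega)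

end Cfsg.Agent.Lie.PMin
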