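import Cfsg.Agent.Lib.Lie.PMin.Two
import Cfsg.Agent.Lib.Lie.PMin.Twist
import Cfsg.Agent.Lib.Lie.Over.Special
import Cfsg.Agent.Lib.Lie.Chev.TwistG2

/-!
Suzuki and Ree groups.
-/

set_option autoImplicit false
set_option maxRecDepth 20000

namespace Cfsg.Agent.Lie.PMin

open Cfsg Cfsg.Lie Cfsg.Agent.Lie Cfsg.Agent.Lie.Chev Cfsg.Agent.Lie.Over

theorem verdict_sz {F : Type} [Field F] [Fintype F] {m : ℕ} (hS : Suz.SzField F m)
    (hr : IsLieRankOneChar 2 ↥(Cfsg.Sz F m)) : Verdict 2 ↥(Cfsg.Sz F m) := by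
  haveI : Fact (Nat.Prime 2) := ⟨Nat.prime_two⟩
  refine verdict_one (Suz.sylowU hS) (P := Suz.borel m F) (fun H hH hne => ?_)
    (Suz.borel_le_normalizer hS) ?_ hr
  · by_contra hle
    exact hne (Suz.map_conj_le_of_le hS hH hle)
  · rw [Suz.coe_sylowU, Suz.normalizer_unip hS]
    exact Suz.borel_ne_top hS

theorem verdict_isoSuzuki {K : Type*} [Group K] [Finite K] (h : Lie.IsoSuzuki K) : Verdict 2 K := by
  haveI : Fact (Nat.Prime 2) := ⟨Nat.prime_two⟩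
  obtain ⟨F, i1, i2, m, hm, hcard, ⟨e⟩⟩ := h
  refine Verdict.of_equiv (e.trans (Suz.szEquiv ⟨hm, hcard⟩).symm) (verdict_sz ⟨hm, hcard⟩ ?_)
  exact Or.inr (Or.inr (Or.inl ⟨rfl, F, i1, i2, m, hm, hcard, ⟨Suz.szEquiv ⟨hm, hcard⟩⟩⟩))

theorem verdict_ree {F : Type} [Field F] [Fintype F] [CharP F 3] {m : ℕ} (hm : 1 ≤ m)
    (hK : Fintype.card F = 3 ^ (2 * m + 1)) : Verdict 3 ↥(twistedG2 F (3 ^ m)) := by
  haveI : Fact (Nat.Prime 3) := ⟨Nat.prime_three⟩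
  obtain ⟨_, _, f, hf⟩ := exists_isoFrob Nat.prime_three hK
  haveI : IsSimpleGroup ↥(G2.datum f hf hK).G₁ := (G2.simple f hf hK hm).1
  obtain ⟨J, hJ⟩ := List.exists_mem_of_ne_nil (G2.datum f hf hK).W.Jw (by show orbitsG2 ≠ []; decide)
  exact verdict_rankOne (P := (G2.datum f hf hK).bnPair) (twist_split (G2.datum f hf hK))
    ⟨_, (orb (G2.datum f hf hK) hJ).2⟩
    (Or.inr (Or.inr (Or.inr ⟨rfl, Or.inl ⟨F, _, ‹_›, m, hm, hK, ⟨MulEquiv.refl _⟩⟩⟩)))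

end Cfsg.Agent.Lie.PMin
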