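import Cfsg.Agent.Lib.Lie.PMin.Two
import Cfsg.Agent.Lib.Lie.Over.InnerTits

/-!
The Tits group in characteristic two: two subgroups invariant under the automorphisms fixing a Sylow
subgroup generate.
-/

set_option autoImplicit false
set_option linter.style.haveILetI false
set_option maxRecDepth 4000
set_option maxHeartbeats 400000

namespace Cfsg.Agent.Lie.PMin

open Cfsg.Lie Cfsg.Agent.Lie Cfsg.Agent.Lie.Chev Cfsg.Agent.Lie.Chev.F4Two Cfsg.Agent.Lie.Over
open Cfsg.Agent.Lie.Over.InnerTits

/-- Witnesses that an element has more than two conjugates. -/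
def titsWit : List ((List ℕ × ℕ) × (List ℕ × ℕ) × ℕ) :=
  [(([4], 0), ([1, 5], 0), 0), (([12], 0), ([2, 7], 0), 0), (([0], 1), ([1, 2], 1), 1),
    (([4], 0), ([8], 0), 1), (([1, 2], 0), ([1, 7], 0), 0)]

/-- The two words do not commute, as seen in one column. -/
def sep (s p : List ℕ) (j : ℕ) : Bool :=
  Nat.blt j 52 && !Nat.beq (wcol (s.flatMap W ++ p.flatMap W) j) (wcol (p.flatMap W ++ s.flatMap W) j)

/-- A usable test word. -/
def evenWord (p : List ℕ) : Bool := (p.all fun k => Nat.blt k 24) && !chiBit (p.flatMap W)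

theorem checkWit_ok : ((titsWit.all fun t => evenWord t.1.1 && evenWord t.2.1.1) && evenWord [0] &&
    basis.sublists.all fun s => chiBit (s.flatMap W) ||
      (([[], [20], [16], [16, 20]] : List (List ℕ)).contains s ||
        titsWit.any fun t => sep s t.1.1 t.1.2 && sep s t.2.1.1 t.2.1.2 &&
          sep s (t.1.1 ++ t.2.1.1) t.2.2) &&
      (([[], [20]] : List (List ℕ)).contains s || sep s [0] 0 ||
        titsWit.any fun t => sep s t.1.1 t.1.2)) = true := by
  decide +kernel

theorem chi_emb {v : TitsGroup} (hv : emb v ∈ genSub) : chi (emb v) = 0 := by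
  obtain ⟨F, hker, -, hF⟩ := exists_parity'
  have h2 : F (v : G₂) = 1 := by rw [← MonoidHom.mem_ker, hker]; exact v.2
  replace h2 : Multiplicative.ofAdd (chi (emb v)) = 1 := (hF (v : G₂) hv).symm.trans h2
  exact Multiplicative.ofAdd.injective h2

theorem exists_of_evenWord {p : List ℕ} (h : evenWord p = true) :
    ∃ v : TitsGroup, emb v = wd (p.flatMap W) ∧ emb v ∈ genSub := by
  simp only [evenWord, Bool.and_eq_true, List.all_eq_true, Nat.blt_eq, Bool.not_eq_true'] at h
  obtain ⟨hm, hr⟩ := chi_flat p h.1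
  obtain ⟨v, hv⟩ := exists_tits_of_genSub hm (by rw [chi_wd hr, h.2]; rfl)
  exact ⟨v, hv, by rw [show emb v = _ from hv]; exact hm⟩

theorem not_commute_of_sep {s p : List ℕ} {j : ℕ} (hs : ∀ k ∈ s, k < 24) (hp : ∀ k ∈ p, k < 24)
    (h : sep s p j = true) {x v : TitsGroup} (hx : emb x = wd (s.flatMap W))
    (hv : emb v = wd (p.flatMap W)) : x * v ≠ v * x := by
  intro e
  simp only [sep, Bool.and_eq_true, Nat.blt_eq, Bool.not_eq_true'] at h
  obtain ⟨hj, hne⟩ := h
  have h2 := congrArg emb e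
  rw [map_mul, map_mul, hx, hv, ← wd_append, ← wd_append] at h2
  have hsr := (chi_flat s hs).2
  have hpr := (chi_flat p hp).2
  have h3 := wcol_congr (fun r hr => (List.mem_append.1 hr).elim (hsr r) (hpr r))
    (fun r hr => (List.mem_append.1 hr).elim (hpr r) (hsr r)) hj h2
  rw [h3, Nat.beq_refl] at hne
  exact Bool.noConfusion hne

/-- The Sylow subgroup. -/
noncomputable def titsU : Subgroup TitsGroup := genSub.comap emb

theorem basis_lt : ∀ k ∈ basis, k < 24 := by simp [basis]

theorem exists_form {x : TitsGroup} (hx : x ∈ titsU) :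
    ∃ l : List ℕ, (∀ k ∈ l, k < 24) ∧ emb x = wd (l.flatMap W) ∧
      l.Sublist basis ∧ chiBit (l.flatMap W) = false := by
  obtain ⟨l, hl, el⟩ := genSub_subset_forms (show emb x ∈ genSub from hx)
  have hl24 : ∀ k ∈ l, k < 24 := fun k hk => basis_lt k (hl.subset hk)
  refine ⟨l, hl24, el, hl, ?_⟩
  have h1 := chi_emb (show emb x ∈ genSub from hx)
  rw [el, chi_wd (chi_flat l hl24).2] at h1
  cases hb : chiBit (l.flatMap W)
  · rfl
  · rw [hb, if_pos rfl] at h1
    exact absurd h1 one_ne_zero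

theorem evenWord_lt {p : List ℕ} (hp : evenWord p = true) : ∀ k ∈ p, k < 24 := by
  simp only [evenWord, Bool.and_eq_true, List.all_eq_true, Nat.blt_eq] at hp
  exact hp.1

theorem wit_facts : ((∀ q ∈ titsWit, evenWord q.1.1 = true ∧ evenWord q.2.1.1 = true) ∧
    evenWord [0] = true) ∧ ∀ s ∈ basis.sublists, chiBit (s.flatMap W) = true ∨
      (s ∈ ([[], [20], [16], [16, 20]] : List (List ℕ)) ∨
        ∃ t ∈ titsWit, (sep s t.1.1 t.1.2 = true ∧ sep s t.2.1.1 t.2.1.2 = true) ∧
          sep s (t.1.1 ++ t.2.1.1) t.2.2 = true) ∧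
      ((s ∈ ([[], [20]] : List (List ℕ)) ∨ sep s [0] 0 = true) ∨
        ∃ t ∈ titsWit, sep s t.1.1 t.1.2 = true) := by
  have hck := checkWit_ok
  simp only [Bool.and_eq_true, List.all_eq_true, Bool.or_eq_true, List.any_eq_true,
    List.contains_iff_mem] at hck
  exact hck

theorem titsU_small {z w x : TitsGroup} (hz : emb z = wd (W 20)) (hw : emb w = wd (W 16))
    (hx : x ∈ titsU) (hsm : ∀ u ∈ titsU, ∀ v ∈ titsU,
      x * u ≠ u * x → x * v ≠ v * x → x * (u * v) = (u * v) * x) :
    x = 1 ∨ x = z ∨ x = w ∨ x = w * z := by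
  obtain ⟨l, hl, el, hls, hchi⟩ := exists_form hx
  obtain ⟨⟨hwit, -⟩, hall⟩ := wit_facts
  rcases hall l (List.mem_sublists.2 hls) with h | ⟨hV4, -⟩
  · rw [hchi] at h; exact Bool.noConfusion h
  rcases hV4 with h | ⟨q, hq, ⟨h1, h2⟩, h3⟩
  · simp only [List.mem_cons, List.not_mem_nil, or_false] at h
    rcases h with rfl | rfl | rfl | rfl
    · exact Or.inl (emb_inj (by rw [el, map_one, List.flatMap_nil, wd_nil]))
    · exact Or.inr (Or.inl (emb_inj (by
        rw [el, hz, List.flatMap_cons, List.flatMap_nil, List.append_nil])))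
    · exact Or.inr (Or.inr (Or.inl (emb_inj (by
        rw [el, hw, List.flatMap_cons, List.flatMap_nil, List.append_nil]))))
    · refine Or.inr (Or.inr (Or.inr (emb_inj ?_)))
      rw [el, map_mul, hw, hz, List.flatMap_cons, List.flatMap_cons, List.flatMap_nil,
        List.append_nil, wd_append]
  · obtain ⟨hp1, hp2⟩ := hwit q hq
    obtain ⟨u, hu, huU⟩ := exists_of_evenWord hp1
    obtain ⟨v, hv, hvU⟩ := exists_of_evenWord hp2
    refine absurd (hsm u huU v hvU (not_commute_of_sep hl (evenWord_lt hp1) h1 el hu)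
      (not_commute_of_sep hl (evenWord_lt hp2) h2 el hv))
      (not_commute_of_sep hl (fun k hk => (List.mem_append.1 hk).elim (evenWord_lt hp1 k)
        (evenWord_lt hp2 k)) h3 el ?_)
    rw [map_mul, hu, hv, List.flatMap_append, wd_append]

theorem titsU_center {z x : TitsGroup} (hz : emb z = wd (W 20)) (hx : x ∈ titsU)
    (hxc : ∀ u ∈ titsU, x * u = u * x) (hx1 : x ≠ 1) : x = z := by
  obtain ⟨l, hl, el, hls, hchi⟩ := exists_form hx
  obtain ⟨⟨hwit, hzero⟩, hall⟩ := wit_facts
  rcases hall l (List.mem_sublists.2 hls) with h | ⟨-, hZ2⟩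
  · rw [hchi] at h; exact Bool.noConfusion h
  rcases hZ2 with (h | h) | ⟨q, hq, h⟩
  · simp only [List.mem_cons, List.not_mem_nil, or_false] at h
    rcases h with rfl | rfl
    · exact absurd (emb_inj (by rw [el, map_one, List.flatMap_nil, wd_nil])) hx1
    · exact emb_inj (by rw [el, hz, List.flatMap_cons, List.flatMap_nil, List.append_nil])
  · obtain ⟨u, hu, huU⟩ := exists_of_evenWord hzero
    exact absurd (hxc u huU) (not_commute_of_sep hl (evenWord_lt hzero) h el hu)
  · obtain ⟨u, hu, huU⟩ := exists_of_evenWord (hwit q hq).1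
    exact absurd (hxc u huU) (not_commute_of_sep hl (evenWord_lt (hwit q hq).1) h el hu)

theorem card_titsU : Nat.card titsU = 2 ^ 11 := by
  have h1 : Nat.card titsU ∣ 2 ^ 12 := by
    rw [← card_U₂, ← Subgroup.card_map_of_injective (commutator G₂).subtype_injective]
    exact Subgroup.card_dvd_of_le (fun g ⟨v, hv, e⟩ => e ▸ hv)
  have h2 : Nat.card titsU ∣ 2 ^ 11 * 8775 := card_derived ▸ Subgroup.card_subgroup_dvd_card titsU
  have h3 : Nat.card titsU ∣ 2 ^ 11 := (Nat.dvd_gcd h1 h2).trans (by norm_num)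
  have hmap : titsU.map (commutator G₂).subtype = U₂ ⊓ commutator G₂ := by
    refine le_antisymm (fun g ⟨v, hv, e⟩ => e ▸ ⟨hv, v.2⟩) fun g hg => ⟨⟨g, hg.2⟩, hg.1, rfl⟩
  have h4 : Nat.card U₂ ≤ 2 * Nat.card titsU := by
    rw [← Subgroup.card_map_of_injective (commutator G₂).subtype_injective, hmap]
    have h5 := (commutator G₂).relIndex_dvd_index_of_normal U₂
    rw [index_derived] at h5
    have h6 := Nat.le_of_dvd (by norm_num) h5
    rw [← (((commutator G₂).subgroupOf U₂)).card_mul_index, Subgroup.subgroupOf,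
      ← Subgroup.subgroupOf, mul_comm]
    refine Nat.mul_le_mul h6 (le_of_eq ?_)
    rw [← Subgroup.card_map_of_injective U₂.subtype_injective, Subgroup.subgroupOf_map_subtype,
      inf_comm]
  rw [card_U₂] at h4
  obtain ⟨k, hk, e⟩ := (Nat.dvd_prime_pow Nat.prime_two).1 h3
  rw [e] at h4 ⊢
  by_contra hne'
  have : k ≤ 10 := by
    by_contra h'
    exact hne' (by rw [show k = 11 by omega])
  have := Nat.pow_le_pow_right (n := 2) (by norm_num) this
  norm_num at h4 this
  omega

theorem verdict_tits : Verdict 2 TitsGroup := by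
  haveI : Fact (Nat.Prime 2) := ⟨Nat.prime_two⟩
  haveI : IsSimpleGroup TitsGroup := derived_simple
  have h := checkWords_ok
  simp only [checkWords, Bool.and_eq_true, List.all_eq_true, List.mem_range, Bool.not_eq_true'] at h
  obtain ⟨⟨⟨⟨⟨⟨⟨⟨⟨⟨⟨-, -⟩, hz20⟩, -⟩, -⟩, hsz⟩, -⟩, -⟩, -⟩, hA3⟩, hB9⟩,
    ⟨⟨⟨⟨⟨⟨⟨-, -⟩, -⟩, c4⟩, c9⟩, c16⟩, c20⟩, -⟩⟩ := h
  have h' := checkMisc_ok
  simp only [checkMisc, Bool.and_eq_true, List.all_eq_true, List.mem_range, Bool.not_eq_true'] at h'
  obtain ⟨⟨⟨⟨⟨⟨⟨⟨⟨hA16, hB16⟩, hB20⟩, h16s⟩, h20s⟩, hne1⟩, hne2⟩, hne⟩, -⟩, -⟩ := h'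
  have h0 := checkReps_ok
  simp only [checkReps, List.all_eq_true, Bool.and_eq_true] at h0
  have hnn : ∀ x, wd (nd x) * wd (nd x) = 1 := fun x => by
    rw [← wd_append, ← wd_nil]
    exact wd_eq_of_eqv (h0 x (by cases x <;> simp)).1
  have hW : ∀ k, k < 24 → wd (W k) ∈ genSub := fun k hk => mem_genSub_of_gen hk
  obtain ⟨z, hz⟩ := exists_tits_of_genSub (hW 20 (by norm_num)) (W_chi (by norm_num) false c20)
  obtain ⟨w, hw⟩ := exists_tits_of_genSub (hW 16 (by norm_num)) (W_chi (by norm_num) false c16)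
  replace hz : emb z = wd (W 20) := hz
  replace hw : emb w = wd (W 16) := hw
  obtain ⟨s, hs⟩ := node_tits checkNode_ok.1 3 4 (by norm_num) (by norm_num) c4 hA3
  obtain ⟨t, ht⟩ := node_tits checkNode_ok.2 9 9 (by norm_num) (by norm_num) c9 hB9
  replace hs : emb s = wd (nd true) := hs
  replace ht : emb t = wd (nd false) := ht
  have hzU : z ∈ titsU := by show emb z ∈ genSub; rw [hz]; exact hW 20 (by norm_num)
  have hwU : w ∈ titsU := by show emb w ∈ genSub; rw [hw]; exact hW 16 (by norm_num)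
  have hcz : ∀ v ∈ titsU, v * z = z * v := fun v hv => emb_inj (by
    rw [map_mul, map_mul, hz]; exact (cent20 (show emb v ∈ genSub from hv)).eq)
  have hz2 : z * z = 1 := emb_inj (by rw [map_mul, hz, ← wd_append, wd_eq_of_eqv h20s, wd_nil, map_one])
  have hw2 : w * w = 1 := emb_inj (by rw [map_mul, hw, ← wd_append, wd_eq_of_eqv h16s, wd_nil, map_one])
  have hzne : z ≠ 1 := fun e => nz_sound (W_lt (by norm_num)) hz20 (by rw [← hz, e, map_one])
  have hzw : z ≠ w := fun e => by
    refine nz_sound ?_ hne ?_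
    · exact fun r hr => (List.mem_append.1 hr).elim (W_lt (by norm_num) r) (W_lt (by norm_num) r)
    · rw [wd_append, ← hz, ← hw, ← map_mul, e, hw2, map_one]
  have hsz' : s * z = z * s := emb_inj (by
    rw [map_mul, map_mul, hs, hz, ← wd_append, ← wd_append]; exact wd_eq_of_eqv hsz)
  have hss : s * s = 1 := emb_inj (by rw [map_mul, hs, hnn, map_one])
  have htt : t * t = 1 := emb_inj (by rw [map_mul, ht, hnn, map_one])
  have htz : t * z * t = w := emb_inj (by
    rw [map_mul, map_mul, ht, hz, hw, ← wd_append, ← wd_append]; exact wd_eq_of_eqv hB20)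
  have htw : t * w * t = z := emb_inj (by
    rw [map_mul, map_mul, ht, hz, hw, ← wd_append, ← wd_append]; exact wd_eq_of_eqv hB16)
  have hsw : emb (s * w * s) = wd (W 12) := by
    rw [map_mul, map_mul, hs, hw, ← wd_append, ← wd_append]; exact wd_eq_of_eqv hA16
  -- the four-group
  set V : Set TitsGroup := {1, z, w, w * z} with hV
  have hVU : ∀ x ∈ V, x ∈ titsU := by
    rintro x (rfl | rfl | rfl | rfl)
    exacts [one_mem _, hzU, hwU, mul_mem hwU hzU]
  have hclass : ∀ u ∈ titsU, u * w * u⁻¹ = w ∨ u * w * u⁻¹ = w * z := fun u hu =>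
    (class16 (show emb u ∈ genSub from hu)).2.imp
      (fun e => emb_inj (by rw [map_mul, map_mul, map_inv, hw]; exact e))
      (fun e => emb_inj (by rw [map_mul, map_mul, map_inv, map_mul, hw, hz]; exact e))
  have hsmall : ∀ x, x ∈ V ↔ x ∈ titsU ∧ ∀ u ∈ titsU, ∀ v ∈ titsU,
      x * u ≠ u * x → x * v ≠ v * x → x * (u * v) = (u * v) * x := by
    intro x
    refine ⟨fun hx => ⟨hVU x hx, fun u hu v hv hxu hxv => ?_⟩, fun ⟨hx, hsm⟩ => ?_⟩
    · have key : ∀ y, (y = w ∨ y = w * z) → ∀ g ∈ titsU, y * g ≠ g * y → g * y * g⁻¹ = y * z := by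
        intro y hy g hg hne'
        have hgz : g * z * g⁻¹ = z := by rw [hcz g hg, mul_inv_cancel_right]
        have hy' : g * y * g⁻¹ = y ∨ g * y * g⁻¹ = y * z := by
          rcases hy with rfl | rfl
          · exact hclass g hg
          · rw [show g * (w * z) * g⁻¹ = g * w * g⁻¹ * (g * z * g⁻¹) by group, hgz]
            exact (hclass g hg).imp (fun e => by rw [e]) fun e => by rw [e]
        exact hy'.resolve_left fun e => hne' (mul_inv_eq_iff_eq_mul.1 e).symm
      rcases hx with rfl | rfl | hx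
      · exact absurd (by simp) hxu
      · exact absurd (hcz u hu).symm hxu
      · have h1 := key x hx u hu hxu
        have h2 := key x hx v hv hxv
        symm
        rw [← mul_inv_eq_iff_eq_mul]
        calc u * v * x * (u * v)⁻¹ = u * (v * x * v⁻¹) * u⁻¹ := by group
          _ = u * x * u⁻¹ * (u * z * u⁻¹) := by rw [h2]; group
          _ = x * z * z := by rw [h1, hcz u hu, mul_inv_cancel_right]
          _ = x := by rw [mul_assoc, hz2, mul_one]
    · exact titsU_small hz hw hx hsm
  have hcen : ∀ x ∈ titsU, (∀ u ∈ titsU, x * u = u * x) → x ≠ 1 → x = z := fun x hx =>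
    titsU_center hz hx
  -- a Sylow subgroup
  have hcard : Nat.card titsU = 2 ^ 11 := card_titsU
  let U : Sylow 2 TitsGroup := (IsPGroup.of_card hcard).toSylow (by
    intro hd
    have hm := titsU.card_mul_index
    rw [hcard, card_derived] at hm
    have := Nat.eq_of_mul_eq_mul_left (by norm_num) hm
    rw [this] at hd
    norm_num at hd)
  set P : Subgroup TitsGroup := Subgroup.centralizer {z} with hP
  set Q : Subgroup TitsGroup := Subgroup.normalizer V with hQ
  have hPm : ∀ g, g ∈ P ↔ g * z = z * g := fun g => by rw [hP, Subgroup.mem_centralizer_singleton_iff]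
  have hfin : V.Finite := Set.toFinite V
  have hQm : ∀ g, (∀ x ∈ V, g * x * g⁻¹ ∈ V) → g ∈ Q := fun g hg =>
    Subgroup.mem_set_normalizer_iff.2 fun x => ⟨hg x, fun hx => by
      have hbij : V.BijOn (fun y => g * y * g⁻¹) V :=
        ⟨hg, fun a _ b _ e => mul_left_cancel (mul_right_cancel e),
          ((Set.Finite.injOn_iff_bijOn_of_mapsTo hfin hg).1
            (fun a _ b _ e => mul_left_cancel (mul_right_cancel e))).surjOn⟩
      obtain ⟨y, hy, e⟩ := hbij.surjOn hx
      rwa [← mul_left_cancel (mul_right_cancel e)]⟩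
  have hUP : (titsU : Subgroup TitsGroup) ≤ P := fun v hv => (hPm v).2 (hcz v hv)
  have hUQ : (titsU : Subgroup TitsGroup) ≤ Q := fun v hv => hQm v fun x hx => by
    have hvz : v * z * v⁻¹ = z := by rw [hcz v hv, mul_inv_cancel_right]
    rcases hx with rfl | rfl | rfl | rfl
    · simp [hV]
    · rw [hvz]; simp [hV]
    · rcases hclass v hv with e | e <;> rw [e] <;> simp [hV]
    · rw [show v * (w * z) * v⁻¹ = v * w * v⁻¹ * (v * z * v⁻¹) by group, hvz]
      rcases hclass v hv with e | e <;> rw [e]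
      · simp [hV]
      · rw [mul_assoc w, hz2, mul_one]; simp [hV]
  have hsP : s ∈ P := (hPm s).2 hsz'
  have hti : t⁻¹ = t := inv_eq_of_mul_eq_one_right htt
  have htQ : t ∈ Q := hQm t fun x hx => by
    rcases hx with rfl | rfl | rfl | rfl
    · simp [hV]
    · rw [hti, htz]; simp [hV]
    · rw [hti, htw]; simp [hV]
    · rw [show t * (w * z) * t⁻¹ = t * w * t⁻¹ * (t * z * t⁻¹) by group, hti, htz, htw,
        (hcz w hwU).symm]
      simp [hV]
  have hPt : P ≠ ⊤ := fun h => hzw (by
    have h1 : t * z = z * t := (hPm t).1 ((SetLike.ext_iff.1 h t).2 (Subgroup.mem_top t))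
    rw [← htz, h1, mul_assoc, htt, mul_one])
  have hwV : w ∈ V := Or.inr (Or.inr (Or.inl rfl))
  have hsi : s⁻¹ = s := inv_eq_of_mul_eq_one_right hss
  have hconj : ∀ g g', g ∈ Q → g⁻¹ = g' →
      g * w * g' = 1 ∨ g * w * g' = z ∨ g * w * g' = w ∨ g * w * g' = w * z := fun g g' hg e => by
    subst e
    exact (Subgroup.mem_set_normalizer_iff.1 hg w).1 hwV
  have hQt : Q ≠ ⊤ := fun h => by
    have hmem := hconj s s (by rw [h]; exact Subgroup.mem_top s) hsi
    rcases hmem with e | e | e | e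
    · have : w = 1 := by
        have h2 : s * (s * w * s) * s = s * 1 * s := by rw [e]
        rwa [show s * (s * w * s) * s = (s * s) * w * (s * s) by group, hss, one_mul, mul_one,
          mul_one, hss] at h2
      exact hzne (by rw [← htw, this, mul_one, htt])
    · refine hzw ?_
      have h2 : s * (s * w * s) * s = s * z * s := by rw [e]
      rw [show s * (s * w * s) * s = (s * s) * w * (s * s) by group, hss, one_mul, mul_one,
        hsz', mul_assoc, hss, mul_one] at h2
      exact h2.symm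
    · refine absurd ?_ (nz_sound ?_ hne1)
      · rw [wd_append, ← hsw, ← hw, ← map_mul, e, hw2, map_one]
      · exact fun r hr => (List.mem_append.1 hr).elim (W_lt (by norm_num) r) (W_lt (by norm_num) r)
    · refine absurd ?_ (nz_sound ?_ hne2)
      · rw [wd_append, wd_append, ← hsw, ← hw, ← hz, ← map_mul, ← map_mul, e,
          mul_assoc (w * z), show w * z * (w * z) = w * (z * w) * z by group, ← hcz w hwU,
          show w * (w * z) * z = w * w * (z * z) by group, hw2, hz2, mul_one, map_one]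
      · intro r hr
        simp only [List.mem_append] at hr
        rcases hr with (h | h) | h <;> exact W_lt (by norm_num) r h
  refine verdict_stable U (P := P) (Q := Q) ?_ hUP hUQ hPt hQt ?_ fun a ha => ?_
  · intro htop
    haveI : (U : Subgroup TitsGroup).Normal := Subgroup.normalizer_eq_top_iff.1 htop
    rcases Subgroup.Normal.eq_bot_or_eq_top (H := (U : Subgroup TitsGroup)) inferInstance with h | h
    · have : Nat.card titsU = 1 := by
        rw [show titsU = ⊥ from h, Subgroup.card_bot]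
      rw [hcard] at this
      norm_num at this
    · exact hPt (top_le_iff.1 (h ▸ (hUP : (U : Subgroup TitsGroup) ≤ P)))
  · refine gen_top _ (fun v hv => Subgroup.mem_sup_left (hUP hv)) fun x => ?_
    cases x
    · exact ⟨t, Subgroup.mem_sup_right htQ, ht⟩
    · exact ⟨s, Subgroup.mem_sup_left hsP, hs⟩
  · have hTa : ∀ {x : TitsGroup}, a x ∈ titsU ↔ x ∈ titsU := fun {x} => by
      conv_lhs => rw [show titsU = titsU.map a.toMonoidHom from ha.symm]
      exact Subgroup.mem_map_iff_mem a.injective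
    have haz : a z = z := by
      refine hcen _ (hTa.2 hzU) (fun u hu => ?_) fun e => hzne (a.injective (e.trans (map_one a).symm))
      obtain ⟨u, rfl⟩ := a.surjective u
      rw [← map_mul, ← map_mul, hcz u (hTa.1 hu)]
    have haV : ∀ {x}, a x ∈ V ↔ x ∈ V := by
      intro x
      rw [hsmall, hsmall, hTa]
      refine and_congr_right fun _ => ⟨fun h u hu v hv hxu hxv => a.injective ?_,
        fun h u hu v hv hxu hxv => ?_⟩
      · rw [map_mul, map_mul a (u * v), map_mul]
        exact h _ (hTa.2 hu) _ (hTa.2 hv)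
          (by rw [← map_mul, ← map_mul]; exact fun e => hxu (a.injective e))
          (by rw [← map_mul, ← map_mul]; exact fun e => hxv (a.injective e))
      · obtain ⟨u, rfl⟩ := a.surjective u
        obtain ⟨v, rfl⟩ := a.surjective v
        rw [← map_mul, ← map_mul, ← map_mul]
        exact congrArg a (h u (hTa.1 hu) v (hTa.1 hv)
          (fun e => hxu (by rw [← map_mul, e, map_mul])) (fun e => hxv (by rw [← map_mul, e, map_mul])))
    refine ⟨fun g hg => (hPm _).2 ?_, fun g hg => ?_⟩
    · rw [← haz, ← map_mul, ← map_mul, (hPm g).1 hg]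
    · refine Subgroup.mem_set_normalizer_iff.2 fun y => ?_
      obtain ⟨y, rfl⟩ := a.surjective y
      rw [← map_inv, ← map_mul, ← map_mul, haV, haV]
      exact Subgroup.mem_set_normalizer_iff.1 hg y

end Cfsg.Agent.Lie.PMin
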