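import Cfsg.Agent.Lib.Lie.PMin.Two
import Cfsg.Agent.Lib.Lie.Over.InnerU33
import Cfsg.Agent.Lib.Classical.UnitSemilinear
import Cfsg.Agent.S0280
import Cfsg.Agent.S0283

/-!
`U₃(3)` in characteristic two: the normalisers of two characteristic subgroups of a Sylow subgroup
generate.
-/

set_option autoImplicit false
set_option linter.unusedSectionVars false
set_option maxHeartbeats 1600000

namespace Cfsg.Agent.Lie.PMin

namespace U33

open Cfsg Matrix Cfsg.Agent.SpectrumPSU3Three Cfsg.Agent.PSU33 Cfsg.Agent.Lie.Over.U33Inner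

/-- The abelian subgroup of index two. -/
def abList : List ℕ := [43053283, 86106565, 258300010, 129179530, 86100005, 43059845, 129159848, 258319694, 258286890, 129153288, 86113128, 43086090, 129146730, 258293454, 43066410, 86132814]

/-- The word for the extra generator. -/
def word : List ℕ := [590499, 129172319, 590499, 129172319, 9920235]

/-- One element normalises a list. -/
def normB (g : ℕ) (L : List ℕ) : Bool :=
  L.all fun r => L.any fun r' => enM (mm (deM g) (deM r)) == enM (mm (deM r') (deM g))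

/-- Commuting codes. -/
def commB (x y : ℕ) : Bool := enM (mm (deM x) (deM y)) == enM (mm (deM y) (deM x))

theorem list_ok : ((abList.all fun a => abList.all fun b => abList.contains (enM (mm (deM a) (deM b)))) &&
    abList.contains (enM me) && (abList.all fun a => sylList.contains a) &&
    (cenList.all fun a => cenList.all fun b => cenList.contains (enM (mm (deM a) (deM b)))) &&
    cenList.contains (enM me) && abList.all okM && word.all okM) = true := by
  decide +kernel

theorem cen_iff : (sylList.all fun x => cenList.contains x == sylList.all (commB x)) = true := by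
  decide +kernel

theorem ab_iff : (sylList.all fun x => abList.contains x ==
    sylList.any fun y => commB x y && !(cenList.contains y) &&
      !(cenList.any fun z => enM (mm (deM x) (deM z)) == y)) = true := by
  decide +kernel

theorem norm_ok : ((sylList.all fun g => normB g cenList && normB g abList) &&
    (word.all fun g => normB g cenList || normB g abList) &&
    !(normB extra cenList) && !(normB extra abList) && !(normB extra sylList) &&
    enM (word.foldl (fun A k => mm A (deM k)) me) == extra) = true := by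
  decide +kernel

variable {F : Type*} [Field F] [Fintype F] [hF : Fact (Fintype.card F = 9)]

local notation "SUF" => SU 3 F 3

theorem code_of_ok {g : SUF} {n : ℕ} (hn : okM n = true) (e : code g = deM n) : enM (code g) = n := by
  simp only [okM, Bool.and_eq_true, beq_iff_eq] at hn
  rw [e, hn.2]

/-- The subgroup with a given list of codes. -/
def ofList (L : List ℕ) (hok : ∀ n ∈ L, okM n = true) (hone : enM me ∈ L)
    (hmul : ∀ a ∈ L, ∀ b ∈ L, enM (mm (deM a) (deM b)) ∈ L) : Subgroup SUF where
  carrier := {g | enM (code g) ∈ L}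
  one_mem' := by show enM (code (1 : SUF)) ∈ L; rw [code_one]; exact hone
  mul_mem' := fun {a b} ha hb => by
    show enM (code (a * b)) ∈ L
    rw [code_mul, code_self (hok _ ha), code_self (hok _ hb)]
    exact hmul _ ha _ hb
  inv_mem' := fun {a} ha => by
    have hp : ∀ k, enM (code (a ^ k)) ∈ L := by
      intro k
      induction k with
      | zero => rw [pow_zero, code_one]; exact hone
      | succ k ih =>
        rw [pow_succ, code_mul, code_self (hok _ ih), code_self (hok _ ha)]
        exact hmul _ ih _ ha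
    show enM (code a⁻¹) ∈ L
    rw [show a⁻¹ = a ^ (orderOf a - 1) from inv_eq_of_mul_eq_one_right (by
      rw [← pow_succ', Nat.sub_add_cancel (orderOf_pos a), pow_orderOf_eq_one])]
    exact hp _

theorem verdict_su33 [IsSimpleGroup SUF] : Verdict 2 SUF := by
  classical
  haveI : Fact (Nat.Prime 2) := ⟨Nat.prime_two⟩
  have hall := ok_all
  simp only [Bool.and_eq_true, List.all_eq_true] at hall
  obtain ⟨⟨⟨hS, -⟩, hZ⟩, ht0⟩ := hall
  have hcl := syl_ok
  simp only [Bool.and_eq_true, List.all_eq_true, List.contains_iff_mem, decide_eq_true_eq] at hcl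
  obtain ⟨⟨⟨hmul, hnd⟩, hone⟩, hzS⟩ := hcl
  have hl := list_ok
  simp only [Bool.and_eq_true, List.all_eq_true, List.contains_iff_mem] at hl
  obtain ⟨⟨⟨⟨⟨⟨hAm, hAo⟩, hAS⟩, hZm⟩, hZo⟩, hA⟩, hW⟩ := hl
  let T : Subgroup SUF := ofList sylList hS hone hmul
  let Zs : Subgroup SUF := ofList cenList hZ hZo hZm
  let As : Subgroup SUF := ofList abList hA hAo hAm
  choose el hel using fun k : Fin sylList.length => exists_el (F := F) (hS _ (List.get_mem sylList k))
  have helT : ∀ k, el k ∈ T := fun k => by
    show enM (code (el k)) ∈ sylList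
    rw [code_of_ok (hS _ (List.get_mem sylList k)) (hel k)]
    exact List.get_mem sylList k
  have hTcard : Nat.card T = 32 := by
    have hb : Function.Bijective (fun k => (⟨el k, helT k⟩ : T)) := by
      refine ⟨fun k l e => ?_, fun g => ?_⟩
      · have e' := congrArg (fun x : T => enM (code (x : SUF))) e
        simp only [code_of_ok (hS _ (List.get_mem sylList _)) (hel _)] at e'
        exact (List.nodup_iff_injective_get.1 hnd) e'
      · obtain ⟨k, hk⟩ := List.get_of_mem g.2
        refine ⟨k, Subtype.ext (code_inj (enM_inj ?_))⟩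
        rw [code_of_ok (hS _ (List.get_mem sylList k)) (hel k), hk]
    rw [← Nat.card_eq_of_bijective _ hb, Nat.card_fin]
    rfl
  have hTp : IsPGroup 2 T := IsPGroup.of_card (n := 5) (by rw [hTcard]; norm_num)
  let U : Sylow 2 SUF := hTp.toSylow (by
    have h1 := T.card_mul_index
    rw [hTcard, card_SU33] at h1
    omega)
  -- commuting and membership through the codes
  have hcomm : ∀ {x y : SUF}, x ∈ T → y ∈ T → (commB (enM (code x)) (enM (code y)) = true ↔ x * y = y * x) := by
    intro x y hx hy
    rw [commB, beq_iff_eq, ← code_self (hS _ hx), ← code_self (hS _ hy), ← code_mul, ← code_mul]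
    exact ⟨fun e => code_inj (enM_inj e), fun e => by rw [e]⟩
  have hall_el : ∀ n ∈ sylList, ∃ g ∈ T, enM (code g) = n := by
    intro n hn
    obtain ⟨g, hg⟩ := exists_el (F := F) (hS _ hn)
    exact ⟨g, show enM (code g) ∈ sylList by rw [code_of_ok (hS _ hn) hg]; exact hn, code_of_ok (hS _ hn) hg⟩
  have hci : ∀ x ∈ sylList, (cenList.contains x = true ↔ sylList.all (commB x) = true) := fun x hx => by
    have h := List.all_eq_true.1 cen_iff x hx
    rw [beq_iff_eq] at h
    rw [h]
  have hai : ∀ x ∈ sylList, (abList.contains x = true ↔ (sylList.any fun y => commB x y &&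
      !(cenList.contains y) && !(cenList.any fun z => enM (mm (deM x) (deM z)) == y)) = true) :=
    fun x hx => by
      have h := List.all_eq_true.1 ab_iff x hx
      rw [beq_iff_eq] at h
      rw [h]
  simp only [List.all_eq_true, List.contains_iff_mem] at hci
  simp only [List.any_eq_true, beq_iff_eq, List.contains_iff_mem,
    Bool.and_eq_true, Bool.not_eq_true', ← Bool.not_eq_true] at hai
  have hZchar : ∀ {x : SUF}, x ∈ Zs ↔ x ∈ T ∧ ∀ y ∈ T, x * y = y * x := by
    intro x
    constructor
    · intro hx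
      have hxT : x ∈ T := hzS _ hx
      exact ⟨hxT, fun y hy => (hcomm hxT hy).1 ((hci _ hxT).1 hx _ hy)⟩
    · rintro ⟨hxT, h⟩
      refine (hci _ hxT).2 fun n hn => ?_
      obtain ⟨y, hy, rfl⟩ := hall_el n hn
      exact (hcomm hxT hy).2 (h y hy)
  have hAchar : ∀ {x : SUF}, x ∈ As ↔
      x ∈ T ∧ ∃ y ∈ T, x * y = y * x ∧ y ∉ Zs ∧ ∀ z ∈ Zs, x * z ≠ y := by
    intro x
    have hspec : ∀ {x : SUF}, x ∈ T → ∀ {y : SUF}, y ∈ T → ((∀ z ∈ Zs, x * z ≠ y) ↔
        ¬ ∃ z ∈ cenList, enM (mm (deM (enM (code x))) (deM z)) = enM (code y)) := by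
      intro x hx y hy
      constructor
      · rintro h ⟨n, hn, e⟩
        obtain ⟨z, hz⟩ := exists_el (F := F) (hZ _ hn)
        refine h z (show enM (code z) ∈ cenList by rw [code_of_ok (hZ _ hn) hz]; exact hn)
          (code_inj (enM_inj ?_))
        rw [code_mul, hz, ← e, ← code_self (hS _ hx)]
      · intro h z hz e
        refine h ⟨_, hz, ?_⟩
        rw [← e, code_mul, ← code_self (hS _ hx), ← code_self (hZ _ hz)]
    constructor
    · intro hx
      have hxT : x ∈ T := hAS _ hx
      obtain ⟨n, hn, ⟨h1, h2⟩, h3⟩ := (hai _ hxT).1 hx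
      obtain ⟨y, hy, rfl⟩ := hall_el n hn
      exact ⟨hxT, y, hy, (hcomm hxT hy).1 h1, h2, (hspec hxT hy).2 h3⟩
    · rintro ⟨hxT, y, hy, h1, h2, h3⟩
      exact (hai _ hxT).2 ⟨_, hy, ⟨(hcomm hxT hy).2 h1, h2⟩, (hspec hxT hy).1 h3⟩
  -- normalisers
  have hnorm : ∀ (L : List ℕ) (hok : ∀ n ∈ L, okM n = true) (hone : enM me ∈ L)
      (hmul : ∀ a ∈ L, ∀ b ∈ L, enM (mm (deM a) (deM b)) ∈ L) (g : SUF) (n : ℕ),
      code g = deM n → (normB n L = true ↔
        g ∈ Subgroup.normalizer ((ofList (F := F) L hok hone hmul : Subgroup SUF) : Set SUF)) := by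
    intro L hok hone hmul g n hg
    simp only [normB, List.all_eq_true, List.any_eq_true, beq_iff_eq]
    constructor
    · intro h
      have hle : (ofList (F := F) L hok hone hmul).map (MulAut.conj g).toMonoidHom ≤
          ofList (F := F) L hok hone hmul := by
        rintro _ ⟨r, hr, rfl⟩
        obtain ⟨n', hn', e⟩ := h _ hr
        obtain ⟨r', hr'⟩ := exists_el (F := F) (hok _ hn')
        have e2 : g * r = r' * g := code_inj (by
          rw [code_mul, code_mul, hg, hr', code_self (hok _ hr), enM_inj e])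
        show enM (code (g * r * g⁻¹)) ∈ L
        rw [e2, mul_inv_cancel_right, code_of_ok (hok _ hn') hr']
        exact hn'
      have heq := map_eq_of_le hle
      refine Subgroup.mem_normalizer_iff.2 fun x => ⟨fun hx => hle ⟨x, hx, rfl⟩, fun hx => ?_⟩
      rw [← heq] at hx
      exact (Subgroup.mem_map_iff_mem (MulAut.conj g).injective).1 hx
    · intro h r hr
      obtain ⟨x, hx⟩ := exists_el (F := F) (hok _ hr)
      have hxm : x ∈ ofList (F := F) L hok hone hmul :=
        show enM (code x) ∈ L by rw [code_of_ok (hok _ hr) hx]; exact hr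
      have h2 := (Subgroup.mem_normalizer_iff.1 h x).1 hxm
      refine ⟨_, h2, ?_⟩
      rw [← code_self (hok _ h2), ← hx, ← hg, ← code_mul, ← code_mul, inv_mul_cancel_right]
  have hno := norm_ok
  simp only [Bool.and_eq_true, List.all_eq_true, Bool.or_eq_true, Bool.not_eq_true',
    ← Bool.not_eq_true, beq_iff_eq] at hno
  obtain ⟨⟨⟨⟨⟨hUn, hwn⟩, hZne⟩, hAne⟩, hTne⟩, hword⟩ := hno
  obtain ⟨t, ht⟩ := exists_el (F := F) ht0
  set P := Subgroup.normalizer (Zs : Set SUF)
  set Q := Subgroup.normalizer (As : Set SUF)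
  have hTP : T ≤ P := fun g hg => (hnorm _ hZ hZo hZm g _ (code_self (hS _ hg))).1 (hUn _ hg).1
  have hTQ : T ≤ Q := fun g hg => (hnorm _ hA hAo hAm g _ (code_self (hS _ hg))).1 (hUn _ hg).2
  refine verdict_stable U (P := P) (Q := Q) ?_ hTP hTQ ?_ ?_ ?_ fun a ha => ?_
  · exact fun h => hTne ((hnorm _ hS hone hmul t _ ht).2 (h ▸ Subgroup.mem_top t))
  · exact fun h => hZne ((hnorm _ hZ hZo hZm t _ ht).2 (show t ∈ P by rw [h]; exact Subgroup.mem_top t))
  · exact fun h => hAne ((hnorm _ hA hAo hAm t _ ht).2 (show t ∈ Q by rw [h]; exact Subgroup.mem_top t))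
  · have hw : ∀ (L : List ℕ), (∀ k ∈ L, k ∈ word) → ∀ g : SUF, g ∈ P ⊔ Q → ∀ A, code g = A →
        ∃ g' ∈ P ⊔ Q, code g' = L.foldl (fun A k => mm A (deM k)) A := by
      intro L
      induction L with
      | nil => exact fun _ g hg A e => ⟨g, hg, e⟩
      | cons k L ih =>
        intro hL g hg A e
        obtain ⟨x, hx⟩ := exists_el (F := F) (hW _ (hL k (List.mem_cons_self ..)))
        have hxm : x ∈ P ⊔ Q := by
          rcases hwn _ (hL k (List.mem_cons_self ..)) with h | h
          · exact Subgroup.mem_sup_left ((hnorm _ hZ hZo hZm x _ hx).1 h)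
          · exact Subgroup.mem_sup_right ((hnorm _ hA hAo hAm x _ hx).1 h)
        exact ih (fun j hj => hL j (List.mem_cons_of_mem _ hj)) (g * x) (mul_mem hg hxm) _
          (by rw [code_mul, e, hx])
    obtain ⟨g', hg', eg'⟩ := hw word (fun _ h => h) 1 (one_mem _) _ code_one
    have htm : t ∈ P ⊔ Q := by
      have : t = g' := code_inj (by
        rw [eg', ht, ← hword]
        simp only [okM, Bool.and_eq_true, beq_iff_eq] at ht0
        exact enM_inj (by rw [hword]; exact ht0.2))
      exact this ▸ hg'
    have hgm : ∀ (l : List ℕ) (g : SUF), g ∈ P ⊔ Q → ∀ A, code g = A → (∀ k ∈ l, k ≤ 32) →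
        ∃ g' ∈ P ⊔ Q, code g' = l.foldl (fun A k => mm A (genM k)) A := by
      intro l
      induction l with
      | nil => exact fun g hg A e _ => ⟨g, hg, e⟩
      | cons k l ih =>
        intro g hg A e hl
        obtain ⟨x, hxm, hx⟩ : ∃ x ∈ P ⊔ Q, code x = genM k := by
          rcases Nat.lt_or_ge k 32 with hk | hk
          · have hlen : k < sylList.length := hk
            refine ⟨el ⟨k, hlen⟩, Subgroup.mem_sup_left (hTP (helT _)), ?_⟩
            rw [hel, genM, if_pos hk, List.getD_eq_getElem _ _ hlen]; rfl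
          · exact ⟨t, htm, by rw [ht, genM, if_neg (by omega)]⟩
        exact ih (g * x) (mul_mem hg hxm) _ (by rw [code_mul, e, hx])
          fun j hj => hl j (List.mem_cons_of_mem _ hj)
    have hge := gen_ok
    simp only [Bool.and_eq_true, beq_iff_eq] at hge
    obtain ⟨a, b, ha, hb, hgen⟩ := exists_coded_gens (F := F)
    rw [eq_top_iff, ← hgen, Subgroup.closure_le]
    rintro x (rfl | hx)
    · obtain ⟨g', hg', e⟩ := hgm [1, 32, 17, 32, 4] 1 (one_mem _) _ code_one (by simp)
      have : x = g' := code_inj (enM_inj (by rw [e, ha, ← hge.1]; rfl))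
      exact this ▸ hg'
    · rw [Set.mem_singleton_iff] at hx
      subst hx
      obtain ⟨g', hg', e⟩ := hgm [2, 32, 29] 1 (one_mem _) _ code_one (by simp)
      have : x = g' := code_inj (enM_inj (by rw [e, hb, ← hge.2]; rfl))
      exact this ▸ hg'
  · -- the two subgroups are invariant
    have hTa : ∀ {x : SUF}, a x ∈ T ↔ x ∈ T := fun {x} => by
      conv_lhs => rw [show T = T.map a.toMonoidHom from ha.symm]
      exact Subgroup.mem_map_iff_mem a.injective
    have hZa : ∀ {x : SUF}, a x ∈ Zs ↔ x ∈ Zs := by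
      intro x
      rw [hZchar, hZchar, hTa]
      refine and_congr_right fun _ => ⟨fun h y hy => a.injective ?_, fun h y hy => ?_⟩
      · rw [map_mul, map_mul]; exact h _ (hTa.2 hy)
      · obtain ⟨y, rfl⟩ := a.surjective y
        rw [← map_mul, ← map_mul, h y (hTa.1 hy)]
    have hAa : ∀ {x : SUF}, a x ∈ As ↔ x ∈ As := by
      intro x
      rw [hAchar, hAchar, hTa]
      refine and_congr_right fun _ => ⟨?_, ?_⟩
      · rintro ⟨y, hy, h1, h2, h3⟩
        obtain ⟨y, rfl⟩ := a.surjective y
        refine ⟨y, hTa.1 hy, a.injective (by rw [map_mul, map_mul]; exact h1), fun h => h2 (hZa.2 h),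
          fun z hz e => h3 (a z) (hZa.2 hz) (by rw [← map_mul, e])⟩
      · rintro ⟨y, hy, h1, h2, h3⟩
        refine ⟨a y, hTa.2 hy, by rw [← map_mul, ← map_mul, h1], fun h => h2 (hZa.1 h), fun z hz e => ?_⟩
        obtain ⟨z, rfl⟩ := a.surjective z
        exact h3 z (hZa.1 hz) (a.injective (by rw [map_mul]; exact e))
    have key : ∀ (S : Subgroup SUF), (∀ {x : SUF}, a x ∈ S ↔ x ∈ S) →
        ∀ x ∈ Subgroup.normalizer (S : Set SUF), a x ∈ Subgroup.normalizer (S : Set SUF) := by
      intro S hS x hx
      refine Subgroup.mem_normalizer_iff.2 fun y => ?_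
      obtain ⟨y, rfl⟩ := a.surjective y
      rw [← map_inv, ← map_mul, ← map_mul, hS, hS]
      exact Subgroup.mem_normalizer_iff.1 hx y
    exact ⟨key Zs hZa, key As hAa⟩

end U33

open Cfsg.Agent.PSU33 in
theorem verdict_psu33 {F : Type} [Field F] [Fintype F] (hF : Fintype.card F = 9) :
    Verdict 2 (Cfsg.PSU 3 F 3) := by
  haveI : Fact (Nat.Prime 2) := ⟨Nat.prime_two⟩
  haveI : Fact (Fintype.card F = 9) := ⟨hF⟩
  haveI : IsSimpleGroup (Cfsg.PSU 3 F 3) :=
    Cfsg.Agent.S0283.result (by rw [hF]; norm_num) 3 le_rfl (by norm_num)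
  have h := Cfsg.Agent.S0280.result (F := F) (q := 3) (by rw [hF]; norm_num) 3 (by norm_num)
  have hcard : Nat.card (Cfsg.PSU 3 F 3) = 6048 := by
    norm_num [Finset.prod_range_succ, Nat.even_iff] at h
    omega
  have hb : Function.Bijective (Cfsg.Agent.Classical.suToPSU 3 F 3) :=
    (Nat.bijective_iff_surjective_and_card _).2
      ⟨Cfsg.Agent.Classical.PSUAut.suToPSU_surjective, by rw [card_SU33, hcard]⟩
  haveI : IsSimpleGroup (SU 3 F 3) :=
    IsSimpleGroup.isSimpleGroup_of_surjective (MulEquiv.ofBijective _ hb).symm.toMonoidHom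
      (MulEquiv.ofBijective _ hb).symm.surjective
  exact Verdict.of_equiv (MulEquiv.ofBijective _ hb).symm U33.verdict_su33

end Cfsg.Agent.Lie.PMin
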