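import Cfsg.Prelude.Def_EvenType
import Cfsg.Agent.Lib.Lie.PMin.Classical
import Cfsg.Agent.Lib.Lie.PMin.Linear
import Cfsg.Agent.Lib.Lie.PMin.Point
import Cfsg.Agent.Lib.Lie.PMin.Twist
import Cfsg.Agent.Lib.Lie.PMin.RankOne
import Cfsg.Agent.Lib.Lie.PMin.AltSix
import Cfsg.Agent.Lib.Lie.PMin.PSLEight
import Cfsg.Agent.Lib.Lie.PMin.UThree
import Cfsg.Agent.Lib.Lie.PMin.Tits
import Cfsg.Agent.Lib.Lie.Over.Main

/-!
p-minimal groups with simple generalized Fitting subgroup of Lie type: all families.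
-/

set_option autoImplicit false
set_option linter.style.haveILetI false
set_option maxRecDepth 8000

namespace Cfsg.Agent.Lie.PMin

open Cfsg Cfsg.Lie Cfsg.Agent.Lie Cfsg.Agent.Lie.Chev Cfsg.Agent.Lie.Over

/-- Each simple group of Lie type has the property. -/
theorem verdict_of_chevSimple {K : Type*} [Group K] [Finite K] {p : ℕ} [Fact p.Prime]
    (h : IsChevSimple p K) : Verdict p K := by
  rcases h with h | ⟨rfl, ⟨⟨e⟩⟩ | ⟨F, _, _, hF, ⟨e⟩⟩ | ⟨⟨e⟩⟩⟩ | ⟨rfl, F, _, _, hF, ⟨e⟩⟩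
  rotate_left
  · exact Verdict.of_equiv e verdict_alt_six
  · exact Verdict.of_equiv e (verdict_psu33 hF)
  · exact Verdict.of_equiv (L := TitsGroup) e verdict_tits
  · exact Verdict.of_equiv e (verdict_psl_eight hF)
  rcases h with ⟨F, _, _, _, n, hn, h24, ⟨e⟩⟩ | ⟨F, _, _, _, m, hm, h23, ⟨e⟩⟩ |
    ⟨F, _, _, _, n, q, hF, hn, hn2, ⟨e⟩⟩ | ⟨F, _, _, _, m, hm, hodd, ⟨e⟩⟩ | ⟨F, _, _, _, m, hm, ⟨e⟩⟩ |
    ⟨F, _, _, _, m, a, b, hm, hab, ⟨e⟩⟩ | ⟨F, _, _, _, he⟩ | ⟨F, _, _, _, q, hq, he⟩ |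
    ⟨rfl, hs⟩ | ⟨rfl, F, _, _, m, hm, hK, ⟨e⟩⟩ | ⟨rfl, F, _, _, m, hm, hK, ⟨e⟩⟩
  · exact Verdict.of_equiv e (verdict_psl hn h24)
  · haveI := Cfsg.Agent.S0270.result (F := F) m hm h23
    rcases (show m = 2 ∧ p = 2 ∨ (m = 2 → p ≠ 2) by tauto) with ⟨rfl, rfl⟩ | h4
    · refine Verdict.of_equiv e (verdict_psp_four ?_)
      obtain ⟨n, -, hn⟩ := FiniteField.card F 2
      have := h23 rfl
      rw [hn] at this ⊢
      rcases Nat.lt_or_ge (n : ℕ) 2 with h | h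
      · have : 2 ^ (n : ℕ) ≤ 2 ^ 1 := Nat.pow_le_pow_right (by norm_num) (by omega)
        omega
      · exact (show 2 ^ 2 ≤ 2 ^ (n : ℕ) from Nat.pow_le_pow_right (by norm_num) h)
    · exact Verdict.of_equiv e (verdict_psp (by omega) h4)
  · haveI := Cfsg.Agent.S0283.result hF n hn hn2
    rcases (show n = 3 ∨ 4 ≤ n by omega) with rfl | h4
    · exact Verdict.of_equiv e (verdict_psu_three hF fun h => hn2 ⟨rfl, h⟩)
    · exact Verdict.of_equiv e (verdict_psu hF h4)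
  · exact Verdict.of_equiv e (verdict_omega_odd hm hodd)
  · exact Verdict.of_equiv e (verdict_omega_plus hm)
  · exact Verdict.of_equiv e (verdict_omega_minus hm hab)
  · rcases he with ⟨h3, ⟨e⟩⟩ | ⟨⟨e⟩⟩ | ⟨⟨e⟩⟩ | ⟨⟨e⟩⟩ | ⟨⟨e⟩⟩
    · exact Verdict.of_equiv e (verdict_g2 F h3)
    · exact Verdict.of_equiv e (verdict_f4 F)
    · exact Verdict.of_equiv e (verdict_e6 F)
    · exact Verdict.of_equiv e (verdict_e7 F)
    · exact Verdict.of_equiv e (verdict_e8 F)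
  · rcases he with ⟨hK, ⟨e⟩⟩ | ⟨hK, ⟨e⟩⟩
    · obtain ⟨f, hf⟩ := exists_qPow hq hK
      exact Verdict.of_equiv (L := ↥(E6.datum f hf hK).G₁) e (verdict_twist_e6 f hf hK)
    · obtain ⟨f, hf⟩ := exists_qPow hq hK
      exact Verdict.of_equiv (L := ↥(D4.datum f hf hK).G₁) e (verdict_twist_d4 f hf hK)
  · exact verdict_isoSuzuki hs
  · obtain ⟨_, _, f, hf⟩ := exists_isoFrob Nat.prime_two hK
    exact Verdict.of_equiv (L := ↥(F4.datum f hf hK).G₁) e (verdict_twist_f4 f hf hK)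
  · haveI : CharP F 3 := charP_of_card_eq_prime_pow hK
    exact Verdict.of_equiv e (verdict_ree hm hK)

end Cfsg.Agent.Lie.PMin
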