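import Cfsg.Agent.Lib.Lie.PMin.BN
import Cfsg.Agent.Lib.Grp.Cores

/-!
Groups in which the overgroups of a Sylow subgroup lie in one or two given subgroups.
-/

set_option autoImplicit false

namespace Cfsg.Agent.Lie.PMin

open Cfsg

variable {K : Type*} [Group K] [Finite K] {p : ℕ} [Fact p.Prime]

/-- A core-free criterion turns a proper overgroup of a Sylow subgroup into a local subgroup. -/
theorem exists_core (hK : Over.CoreFreeTop p K) (U : Sylow p K) {H : Subgroup K}
    (hU : (U : Subgroup K) ≤ H) (hH : H ≠ ⊤) :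
    ∃ R : Subgroup K, IsPGroup p R ∧ R ≠ ⊥ ∧ R ≤ H ∧ ∀ g ∈ H, ∀ r ∈ R, g * r * g⁻¹ ∈ R := by
  have hidx : ¬ p ∣ H.index := fun h => U.not_dvd_index (h.trans (Subgroup.index_dvd_of_le hU))
  have hne : Cfsg.pCore p ↥H ≠ ⊥ := fun h => hH (hK H h hidx)
  refine ⟨(Cfsg.pCore p ↥H).map H.subtype, (Grp.pCore_isPGroup (p := p) (G := ↥H)).map _,
    fun h => hne ((Subgroup.map_eq_bot_iff_of_injective _ H.subtype_injective).1 h),
    Subgroup.map_subtype_le _, ?_⟩
  rintro g hg _ ⟨r, hr, rfl⟩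
  exact ⟨⟨g, hg⟩ * r * ⟨g, hg⟩⁻¹, (Grp.pCore_isNormal (p := p) (G := ↥H)).conj_mem r hr _, rfl⟩

theorem map_eq_of_le {a : MulAut K} {P : Subgroup K} (h : P.map a.toMonoidHom ≤ P) :
    P.map a.toMonoidHom = P :=
  Subgroup.eq_of_le_of_card_ge h (Subgroup.card_map_of_injective a.injective).ge

omit [Fact p.Prime] in
/-- A stable pair. -/
theorem verdict_stable [Fact p.Prime] (U₀ : Sylow p K) {P Q : Subgroup K}
    (hne : Subgroup.normalizer ((U₀ : Subgroup K) : Set K) ≠ ⊤)
    (hP : (U₀ : Subgroup K) ≤ P) (hQ : (U₀ : Subgroup K) ≤ Q) (hPt : P ≠ ⊤) (hQt : Q ≠ ⊤)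
    (hsup : P ⊔ Q = ⊤)
    (hfix : ∀ a : MulAut K, (U₀ : Subgroup K).map a.toMonoidHom = (U₀ : Subgroup K) →
      (∀ x ∈ P, a x ∈ P) ∧ ∀ x ∈ Q, a x ∈ Q) : Verdict p K :=
  verdict_of_one U₀ hne fun _ _ hst hsm =>
    absurd hsup (hsm.not_two hP hQ (stable_of_mem fun a ha => (hfix a (hst a ha)).1)
      (stable_of_mem fun a ha => (hfix a (hst a ha)).2) hPt hQt)

/-- One maximal overgroup. -/
theorem verdict_one (U₀ : Sylow p K) {P : Subgroup K}
    (hcov : ∀ H : Subgroup K, (U₀ : Subgroup K) ≤ H → H ≠ ⊤ → H ≤ P)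
    (hPN : P ≤ Subgroup.normalizer ((U₀ : Subgroup K) : Set K))
    (hne : Subgroup.normalizer ((U₀ : Subgroup K) : Set K) ≠ ⊤)
    (hr : IsLieRankOneChar p K) : Verdict p K := by
  refine verdict_of_one U₀ hne fun A _ hst _ => ⟨fun H hH _ hHt => ?_, Or.inl hr⟩
  exact le_antisymm ((hcov H (Subgroup.le_normalizer.trans hH) hHt).trans hPN) hH

/-- Two maximal overgroups: they are exchanged, so the prime is two. -/
theorem verdict_two (U₀ : Sylow p K) {P Q : Subgroup K}
    (hP : (U₀ : Subgroup K) ≤ P) (hQ : (U₀ : Subgroup K) ≤ Q) (hPt : P ≠ ⊤) (hQt : Q ≠ ⊤)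
    (hPQ : ¬ P ≤ Q) (hQP : ¬ Q ≤ P)
    (hcov : ∀ H : Subgroup K, (U₀ : Subgroup K) ≤ H → H ≠ ⊤ → H ≤ P ∨ H ≤ Q)
    (hmeet : P ⊓ Q ≤ Subgroup.normalizer ((U₀ : Subgroup K) : Set K))
    (hne : Subgroup.normalizer ((U₀ : Subgroup K) : Set K) ≠ ⊤)
    (hl : p = 2 → Listed K) : Verdict p K := by
  refine verdict_of_one U₀ hne fun A hA hst hsm => ?_
  have hmove : ∀ a ∈ A, P.map a.toMonoidHom = P ∨ P.map a.toMonoidHom = Q := by
    intro a ha
    have hUa : (U₀ : Subgroup K) ≤ P.map a.toMonoidHom := (hst a ha).ge.trans (Subgroup.map_mono hP)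
    rcases hcov _ hUa ((map_ne_top_iff a).2 hPt) with h | h
    · exact Or.inl (map_eq_of_le h)
    · refine Or.inr (le_antisymm h ?_)
      have hUb : (U₀ : Subgroup K) ≤ Q.comap a.toMonoidHom :=
        Subgroup.map_le_iff_le_comap.1 ((hst a ha).le.trans hQ)
      have hbt : Q.comap a.toMonoidHom ≠ ⊤ := fun e => hQt (by
        rw [← Subgroup.map_comap_eq_self_of_surjective (f := a.toMonoidHom) a.surjective Q, e,
          Subgroup.map_top_of_surjective _ a.surjective])
      have hPb : P ≤ Q.comap a.toMonoidHom := Subgroup.map_le_iff_le_comap.1 h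
      rcases hcov _ hUb hbt with h' | h'
      · rw [← Subgroup.map_comap_eq_self_of_surjective (f := a.toMonoidHom) a.surjective Q]
        exact Subgroup.map_mono h'
      · exact absurd (hPb.trans h') hPQ
  have hmoveQ : ∀ a ∈ A, Q.map a.toMonoidHom = P ∨ Q.map a.toMonoidHom = Q := by
    intro a ha
    have hUa : (U₀ : Subgroup K) ≤ Q.map a.toMonoidHom := (hst a ha).ge.trans (Subgroup.map_mono hQ)
    rcases hcov _ hUa ((map_ne_top_iff a).2 hQt) with h | h
    · refine Or.inl (le_antisymm h ?_)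
      have hUb : (U₀ : Subgroup K) ≤ P.comap a.toMonoidHom :=
        Subgroup.map_le_iff_le_comap.1 ((hst a ha).le.trans hP)
      have hbt : P.comap a.toMonoidHom ≠ ⊤ := fun e => hPt (by
        rw [← Subgroup.map_comap_eq_self_of_surjective (f := a.toMonoidHom) a.surjective P, e,
          Subgroup.map_top_of_surjective _ a.surjective])
      have hQb : Q ≤ P.comap a.toMonoidHom := Subgroup.map_le_iff_le_comap.1 h
      rcases hcov _ hUb hbt with h' | h'
      · exact absurd (hQb.trans h') hQP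
      · rw [← Subgroup.map_comap_eq_self_of_surjective (f := a.toMonoidHom) a.surjective P]
        exact Subgroup.map_mono h'
    · exact Or.inr (map_eq_of_le h)
  have hne' : P ≠ Q := fun e => hPQ e.le
  have hsup : P ⊔ Q = ⊤ := by
    by_contra ht
    rcases hcov _ (hP.trans le_sup_left) ht with h | h
    · exact hQP (le_sup_right.trans h)
    · exact hPQ (le_sup_left.trans h)
  obtain ⟨a, ha, hswap⟩ : ∃ a ∈ A, P.map a.toMonoidHom = Q := by
    by_contra hcon
    push Not at hcon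
    have hPA : Stable A P := fun a ha => (hmove a ha).resolve_right (hcon a ha)
    refine hsm.not_two hP hQ hPA (fun a ha => (hmoveQ a ha).resolve_left fun e => ?_) hPt hQt hsup
    exact hne' ((Subgroup.map_injective (f := a.toMonoidHom) a.injective (e.trans (hPA a ha).symm))).symm
  have hback : Q.map a.toMonoidHom = P := (hmoveQ a ha).resolve_right fun e =>
    hne' (Subgroup.map_injective (f := a.toMonoidHom) a.injective (hswap.trans e.symm))
  have hp2 := eq_two_of_swap hA ha hswap hback hne'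
  refine ⟨fun H hH hHA hHt => le_antisymm (le_trans (le_inf ?_ ?_) hmeet) hH,
    Or.inr ⟨hp2, hl hp2, a, ha, fun u hu e => hne' ?_⟩⟩
  · rcases hcov _ (Subgroup.le_normalizer.trans hH) hHt with h | h
    · exact h
    · rw [← hHA a ha, ← hback]; exact Subgroup.map_mono h
  · rcases hcov _ (Subgroup.le_normalizer.trans hH) hHt with h | h
    · rw [← hHA a ha, ← hswap]; exact Subgroup.map_mono h
    · exact h
  · rw [← hswap, e]
    refine le_antisymm ?_ ?_
    · intro x hx
      exact ⟨u⁻¹ * x * u, mul_mem (mul_mem (inv_mem (hP hu)) hx) (hP hu),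
        show u * (u⁻¹ * x * u) * u⁻¹ = x by group⟩
    · rintro _ ⟨x, hx, rfl⟩
      exact mul_mem (mul_mem (hP hu) hx) (inv_mem (hP hu))

end Cfsg.Agent.Lie.PMin
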